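import Cfsg.Agent.Lib.Helper9.TCData.Sz8C0.Main

set_option autoImplicit false
set_option maxRecDepth 1000000

namespace Cfsg.Agent.Helper9.TCData.Sz8C0
open Cfsg.Agent.Helper9.TC2

theorem e0_8 : allRange 23499 2210 (fun u => chkE tab 0 u) = true := by decide +kernel

theorem e0_9 : allRange 25709 2239 (fun u => chkE tab 0 u) = true := by decide +kernel

theorem e0_10 : allRange 27948 2153 (fun u => chkE tab 0 u) = true := by decide +kernel

theorem e0_11 : allRange 30101 2162 (fun u => chkE tab 0 u) = true := by decide +kernel

theorem e0_12 : allRange 32263 2389 (fun u => chkE tab 0 u) = true := by decide +kernel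

theorem e0_13 : allRange 34652 2189 (fun u => chkE tab 0 u) = true := by decide +kernel

theorem e0_14 : allRange 36841 2688 (fun u => chkE tab 0 u) = true := by decide +kernel

theorem e0_15 : allRange 39529 2988 (fun u => chkE tab 0 u) = true := by decide +kernel


end Cfsg.Agent.Helper9.TCData.Sz8C0
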