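import Cfsg.Agent.Lib.Helper9.TCData.Sz8C0.Main

set_option autoImplicit false
set_option maxRecDepth 1000000

namespace Cfsg.Agent.Helper9.TCData.Sz8C0
open Cfsg.Agent.Helper9.TC2

theorem e3_3 : allRange 12511 3214 (fun u => chkE tab 3 u) = true := by decide +kernel

theorem e3_4 : allRange 15725 3518 (fun u => chkE tab 3 u) = true := by decide +kernel

theorem e3_5 : allRange 19243 3780 (fun u => chkE tab 3 u) = true := by decide +kernel

theorem e3_6 : allRange 23023 3715 (fun u => chkE tab 3 u) = true := by decide +kernel

theorem e3_7 : allRange 26738 3458 (fun u => chkE tab 3 u) = true := by decide +kernel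

theorem e3_8 : allRange 30196 3879 (fun u => chkE tab 3 u) = true := by decide +kernel

theorem e3_9 : allRange 34075 3759 (fun u => chkE tab 3 u) = true := by decide +kernel

theorem e3_10 : allRange 37834 5160 (fun u => chkE tab 3 u) = true := by decide +kernel


end Cfsg.Agent.Helper9.TCData.Sz8C0
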