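import Cfsg.Agent.Lib.Helper9.TCData.Sz8C0.Main

set_option autoImplicit false
set_option maxRecDepth 1000000

namespace Cfsg.Agent.Helper9.TCData.Sz8C0
open Cfsg.Agent.Helper9.TC2

theorem m2_575 : allRange 12650 22 (fun u => chkFix tab mwordsA u) = true := by decide +kernel

theorem m2_576 : allRange 12672 22 (fun u => chkFix tab mwordsA u) = true := by decide +kernel

theorem m2_577 : allRange 12694 22 (fun u => chkFix tab mwordsA u) = true := by decide +kernel

theorem m2_578 : allRange 12716 22 (fun u => chkFix tab mwordsA u) = true := by decide +kernel

theorem m2_579 : allRange 12738 22 (fun u => chkFix tab mwordsA u) = true := by decide +kernel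

theorem m2_580 : allRange 12760 22 (fun u => chkFix tab mwordsA u) = true := by decide +kernel

theorem m2_581 : allRange 12782 22 (fun u => chkFix tab mwordsA u) = true := by decide +kernel

theorem m2_582 : allRange 12804 22 (fun u => chkFix tab mwordsA u) = true := by decide +kernel


end Cfsg.Agent.Helper9.TCData.Sz8C0
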