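import Cfsg.Agent.Lib.Helper9.TCData.Sz8C0.Main

set_option autoImplicit false
set_option maxRecDepth 1000000

namespace Cfsg.Agent.Helper9.TCData.Sz8C0
open Cfsg.Agent.Helper9.TC2

theorem m2_583 : allRange 12826 22 (fun u => chkFix tab mwordsA u) = true := by decide +kernel

theorem m2_584 : allRange 12848 22 (fun u => chkFix tab mwordsA u) = true := by decide +kernel

theorem m2_585 : allRange 12870 22 (fun u => chkFix tab mwordsA u) = true := by decide +kernel

theorem m2_586 : allRange 12892 22 (fun u => chkFix tab mwordsA u) = true := by decide +kernel

theorem m2_587 : allRange 12914 22 (fun u => chkFix tab mwordsA u) = true := by decide +kernel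

theorem m2_588 : allRange 12936 22 (fun u => chkFix tab mwordsA u) = true := by decide +kernel

theorem m2_589 : allRange 12958 22 (fun u => chkFix tab mwordsA u) = true := by decide +kernel

theorem m2_590 : allRange 12980 22 (fun u => chkFix tab mwordsA u) = true := by decide +kernel


end Cfsg.Agent.Helper9.TCData.Sz8C0
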