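import Cfsg.Agent.Lib.Helper9.TCData.Sz8C0.Main

set_option autoImplicit false
set_option maxRecDepth 1000000

namespace Cfsg.Agent.Helper9.TCData.Sz8C0
open Cfsg.Agent.Helper9.TC2

theorem m2_607 : allRange 13354 22 (fun u => chkFix tab mwordsA u) = true := by decide +kernel

theorem m2_608 : allRange 13376 22 (fun u => chkFix tab mwordsA u) = true := by decide +kernel

theorem m2_609 : allRange 13398 22 (fun u => chkFix tab mwordsA u) = true := by decide +kernel

theorem m2_610 : allRange 13420 22 (fun u => chkFix tab mwordsA u) = true := by decide +kernel

theorem m2_611 : allRange 13442 22 (fun u => chkFix tab mwordsA u) = true := by decide +kernel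

theorem m2_612 : allRange 13464 22 (fun u => chkFix tab mwordsA u) = true := by decide +kernel

theorem m2_613 : allRange 13486 22 (fun u => chkFix tab mwordsA u) = true := by decide +kernel

theorem m2_614 : allRange 13508 22 (fun u => chkFix tab mwordsA u) = true := by decide +kernel


end Cfsg.Agent.Helper9.TCData.Sz8C0
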