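import Cfsg.Agent.Lib.Helper9.TCData.Sz8C0.Main

set_option autoImplicit false
set_option maxRecDepth 1000000

namespace Cfsg.Agent.Helper9.TCData.Sz8C0
open Cfsg.Agent.Helper9.TC2

theorem m2_631 : allRange 13882 22 (fun u => chkFix tab mwordsA u) = true := by decide +kernel

theorem m2_632 : allRange 13904 22 (fun u => chkFix tab mwordsA u) = true := by decide +kernel

theorem m2_633 : allRange 13926 22 (fun u => chkFix tab mwordsA u) = true := by decide +kernel

theorem m2_634 : allRange 13948 22 (fun u => chkFix tab mwordsA u) = true := by decide +kernel

theorem m2_635 : allRange 13970 22 (fun u => chkFix tab mwordsA u) = true := by decide +kernel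

theorem m2_636 : allRange 13992 22 (fun u => chkFix tab mwordsA u) = true := by decide +kernel

theorem m2_637 : allRange 14014 22 (fun u => chkFix tab mwordsA u) = true := by decide +kernel

theorem m2_638 : allRange 14036 22 (fun u => chkFix tab mwordsA u) = true := by decide +kernel


end Cfsg.Agent.Helper9.TCData.Sz8C0
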