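import Cfsg.Agent.Lib.Helper9.TCData.Sz8C0.Main

set_option autoImplicit false
set_option maxRecDepth 1000000

namespace Cfsg.Agent.Helper9.TCData.Sz8C0
open Cfsg.Agent.Helper9.TC2

theorem m2_663 : allRange 14586 22 (fun u => chkFix tab mwordsA u) = true := by decide +kernel

theorem m2_664 : allRange 14608 22 (fun u => chkFix tab mwordsA u) = true := by decide +kernel

theorem m2_665 : allRange 14630 22 (fun u => chkFix tab mwordsA u) = true := by decide +kernel

theorem m2_666 : allRange 14652 22 (fun u => chkFix tab mwordsA u) = true := by decide +kernel

theorem m2_667 : allRange 14674 22 (fun u => chkFix tab mwordsA u) = true := by decide +kernel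

theorem m2_668 : allRange 14696 22 (fun u => chkFix tab mwordsA u) = true := by decide +kernel

theorem m2_669 : allRange 14718 22 (fun u => chkFix tab mwordsA u) = true := by decide +kernel

theorem m2_670 : allRange 14740 22 (fun u => chkFix tab mwordsA u) = true := by decide +kernel


end Cfsg.Agent.Helper9.TCData.Sz8C0
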