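import Cfsg.Agent.Lib.Helper9.TCData.Sz8C0.Main

set_option autoImplicit false
set_option maxRecDepth 1000000

namespace Cfsg.Agent.Helper9.TCData.Sz8C0
open Cfsg.Agent.Helper9.TC2

theorem m2_671 : allRange 14762 22 (fun u => chkFix tab mwordsA u) = true := by decide +kernel

theorem m2_672 : allRange 14784 22 (fun u => chkFix tab mwordsA u) = true := by decide +kernel

theorem m2_673 : allRange 14806 22 (fun u => chkFix tab mwordsA u) = true := by decide +kernel

theorem m2_674 : allRange 14828 22 (fun u => chkFix tab mwordsA u) = true := by decide +kernel

theorem m2_675 : allRange 14850 22 (fun u => chkFix tab mwordsA u) = true := by decide +kernel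

theorem m2_676 : allRange 14872 22 (fun u => chkFix tab mwordsA u) = true := by decide +kernel

theorem m2_677 : allRange 14894 22 (fun u => chkFix tab mwordsA u) = true := by decide +kernel

theorem m2_678 : allRange 14916 22 (fun u => chkFix tab mwordsA u) = true := by decide +kernel


end Cfsg.Agent.Helper9.TCData.Sz8C0
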