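import Cfsg.Agent.Lib.Helper9.TCData.Sz8C0.Main

set_option autoImplicit false
set_option maxRecDepth 1000000

namespace Cfsg.Agent.Helper9.TCData.Sz8C0
open Cfsg.Agent.Helper9.TC2

theorem m2_679 : allRange 14938 22 (fun u => chkFix tab mwordsA u) = true := by decide +kernel

theorem m2_680 : allRange 14960 22 (fun u => chkFix tab mwordsA u) = true := by decide +kernel

theorem m2_681 : allRange 14982 22 (fun u => chkFix tab mwordsA u) = true := by decide +kernel

theorem m2_682 : allRange 15004 22 (fun u => chkFix tab mwordsA u) = true := by decide +kernel

theorem m2_683 : allRange 15026 22 (fun u => chkFix tab mwordsA u) = true := by decide +kernel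

theorem m2_684 : allRange 15048 22 (fun u => chkFix tab mwordsA u) = true := by decide +kernel

theorem m2_685 : allRange 15070 22 (fun u => chkFix tab mwordsA u) = true := by decide +kernel

theorem m2_686 : allRange 15092 22 (fun u => chkFix tab mwordsA u) = true := by decide +kernel


end Cfsg.Agent.Helper9.TCData.Sz8C0
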