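import Cfsg.Agent.Lib.Helper9.TCData.Sz8C0.Main

set_option autoImplicit false
set_option maxRecDepth 1000000

namespace Cfsg.Agent.Helper9.TCData.Sz8C0
open Cfsg.Agent.Helper9.TC2

theorem m2_727 : allRange 15994 22 (fun u => chkFix tab mwordsA u) = true := by decide +kernel

theorem m2_728 : allRange 16016 22 (fun u => chkFix tab mwordsA u) = true := by decide +kernel

theorem m2_729 : allRange 16038 22 (fun u => chkFix tab mwordsA u) = true := by decide +kernel

theorem m2_730 : allRange 16060 22 (fun u => chkFix tab mwordsA u) = true := by decide +kernel

theorem m2_731 : allRange 16082 22 (fun u => chkFix tab mwordsA u) = true := by decide +kernel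

theorem m2_732 : allRange 16104 22 (fun u => chkFix tab mwordsA u) = true := by decide +kernel

theorem m2_733 : allRange 16126 22 (fun u => chkFix tab mwordsA u) = true := by decide +kernel

theorem m2_734 : allRange 16148 22 (fun u => chkFix tab mwordsA u) = true := by decide +kernel


end Cfsg.Agent.Helper9.TCData.Sz8C0
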