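import Cfsg.Agent.Lib.Helper9.TCData.Sz8C0.Main

set_option autoImplicit false
set_option maxRecDepth 1000000

namespace Cfsg.Agent.Helper9.TCData.Sz8C0
open Cfsg.Agent.Helper9.TC2

theorem l_8 : allRange 16106 2059 (fun u => chkL tab u) = true := by decide +kernel

theorem l_9 : allRange 18165 1787 (fun u => chkL tab u) = true := by decide +kernel

theorem l_10 : allRange 19952 1925 (fun u => chkL tab u) = true := by decide +kernel

theorem l_11 : allRange 21877 2006 (fun u => chkL tab u) = true := by decide +kernel

theorem l_12 : allRange 23883 1862 (fun u => chkL tab u) = true := by decide +kernel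

theorem l_13 : allRange 25745 1976 (fun u => chkL tab u) = true := by decide +kernel

theorem l_14 : allRange 27721 1844 (fun u => chkL tab u) = true := by decide +kernel

theorem l_15 : allRange 29565 1857 (fun u => chkL tab u) = true := by decide +kernel


end Cfsg.Agent.Helper9.TCData.Sz8C0
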