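import Cfsg.Agent.Lib.Helper9.TCData.Sz8C0.Main

set_option autoImplicit false
set_option maxRecDepth 1000000

namespace Cfsg.Agent.Helper9.TCData.Sz8C0
open Cfsg.Agent.Helper9.TC2

theorem l_24 : allRange 45367 1557 (fun u => chkL tab u) = true := by decide +kernel

theorem l_25 : allRange 46924 1625 (fun u => chkL tab u) = true := by decide +kernel

theorem l_26 : allRange 48549 1536 (fun u => chkL tab u) = true := by decide +kernel

theorem l_27 : allRange 50085 1630 (fun u => chkL tab u) = true := by decide +kernel

theorem l_28 : allRange 51715 1535 (fun u => chkL tab u) = true := by decide +kernel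

theorem l_29 : allRange 53250 1524 (fun u => chkL tab u) = true := by decide +kernel

theorem l_30 : allRange 54774 1402 (fun u => chkL tab u) = true := by decide +kernel

theorem l_31 : allRange 56176 1526 (fun u => chkL tab u) = true := by decide +kernel


end Cfsg.Agent.Helper9.TCData.Sz8C0
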