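import Cfsg.Agent.Lib.Helper9.TCData.Sz8C0.Main

set_option autoImplicit false
set_option maxRecDepth 1000000

namespace Cfsg.Agent.Helper9.TCData.Sz8C0
open Cfsg.Agent.Helper9.TC2

theorem l_32 : allRange 57702 1517 (fun u => chkL tab u) = true := by decide +kernel

theorem l_33 : allRange 59219 1520 (fun u => chkL tab u) = true := by decide +kernel

theorem l_34 : allRange 60739 1447 (fun u => chkL tab u) = true := by decide +kernel

theorem l_35 : allRange 62186 1409 (fun u => chkL tab u) = true := by decide +kernel

theorem l_36 : allRange 63595 1305 (fun u => chkL tab u) = true := by decide +kernel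

theorem l_37 : allRange 64900 1457 (fun u => chkL tab u) = true := by decide +kernel

theorem l_38 : allRange 66357 1478 (fun u => chkL tab u) = true := by decide +kernel

theorem l_39 : allRange 67835 1342 (fun u => chkL tab u) = true := by decide +kernel


end Cfsg.Agent.Helper9.TCData.Sz8C0
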