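import Cfsg.Agent.Lib.Helper9.TCData.Sz8C0.Main

set_option autoImplicit false
set_option maxRecDepth 1000000

namespace Cfsg.Agent.Helper9.TCData.Sz8C0
open Cfsg.Agent.Helper9.TC2

theorem e0_16 : allRange 42517 2831 (fun u => chkE tab 0 u) = true := by decide +kernel

theorem e0_17 : allRange 45348 3719 (fun u => chkE tab 0 u) = true := by decide +kernel

theorem e0_18 : allRange 49067 3094 (fun u => chkE tab 0 u) = true := by decide +kernel

theorem e0_19 : allRange 52161 4132 (fun u => chkE tab 0 u) = true := by decide +kernel

theorem e0_20 : allRange 56293 3235 (fun u => chkE tab 0 u) = true := by decide +kernel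

theorem e0_21 : allRange 59528 3882 (fun u => chkE tab 0 u) = true := by decide +kernel

theorem e0_22 : allRange 63410 3744 (fun u => chkE tab 0 u) = true := by decide +kernel

theorem e0_23 : allRange 67154 2628 (fun u => chkE tab 0 u) = true := by decide +kernel


end Cfsg.Agent.Helper9.TCData.Sz8C0
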