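import Cfsg.Agent.Lib.Helper9.TCData.Sz8C0.Main

set_option autoImplicit false
set_option maxRecDepth 1000000

namespace Cfsg.Agent.Helper9.TCData.Sz8C0
open Cfsg.Agent.Helper9.TC2

theorem f_24 : allRange 13728 572 (fun u => chkFin tab u) = true := by decide +kernel

theorem f_25 : allRange 14300 572 (fun u => chkFin tab u) = true := by decide +kernel

theorem f_26 : allRange 14872 572 (fun u => chkFin tab u) = true := by decide +kernel

theorem f_27 : allRange 15444 572 (fun u => chkFin tab u) = true := by decide +kernel

theorem f_28 : allRange 16016 572 (fun u => chkFin tab u) = true := by decide +kernel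

theorem f_29 : allRange 16588 52 (fun u => chkFin tab u) = true := by decide +kernel

theorem c_0 : allRange 0 2667 (fun u => chkCls tab u) = true := by decide +kernel

theorem c_1 : allRange 2667 2667 (fun u => chkCls tab u) = true := by decide +kernel


end Cfsg.Agent.Helper9.TCData.Sz8C0
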