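import Cfsg.Agent.Lib.Helper9.TCData.Sz8C0.Main

set_option autoImplicit false
set_option maxRecDepth 1000000

namespace Cfsg.Agent.Helper9.TCData.Sz8C0
open Cfsg.Agent.Helper9.TC2

theorem m1_0 : allRange 0 1510 (fun u => chkM1 tab u) = true := by decide +kernel

theorem m1_1 : allRange 1510 1510 (fun u => chkM1 tab u) = true := by decide +kernel

theorem m1_2 : allRange 3020 1510 (fun u => chkM1 tab u) = true := by decide +kernel

theorem m1_3 : allRange 4530 1510 (fun u => chkM1 tab u) = true := by decide +kernel

theorem m1_4 : allRange 6040 1510 (fun u => chkM1 tab u) = true := by decide +kernel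

theorem m1_5 : allRange 7550 1510 (fun u => chkM1 tab u) = true := by decide +kernel

theorem m1_6 : allRange 9060 1510 (fun u => chkM1 tab u) = true := by decide +kernel

theorem m1_7 : allRange 10570 1510 (fun u => chkM1 tab u) = true := by decide +kernel


end Cfsg.Agent.Helper9.TCData.Sz8C0
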