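import Cfsg.Agent.Lib.Helper9.TCData.Sz8C0.Main

set_option autoImplicit false
set_option maxRecDepth 1000000

namespace Cfsg.Agent.Helper9.TCData.Sz8C0
open Cfsg.Agent.Helper9.TC2

theorem ma_4 : allRange 16000 640 (fun u => chkAux tab aux u) = true := by decide +kernel

theorem m2_0 : allRange 0 22 (fun u => chkFix tab mwordsA u) = true := by decide +kernel

theorem m2_1 : allRange 22 22 (fun u => chkFix tab mwordsA u) = true := by decide +kernel

theorem m2_2 : allRange 44 22 (fun u => chkFix tab mwordsA u) = true := by decide +kernel

theorem m2_3 : allRange 66 22 (fun u => chkFix tab mwordsA u) = true := by decide +kernel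

theorem m2_4 : allRange 88 22 (fun u => chkFix tab mwordsA u) = true := by decide +kernel

theorem m2_5 : allRange 110 22 (fun u => chkFix tab mwordsA u) = true := by decide +kernel

theorem m2_6 : allRange 132 22 (fun u => chkFix tab mwordsA u) = true := by decide +kernel


end Cfsg.Agent.Helper9.TCData.Sz8C0
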