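import Cfsg.Agent.Lib.Helper9.TCData.Sz8C0.Main

set_option autoImplicit false
set_option maxRecDepth 1000000

namespace Cfsg.Agent.Helper9.TCData.Sz8C0
open Cfsg.Agent.Helper9.TC2

theorem m2_63 : allRange 1386 22 (fun u => chkFix tab mwordsA u) = true := by decide +kernel

theorem m2_64 : allRange 1408 22 (fun u => chkFix tab mwordsA u) = true := by decide +kernel

theorem m2_65 : allRange 1430 22 (fun u => chkFix tab mwordsA u) = true := by decide +kernel

theorem m2_66 : allRange 1452 22 (fun u => chkFix tab mwordsA u) = true := by decide +kernel

theorem m2_67 : allRange 1474 22 (fun u => chkFix tab mwordsA u) = true := by decide +kernel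

theorem m2_68 : allRange 1496 22 (fun u => chkFix tab mwordsA u) = true := by decide +kernel

theorem m2_69 : allRange 1518 22 (fun u => chkFix tab mwordsA u) = true := by decide +kernel

theorem m2_70 : allRange 1540 22 (fun u => chkFix tab mwordsA u) = true := by decide +kernel


end Cfsg.Agent.Helper9.TCData.Sz8C0
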