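import Cfsg.Agent.Lib.Helper9.TCData.Sz8C0.Main

set_option autoImplicit false
set_option maxRecDepth 1000000

namespace Cfsg.Agent.Helper9.TCData.Sz8C0
open Cfsg.Agent.Helper9.TC2

theorem m2_71 : allRange 1562 22 (fun u => chkFix tab mwordsA u) = true := by decide +kernel

theorem m2_72 : allRange 1584 22 (fun u => chkFix tab mwordsA u) = true := by decide +kernel

theorem m2_73 : allRange 1606 22 (fun u => chkFix tab mwordsA u) = true := by decide +kernel

theorem m2_74 : allRange 1628 22 (fun u => chkFix tab mwordsA u) = true := by decide +kernel

theorem m2_75 : allRange 1650 22 (fun u => chkFix tab mwordsA u) = true := by decide +kernel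

theorem m2_76 : allRange 1672 22 (fun u => chkFix tab mwordsA u) = true := by decide +kernel

theorem m2_77 : allRange 1694 22 (fun u => chkFix tab mwordsA u) = true := by decide +kernel

theorem m2_78 : allRange 1716 22 (fun u => chkFix tab mwordsA u) = true := by decide +kernel


end Cfsg.Agent.Helper9.TCData.Sz8C0
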