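import Cfsg.Agent.Lib.Helper9.TCData.Sz8C0.Main

set_option autoImplicit false
set_option maxRecDepth 1000000

namespace Cfsg.Agent.Helper9.TCData.Sz8C0
open Cfsg.Agent.Helper9.TC2

theorem m2_79 : allRange 1738 22 (fun u => chkFix tab mwordsA u) = true := by decide +kernel

theorem m2_80 : allRange 1760 22 (fun u => chkFix tab mwordsA u) = true := by decide +kernel

theorem m2_81 : allRange 1782 22 (fun u => chkFix tab mwordsA u) = true := by decide +kernel

theorem m2_82 : allRange 1804 22 (fun u => chkFix tab mwordsA u) = true := by decide +kernel

theorem m2_83 : allRange 1826 22 (fun u => chkFix tab mwordsA u) = true := by decide +kernel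

theorem m2_84 : allRange 1848 22 (fun u => chkFix tab mwordsA u) = true := by decide +kernel

theorem m2_85 : allRange 1870 22 (fun u => chkFix tab mwordsA u) = true := by decide +kernel

theorem m2_86 : allRange 1892 22 (fun u => chkFix tab mwordsA u) = true := by decide +kernel


end Cfsg.Agent.Helper9.TCData.Sz8C0
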