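import Cfsg.Agent.Lib.Helper9.TCData.Sz8C0.Main

set_option autoImplicit false
set_option maxRecDepth 1000000

namespace Cfsg.Agent.Helper9.TCData.Sz8C0
open Cfsg.Agent.Helper9.TC2

theorem e1_4 : allRange 12823 3070 (fun u => chkE tab 1 u) = true := by decide +kernel

theorem e1_5 : allRange 15893 2677 (fun u => chkE tab 1 u) = true := by decide +kernel

theorem e1_6 : allRange 18570 2595 (fun u => chkE tab 1 u) = true := by decide +kernel

theorem e1_7 : allRange 21165 2557 (fun u => chkE tab 1 u) = true := by decide +kernel

theorem e1_8 : allRange 23722 2455 (fun u => chkE tab 1 u) = true := by decide +kernel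

theorem e1_9 : allRange 26177 2528 (fun u => chkE tab 1 u) = true := by decide +kernel

theorem e1_10 : allRange 28705 2493 (fun u => chkE tab 1 u) = true := by decide +kernel

theorem e1_11 : allRange 31198 2424 (fun u => chkE tab 1 u) = true := by decide +kernel


end Cfsg.Agent.Helper9.TCData.Sz8C0
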