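import Cfsg.Agent.Lib.Helper9.TCData.Sz8C0.Main

set_option autoImplicit false
set_option maxRecDepth 1000000

namespace Cfsg.Agent.Helper9.TCData.Sz8C0
open Cfsg.Agent.Helper9.TC2

theorem m2_159 : allRange 3498 22 (fun u => chkFix tab mwordsA u) = true := by decide +kernel

theorem m2_160 : allRange 3520 22 (fun u => chkFix tab mwordsA u) = true := by decide +kernel

theorem m2_161 : allRange 3542 22 (fun u => chkFix tab mwordsA u) = true := by decide +kernel

theorem m2_162 : allRange 3564 22 (fun u => chkFix tab mwordsA u) = true := by decide +kernel

theorem m2_163 : allRange 3586 22 (fun u => chkFix tab mwordsA u) = true := by decide +kernel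

theorem m2_164 : allRange 3608 22 (fun u => chkFix tab mwordsA u) = true := by decide +kernel

theorem m2_165 : allRange 3630 22 (fun u => chkFix tab mwordsA u) = true := by decide +kernel

theorem m2_166 : allRange 3652 22 (fun u => chkFix tab mwordsA u) = true := by decide +kernel


end Cfsg.Agent.Helper9.TCData.Sz8C0
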