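import Cfsg.Agent.Lib.Helper9.TCData.Sz8C0.Main

set_option autoImplicit false
set_option maxRecDepth 1000000

namespace Cfsg.Agent.Helper9.TCData.Sz8C0
open Cfsg.Agent.Helper9.TC2

theorem e1_12 : allRange 33622 2513 (fun u => chkE tab 1 u) = true := by decide +kernel

theorem e1_13 : allRange 36135 3164 (fun u => chkE tab 1 u) = true := by decide +kernel

theorem e1_14 : allRange 39299 3678 (fun u => chkE tab 1 u) = true := by decide +kernel

theorem e1_15 : allRange 42977 3922 (fun u => chkE tab 1 u) = true := by decide +kernel

theorem e1_16 : allRange 46899 3763 (fun u => chkE tab 1 u) = true := by decide +kernel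

theorem e1_17 : allRange 50662 3944 (fun u => chkE tab 1 u) = true := by decide +kernel

theorem e1_18 : allRange 54606 4249 (fun u => chkE tab 1 u) = true := by decide +kernel

theorem e1_19 : allRange 58855 3666 (fun u => chkE tab 1 u) = true := by decide +kernel


end Cfsg.Agent.Helper9.TCData.Sz8C0
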