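import Cfsg.Agent.Lib.Helper9.TCData.Sz8C0.Main

set_option autoImplicit false
set_option maxRecDepth 1000000

namespace Cfsg.Agent.Helper9.TCData.Sz8C0
open Cfsg.Agent.Helper9.TC2

theorem m2_183 : allRange 4026 22 (fun u => chkFix tab mwordsA u) = true := by decide +kernel

theorem m2_184 : allRange 4048 22 (fun u => chkFix tab mwordsA u) = true := by decide +kernel

theorem m2_185 : allRange 4070 22 (fun u => chkFix tab mwordsA u) = true := by decide +kernel

theorem m2_186 : allRange 4092 22 (fun u => chkFix tab mwordsA u) = true := by decide +kernel

theorem m2_187 : allRange 4114 22 (fun u => chkFix tab mwordsA u) = true := by decide +kernel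

theorem m2_188 : allRange 4136 22 (fun u => chkFix tab mwordsA u) = true := by decide +kernel

theorem m2_189 : allRange 4158 22 (fun u => chkFix tab mwordsA u) = true := by decide +kernel

theorem m2_190 : allRange 4180 22 (fun u => chkFix tab mwordsA u) = true := by decide +kernel


end Cfsg.Agent.Helper9.TCData.Sz8C0
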