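import Cfsg.Agent.Lib.Helper9.TCData.Sz8C0.Main

set_option autoImplicit false
set_option maxRecDepth 1000000

namespace Cfsg.Agent.Helper9.TCData.Sz8C0
open Cfsg.Agent.Helper9.TC2

theorem e1_20 : allRange 62521 4188 (fun u => chkE tab 1 u) = true := by decide +kernel

theorem e1_21 : allRange 66709 3197 (fun u => chkE tab 1 u) = true := by decide +kernel

theorem e1_22 : allRange 69906 992 (fun u => chkE tab 1 u) = true := by decide +kernel

theorem e1_23 : allRange 70898 919 (fun u => chkE tab 1 u) = true := by decide +kernel

theorem e1_24 : allRange 71817 875 (fun u => chkE tab 1 u) = true := by decide +kernel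

theorem e1_25 : allRange 72692 729 (fun u => chkE tab 1 u) = true := by decide +kernel

theorem e2_0 : allRange 0 4663 (fun u => chkE tab 2 u) = true := by decide +kernel

theorem e2_1 : allRange 4663 3616 (fun u => chkE tab 2 u) = true := by decide +kernel


end Cfsg.Agent.Helper9.TCData.Sz8C0
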