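import Cfsg.Agent.Lib.Helper9.TCData.Sz8C0.Main

set_option autoImplicit false
set_option maxRecDepth 1000000

namespace Cfsg.Agent.Helper9.TCData.Sz8C0
open Cfsg.Agent.Helper9.TC2

theorem m2_263 : allRange 5786 22 (fun u => chkFix tab mwordsA u) = true := by decide +kernel

theorem m2_264 : allRange 5808 22 (fun u => chkFix tab mwordsA u) = true := by decide +kernel

theorem m2_265 : allRange 5830 22 (fun u => chkFix tab mwordsA u) = true := by decide +kernel

theorem m2_266 : allRange 5852 22 (fun u => chkFix tab mwordsA u) = true := by decide +kernel

theorem m2_267 : allRange 5874 22 (fun u => chkFix tab mwordsA u) = true := by decide +kernel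

theorem m2_268 : allRange 5896 22 (fun u => chkFix tab mwordsA u) = true := by decide +kernel

theorem m2_269 : allRange 5918 22 (fun u => chkFix tab mwordsA u) = true := by decide +kernel

theorem m2_270 : allRange 5940 22 (fun u => chkFix tab mwordsA u) = true := by decide +kernel


end Cfsg.Agent.Helper9.TCData.Sz8C0
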