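import Cfsg.Agent.Lib.Helper9.TCData.Sz8C0.Main

set_option autoImplicit false
set_option maxRecDepth 1000000

namespace Cfsg.Agent.Helper9.TCData.Sz8C0
open Cfsg.Agent.Helper9.TC2

theorem m2_279 : allRange 6138 22 (fun u => chkFix tab mwordsA u) = true := by decide +kernel

theorem m2_280 : allRange 6160 22 (fun u => chkFix tab mwordsA u) = true := by decide +kernel

theorem m2_281 : allRange 6182 22 (fun u => chkFix tab mwordsA u) = true := by decide +kernel

theorem m2_282 : allRange 6204 22 (fun u => chkFix tab mwordsA u) = true := by decide +kernel

theorem m2_283 : allRange 6226 22 (fun u => chkFix tab mwordsA u) = true := by decide +kernel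

theorem m2_284 : allRange 6248 22 (fun u => chkFix tab mwordsA u) = true := by decide +kernel

theorem m2_285 : allRange 6270 22 (fun u => chkFix tab mwordsA u) = true := by decide +kernel

theorem m2_286 : allRange 6292 22 (fun u => chkFix tab mwordsA u) = true := by decide +kernel


end Cfsg.Agent.Helper9.TCData.Sz8C0
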