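import Cfsg.Agent.Lib.Helper9.TCData.Sz8C0.Main

set_option autoImplicit false
set_option maxRecDepth 1000000

namespace Cfsg.Agent.Helper9.TCData.Sz8C0
open Cfsg.Agent.Helper9.TC2

theorem e2_2 : allRange 8279 3292 (fun u => chkE tab 2 u) = true := by decide +kernel

theorem e2_3 : allRange 11571 3058 (fun u => chkE tab 2 u) = true := by decide +kernel

theorem e2_4 : allRange 14629 3444 (fun u => chkE tab 2 u) = true := by decide +kernel

theorem e2_5 : allRange 18073 2978 (fun u => chkE tab 2 u) = true := by decide +kernel

theorem e2_6 : allRange 21051 3403 (fun u => chkE tab 2 u) = true := by decide +kernel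

theorem e2_7 : allRange 24454 3140 (fun u => chkE tab 2 u) = true := by decide +kernel

theorem e2_8 : allRange 27594 3371 (fun u => chkE tab 2 u) = true := by decide +kernel

theorem e2_9 : allRange 30965 3531 (fun u => chkE tab 2 u) = true := by decide +kernel


end Cfsg.Agent.Helper9.TCData.Sz8C0
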