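import Cfsg.Agent.Lib.Helper9.TCData.Sz8C0.Main

set_option autoImplicit false
set_option maxRecDepth 1000000

namespace Cfsg.Agent.Helper9.TCData.Sz8C0
open Cfsg.Agent.Helper9.TC2

theorem m2_351 : allRange 7722 22 (fun u => chkFix tab mwordsA u) = true := by decide +kernel

theorem m2_352 : allRange 7744 22 (fun u => chkFix tab mwordsA u) = true := by decide +kernel

theorem m2_353 : allRange 7766 22 (fun u => chkFix tab mwordsA u) = true := by decide +kernel

theorem m2_354 : allRange 7788 22 (fun u => chkFix tab mwordsA u) = true := by decide +kernel

theorem m2_355 : allRange 7810 22 (fun u => chkFix tab mwordsA u) = true := by decide +kernel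

theorem m2_356 : allRange 7832 22 (fun u => chkFix tab mwordsA u) = true := by decide +kernel

theorem m2_357 : allRange 7854 22 (fun u => chkFix tab mwordsA u) = true := by decide +kernel

theorem m2_358 : allRange 7876 22 (fun u => chkFix tab mwordsA u) = true := by decide +kernel


end Cfsg.Agent.Helper9.TCData.Sz8C0
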