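import Cfsg.Agent.Lib.Helper9.TCData.Sz8C0.Main

set_option autoImplicit false
set_option maxRecDepth 1000000

namespace Cfsg.Agent.Helper9.TCData.Sz8C0
open Cfsg.Agent.Helper9.TC2

theorem m2_367 : allRange 8074 22 (fun u => chkFix tab mwordsA u) = true := by decide +kernel

theorem m2_368 : allRange 8096 22 (fun u => chkFix tab mwordsA u) = true := by decide +kernel

theorem m2_369 : allRange 8118 22 (fun u => chkFix tab mwordsA u) = true := by decide +kernel

theorem m2_370 : allRange 8140 22 (fun u => chkFix tab mwordsA u) = true := by decide +kernel

theorem m2_371 : allRange 8162 22 (fun u => chkFix tab mwordsA u) = true := by decide +kernel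

theorem m2_372 : allRange 8184 22 (fun u => chkFix tab mwordsA u) = true := by decide +kernel

theorem m2_373 : allRange 8206 22 (fun u => chkFix tab mwordsA u) = true := by decide +kernel

theorem m2_374 : allRange 8228 22 (fun u => chkFix tab mwordsA u) = true := by decide +kernel


end Cfsg.Agent.Helper9.TCData.Sz8C0
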