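import Cfsg.Agent.Lib.Helper9.TCData.Sz8C0.Main

set_option autoImplicit false
set_option maxRecDepth 1000000

namespace Cfsg.Agent.Helper9.TCData.Sz8C0
open Cfsg.Agent.Helper9.TC2

theorem m2_375 : allRange 8250 22 (fun u => chkFix tab mwordsA u) = true := by decide +kernel

theorem m2_376 : allRange 8272 22 (fun u => chkFix tab mwordsA u) = true := by decide +kernel

theorem m2_377 : allRange 8294 22 (fun u => chkFix tab mwordsA u) = true := by decide +kernel

theorem m2_378 : allRange 8316 22 (fun u => chkFix tab mwordsA u) = true := by decide +kernel

theorem m2_379 : allRange 8338 22 (fun u => chkFix tab mwordsA u) = true := by decide +kernel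

theorem m2_380 : allRange 8360 22 (fun u => chkFix tab mwordsA u) = true := by decide +kernel

theorem m2_381 : allRange 8382 22 (fun u => chkFix tab mwordsA u) = true := by decide +kernel

theorem m2_382 : allRange 8404 22 (fun u => chkFix tab mwordsA u) = true := by decide +kernel


end Cfsg.Agent.Helper9.TCData.Sz8C0
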