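import Cfsg.Agent.Lib.Helper9.TCData.Sz8C0.Main

set_option autoImplicit false
set_option maxRecDepth 1000000

namespace Cfsg.Agent.Helper9.TCData.Sz8C0
open Cfsg.Agent.Helper9.TC2

theorem m2_383 : allRange 8426 22 (fun u => chkFix tab mwordsA u) = true := by decide +kernel

theorem m2_384 : allRange 8448 22 (fun u => chkFix tab mwordsA u) = true := by decide +kernel

theorem m2_385 : allRange 8470 22 (fun u => chkFix tab mwordsA u) = true := by decide +kernel

theorem m2_386 : allRange 8492 22 (fun u => chkFix tab mwordsA u) = true := by decide +kernel

theorem m2_387 : allRange 8514 22 (fun u => chkFix tab mwordsA u) = true := by decide +kernel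

theorem m2_388 : allRange 8536 22 (fun u => chkFix tab mwordsA u) = true := by decide +kernel

theorem m2_389 : allRange 8558 22 (fun u => chkFix tab mwordsA u) = true := by decide +kernel

theorem m2_390 : allRange 8580 22 (fun u => chkFix tab mwordsA u) = true := by decide +kernel


end Cfsg.Agent.Helper9.TCData.Sz8C0
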