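import Cfsg.Agent.Lib.Helper9.TCData.Sz8C0.Main

set_option autoImplicit false
set_option maxRecDepth 1000000

namespace Cfsg.Agent.Helper9.TCData.Sz8C0
open Cfsg.Agent.Helper9.TC2

theorem m2_391 : allRange 8602 22 (fun u => chkFix tab mwordsA u) = true := by decide +kernel

theorem m2_392 : allRange 8624 22 (fun u => chkFix tab mwordsA u) = true := by decide +kernel

theorem m2_393 : allRange 8646 22 (fun u => chkFix tab mwordsA u) = true := by decide +kernel

theorem m2_394 : allRange 8668 22 (fun u => chkFix tab mwordsA u) = true := by decide +kernel

theorem m2_395 : allRange 8690 22 (fun u => chkFix tab mwordsA u) = true := by decide +kernel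

theorem m2_396 : allRange 8712 22 (fun u => chkFix tab mwordsA u) = true := by decide +kernel

theorem m2_397 : allRange 8734 22 (fun u => chkFix tab mwordsA u) = true := by decide +kernel

theorem m2_398 : allRange 8756 22 (fun u => chkFix tab mwordsA u) = true := by decide +kernel


end Cfsg.Agent.Helper9.TCData.Sz8C0
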