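import Cfsg.Agent.Lib.Helper9.TCData.Sz8C0.Main

set_option autoImplicit false
set_option maxRecDepth 1000000

namespace Cfsg.Agent.Helper9.TCData.Sz8C0
open Cfsg.Agent.Helper9.TC2

theorem m2_399 : allRange 8778 22 (fun u => chkFix tab mwordsA u) = true := by decide +kernel

theorem m2_400 : allRange 8800 22 (fun u => chkFix tab mwordsA u) = true := by decide +kernel

theorem m2_401 : allRange 8822 22 (fun u => chkFix tab mwordsA u) = true := by decide +kernel

theorem m2_402 : allRange 8844 22 (fun u => chkFix tab mwordsA u) = true := by decide +kernel

theorem m2_403 : allRange 8866 22 (fun u => chkFix tab mwordsA u) = true := by decide +kernel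

theorem m2_404 : allRange 8888 22 (fun u => chkFix tab mwordsA u) = true := by decide +kernel

theorem m2_405 : allRange 8910 22 (fun u => chkFix tab mwordsA u) = true := by decide +kernel

theorem m2_406 : allRange 8932 22 (fun u => chkFix tab mwordsA u) = true := by decide +kernel


end Cfsg.Agent.Helper9.TCData.Sz8C0
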