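import Cfsg.Agent.Lib.Helper9.TCData.Sz8C0.Main

set_option autoImplicit false
set_option maxRecDepth 1000000

namespace Cfsg.Agent.Helper9.TCData.Sz8C0
open Cfsg.Agent.Helper9.TC2

theorem e2_10 : allRange 34496 3201 (fun u => chkE tab 2 u) = true := by decide +kernel

theorem e2_11 : allRange 37697 3515 (fun u => chkE tab 2 u) = true := by decide +kernel

theorem e2_12 : allRange 41212 3864 (fun u => chkE tab 2 u) = true := by decide +kernel

theorem e2_13 : allRange 45076 3938 (fun u => chkE tab 2 u) = true := by decide +kernel

theorem e2_14 : allRange 49014 3488 (fun u => chkE tab 2 u) = true := by decide +kernel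

theorem e2_15 : allRange 52502 4860 (fun u => chkE tab 2 u) = true := by decide +kernel

theorem e2_16 : allRange 57362 4756 (fun u => chkE tab 2 u) = true := by decide +kernel

theorem e2_17 : allRange 62118 4378 (fun u => chkE tab 2 u) = true := by decide +kernel


end Cfsg.Agent.Helper9.TCData.Sz8C0
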