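import Cfsg.Agent.Lib.Helper9.TCData.Sz8C0.Main

set_option autoImplicit false
set_option maxRecDepth 1000000

namespace Cfsg.Agent.Helper9.TCData.Sz8C0
open Cfsg.Agent.Helper9.TC2

theorem m2_407 : allRange 8954 22 (fun u => chkFix tab mwordsA u) = true := by decide +kernel

theorem m2_408 : allRange 8976 22 (fun u => chkFix tab mwordsA u) = true := by decide +kernel

theorem m2_409 : allRange 8998 22 (fun u => chkFix tab mwordsA u) = true := by decide +kernel

theorem m2_410 : allRange 9020 22 (fun u => chkFix tab mwordsA u) = true := by decide +kernel

theorem m2_411 : allRange 9042 22 (fun u => chkFix tab mwordsA u) = true := by decide +kernel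

theorem m2_412 : allRange 9064 22 (fun u => chkFix tab mwordsA u) = true := by decide +kernel

theorem m2_413 : allRange 9086 22 (fun u => chkFix tab mwordsA u) = true := by decide +kernel

theorem m2_414 : allRange 9108 22 (fun u => chkFix tab mwordsA u) = true := by decide +kernel


end Cfsg.Agent.Helper9.TCData.Sz8C0
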