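import Cfsg.Agent.Lib.Helper9.TCData.Sz8C0.Main

set_option autoImplicit false
set_option maxRecDepth 1000000

namespace Cfsg.Agent.Helper9.TCData.Sz8C0
open Cfsg.Agent.Helper9.TC2

theorem m2_415 : allRange 9130 22 (fun u => chkFix tab mwordsA u) = true := by decide +kernel

theorem m2_416 : allRange 9152 22 (fun u => chkFix tab mwordsA u) = true := by decide +kernel

theorem m2_417 : allRange 9174 22 (fun u => chkFix tab mwordsA u) = true := by decide +kernel

theorem m2_418 : allRange 9196 22 (fun u => chkFix tab mwordsA u) = true := by decide +kernel

theorem m2_419 : allRange 9218 22 (fun u => chkFix tab mwordsA u) = true := by decide +kernel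

theorem m2_420 : allRange 9240 22 (fun u => chkFix tab mwordsA u) = true := by decide +kernel

theorem m2_421 : allRange 9262 22 (fun u => chkFix tab mwordsA u) = true := by decide +kernel

theorem m2_422 : allRange 9284 22 (fun u => chkFix tab mwordsA u) = true := by decide +kernel


end Cfsg.Agent.Helper9.TCData.Sz8C0
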