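import Cfsg.Agent.Lib.Helper9.TCData.Sz8C0.Main

set_option autoImplicit false
set_option maxRecDepth 1000000

namespace Cfsg.Agent.Helper9.TCData.Sz8C0
open Cfsg.Agent.Helper9.TC2

theorem m2_423 : allRange 9306 22 (fun u => chkFix tab mwordsA u) = true := by decide +kernel

theorem m2_424 : allRange 9328 22 (fun u => chkFix tab mwordsA u) = true := by decide +kernel

theorem m2_425 : allRange 9350 22 (fun u => chkFix tab mwordsA u) = true := by decide +kernel

theorem m2_426 : allRange 9372 22 (fun u => chkFix tab mwordsA u) = true := by decide +kernel

theorem m2_427 : allRange 9394 22 (fun u => chkFix tab mwordsA u) = true := by decide +kernel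

theorem m2_428 : allRange 9416 22 (fun u => chkFix tab mwordsA u) = true := by decide +kernel

theorem m2_429 : allRange 9438 22 (fun u => chkFix tab mwordsA u) = true := by decide +kernel

theorem m2_430 : allRange 9460 22 (fun u => chkFix tab mwordsA u) = true := by decide +kernel


end Cfsg.Agent.Helper9.TCData.Sz8C0
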