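import Cfsg.Agent.Lib.Helper9.TCData.Sz8C0.Main

set_option autoImplicit false
set_option maxRecDepth 1000000

namespace Cfsg.Agent.Helper9.TCData.Sz8C0
open Cfsg.Agent.Helper9.TC2

theorem m2_439 : allRange 9658 22 (fun u => chkFix tab mwordsA u) = true := by decide +kernel

theorem m2_440 : allRange 9680 22 (fun u => chkFix tab mwordsA u) = true := by decide +kernel

theorem m2_441 : allRange 9702 22 (fun u => chkFix tab mwordsA u) = true := by decide +kernel

theorem m2_442 : allRange 9724 22 (fun u => chkFix tab mwordsA u) = true := by decide +kernel

theorem m2_443 : allRange 9746 22 (fun u => chkFix tab mwordsA u) = true := by decide +kernel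

theorem m2_444 : allRange 9768 22 (fun u => chkFix tab mwordsA u) = true := by decide +kernel

theorem m2_445 : allRange 9790 22 (fun u => chkFix tab mwordsA u) = true := by decide +kernel

theorem m2_446 : allRange 9812 22 (fun u => chkFix tab mwordsA u) = true := by decide +kernel


end Cfsg.Agent.Helper9.TCData.Sz8C0
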