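import Cfsg.Agent.Lib.Helper9.TCData.Sz8C0.Main

set_option autoImplicit false
set_option maxRecDepth 1000000

namespace Cfsg.Agent.Helper9.TCData.Sz8C0
open Cfsg.Agent.Helper9.TC2

theorem m2_463 : allRange 10186 22 (fun u => chkFix tab mwordsA u) = true := by decide +kernel

theorem m2_464 : allRange 10208 22 (fun u => chkFix tab mwordsA u) = true := by decide +kernel

theorem m2_465 : allRange 10230 22 (fun u => chkFix tab mwordsA u) = true := by decide +kernel

theorem m2_466 : allRange 10252 22 (fun u => chkFix tab mwordsA u) = true := by decide +kernel

theorem m2_467 : allRange 10274 22 (fun u => chkFix tab mwordsA u) = true := by decide +kernel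

theorem m2_468 : allRange 10296 22 (fun u => chkFix tab mwordsA u) = true := by decide +kernel

theorem m2_469 : allRange 10318 22 (fun u => chkFix tab mwordsA u) = true := by decide +kernel

theorem m2_470 : allRange 10340 22 (fun u => chkFix tab mwordsA u) = true := by decide +kernel


end Cfsg.Agent.Helper9.TCData.Sz8C0
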