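import Cfsg.Agent.Lib.Helper9.TCData.Sz8C0.Main

set_option autoImplicit false
set_option maxRecDepth 1000000

namespace Cfsg.Agent.Helper9.TCData.Sz8C0
open Cfsg.Agent.Helper9.TC2

theorem m2_471 : allRange 10362 22 (fun u => chkFix tab mwordsA u) = true := by decide +kernel

theorem m2_472 : allRange 10384 22 (fun u => chkFix tab mwordsA u) = true := by decide +kernel

theorem m2_473 : allRange 10406 22 (fun u => chkFix tab mwordsA u) = true := by decide +kernel

theorem m2_474 : allRange 10428 22 (fun u => chkFix tab mwordsA u) = true := by decide +kernel

theorem m2_475 : allRange 10450 22 (fun u => chkFix tab mwordsA u) = true := by decide +kernel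

theorem m2_476 : allRange 10472 22 (fun u => chkFix tab mwordsA u) = true := by decide +kernel

theorem m2_477 : allRange 10494 22 (fun u => chkFix tab mwordsA u) = true := by decide +kernel

theorem m2_478 : allRange 10516 22 (fun u => chkFix tab mwordsA u) = true := by decide +kernel


end Cfsg.Agent.Helper9.TCData.Sz8C0
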