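import Cfsg.Agent.Lib.Helper9.TCData.Sz8C0.Main

set_option autoImplicit false
set_option maxRecDepth 1000000

namespace Cfsg.Agent.Helper9.TCData.Sz8C0
open Cfsg.Agent.Helper9.TC2

theorem e2_18 : allRange 66496 3167 (fun u => chkE tab 2 u) = true := by decide +kernel

theorem e2_19 : allRange 69663 1006 (fun u => chkE tab 2 u) = true := by decide +kernel

theorem e2_20 : allRange 70669 1079 (fun u => chkE tab 2 u) = true := by decide +kernel

theorem e2_21 : allRange 71748 895 (fun u => chkE tab 2 u) = true := by decide +kernel

theorem e2_22 : allRange 72643 778 (fun u => chkE tab 2 u) = true := by decide +kernel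

theorem e3_0 : allRange 0 4841 (fun u => chkE tab 3 u) = true := by decide +kernel

theorem e3_1 : allRange 4841 4028 (fun u => chkE tab 3 u) = true := by decide +kernel

theorem e3_2 : allRange 8869 3642 (fun u => chkE tab 3 u) = true := by decide +kernel


end Cfsg.Agent.Helper9.TCData.Sz8C0
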