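import Cfsg.Agent.Lib.Helper9.TCData.Sz8C0.Main

set_option autoImplicit false
set_option maxRecDepth 1000000

namespace Cfsg.Agent.Helper9.TCData.Sz8C0
open Cfsg.Agent.Helper9.TC2

theorem m2_495 : allRange 10890 22 (fun u => chkFix tab mwordsA u) = true := by decide +kernel

theorem m2_496 : allRange 10912 22 (fun u => chkFix tab mwordsA u) = true := by decide +kernel

theorem m2_497 : allRange 10934 22 (fun u => chkFix tab mwordsA u) = true := by decide +kernel

theorem m2_498 : allRange 10956 22 (fun u => chkFix tab mwordsA u) = true := by decide +kernel

theorem m2_499 : allRange 10978 22 (fun u => chkFix tab mwordsA u) = true := by decide +kernel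

theorem m2_500 : allRange 11000 22 (fun u => chkFix tab mwordsA u) = true := by decide +kernel

theorem m2_501 : allRange 11022 22 (fun u => chkFix tab mwordsA u) = true := by decide +kernel

theorem m2_502 : allRange 11044 22 (fun u => chkFix tab mwordsA u) = true := by decide +kernel


end Cfsg.Agent.Helper9.TCData.Sz8C0
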