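import Cfsg.Agent.Lib.Helper9.TCData.Sz8C0.Main

set_option autoImplicit false
set_option maxRecDepth 1000000

namespace Cfsg.Agent.Helper9.TCData.Sz8C0
open Cfsg.Agent.Helper9.TC2

theorem m2_519 : allRange 11418 22 (fun u => chkFix tab mwordsA u) = true := by decide +kernel

theorem m2_520 : allRange 11440 22 (fun u => chkFix tab mwordsA u) = true := by decide +kernel

theorem m2_521 : allRange 11462 22 (fun u => chkFix tab mwordsA u) = true := by decide +kernel

theorem m2_522 : allRange 11484 22 (fun u => chkFix tab mwordsA u) = true := by decide +kernel

theorem m2_523 : allRange 11506 22 (fun u => chkFix tab mwordsA u) = true := by decide +kernel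

theorem m2_524 : allRange 11528 22 (fun u => chkFix tab mwordsA u) = true := by decide +kernel

theorem m2_525 : allRange 11550 22 (fun u => chkFix tab mwordsA u) = true := by decide +kernel

theorem m2_526 : allRange 11572 22 (fun u => chkFix tab mwordsA u) = true := by decide +kernel


end Cfsg.Agent.Helper9.TCData.Sz8C0
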