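import Cfsg.Agent.Lib.Helper9.TCData.Sz8C0.S0
import Cfsg.Agent.Lib.Helper9.TCData.Sz8C0.S1
import Cfsg.Agent.Lib.Helper9.TCData.Sz8C0.S2
import Cfsg.Agent.Lib.Helper9.TCData.Sz8C0.S3
import Cfsg.Agent.Lib.Helper9.TCData.Sz8C0.S4
import Cfsg.Agent.Lib.Helper9.TCData.Sz8C0.S5
import Cfsg.Agent.Lib.Helper9.TCData.Sz8C0.S6
import Cfsg.Agent.Lib.Helper9.TCData.Sz8C0.S7
import Cfsg.Agent.Lib.Helper9.TCData.Sz8C0.S8
import Cfsg.Agent.Lib.Helper9.TCData.Sz8C0.S9
import Cfsg.Agent.Lib.Helper9.TCData.Sz8C0.S10
import Cfsg.Agent.Lib.Helper9.TCData.Sz8C0.S11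
import Cfsg.Agent.Lib.Helper9.TCData.Sz8C0.S12
import Cfsg.Agent.Lib.Helper9.TCData.Sz8C0.S13
import Cfsg.Agent.Lib.Helper9.TCData.Sz8C0.S14
import Cfsg.Agent.Lib.Helper9.TCData.Sz8C0.S15
import Cfsg.Agent.Lib.Helper9.TCData.Sz8C0.S16
import Cfsg.Agent.Lib.Helper9.TCData.Sz8C0.S17
import Cfsg.Agent.Lib.Helper9.TCData.Sz8C0.S18
import Cfsg.Agent.Lib.Helper9.TCData.Sz8C0.S19
import Cfsg.Agent.Lib.Helper9.TCData.Sz8C0.S20
import Cfsg.Agent.Lib.Helper9.TCData.Sz8C0.S21
import Cfsg.Agent.Lib.Helper9.TCData.Sz8C0.S22
import Cfsg.Agent.Lib.Helper9.TCData.Sz8C0.S23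
import Cfsg.Agent.Lib.Helper9.TCData.Sz8C0.S24
import Cfsg.Agent.Lib.Helper9.TCData.Sz8C0.S25
import Cfsg.Agent.Lib.Helper9.TCData.Sz8C0.S26
import Cfsg.Agent.Lib.Helper9.TCData.Sz8C0.S27
import Cfsg.Agent.Lib.Helper9.TCData.Sz8C0.S28
import Cfsg.Agent.Lib.Helper9.TCData.Sz8C0.S29
import Cfsg.Agent.Lib.Helper9.TCData.Sz8C0.S30
import Cfsg.Agent.Lib.Helper9.TCData.Sz8C0.S31
import Cfsg.Agent.Lib.Helper9.TCData.Sz8C0.S32
import Cfsg.Agent.Lib.Helper9.TCData.Sz8C0.S33
import Cfsg.Agent.Lib.Helper9.TCData.Sz8C0.S34
import Cfsg.Agent.Lib.Helper9.TCData.Sz8C0.S35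
import Cfsg.Agent.Lib.Helper9.TCData.Sz8C0.S36
import Cfsg.Agent.Lib.Helper9.TCData.Sz8C0.S37
import Cfsg.Agent.Lib.Helper9.TCData.Sz8C0.S38
import Cfsg.Agent.Lib.Helper9.TCData.Sz8C0.S39
import Cfsg.Agent.Lib.Helper9.TCData.Sz8C0.S40
import Cfsg.Agent.Lib.Helper9.TCData.Sz8C0.S41
import Cfsg.Agent.Lib.Helper9.TCData.Sz8C0.S42
import Cfsg.Agent.Lib.Helper9.TCData.Sz8C0.S43
import Cfsg.Agent.Lib.Helper9.TCData.Sz8C0.S44
import Cfsg.Agent.Lib.Helper9.TCData.Sz8C0.S45
import Cfsg.Agent.Lib.Helper9.TCData.Sz8C0.S46
import Cfsg.Agent.Lib.Helper9.TCData.Sz8C0.S47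
import Cfsg.Agent.Lib.Helper9.TCData.Sz8C0.S48
import Cfsg.Agent.Lib.Helper9.TCData.Sz8C0.S49
import Cfsg.Agent.Lib.Helper9.TCData.Sz8C0.S50
import Cfsg.Agent.Lib.Helper9.TCData.Sz8C0.S51
import Cfsg.Agent.Lib.Helper9.TCData.Sz8C0.S52
import Cfsg.Agent.Lib.Helper9.TCData.Sz8C0.S53
import Cfsg.Agent.Lib.Helper9.TCData.Sz8C0.S54
import Cfsg.Agent.Lib.Helper9.TCData.Sz8C0.S55
import Cfsg.Agent.Lib.Helper9.TCData.Sz8C0.S56
import Cfsg.Agent.Lib.Helper9.TCData.Sz8C0.S57
import Cfsg.Agent.Lib.Helper9.TCData.Sz8C0.S58
import Cfsg.Agent.Lib.Helper9.TCData.Sz8C0.S59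
import Cfsg.Agent.Lib.Helper9.TCData.Sz8C0.S60
import Cfsg.Agent.Lib.Helper9.TCData.Sz8C0.S61
import Cfsg.Agent.Lib.Helper9.TCData.Sz8C0.S62
import Cfsg.Agent.Lib.Helper9.TCData.Sz8C0.S63
import Cfsg.Agent.Lib.Helper9.TCData.Sz8C0.S64
import Cfsg.Agent.Lib.Helper9.TCData.Sz8C0.S65
import Cfsg.Agent.Lib.Helper9.TCData.Sz8C0.S66
import Cfsg.Agent.Lib.Helper9.TCData.Sz8C0.S67
import Cfsg.Agent.Lib.Helper9.TCData.Sz8C0.S68
import Cfsg.Agent.Lib.Helper9.TCData.Sz8C0.S69
import Cfsg.Agent.Lib.Helper9.TCData.Sz8C0.S70
import Cfsg.Agent.Lib.Helper9.TCData.Sz8C0.S71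
import Cfsg.Agent.Lib.Helper9.TCData.Sz8C0.S72
import Cfsg.Agent.Lib.Helper9.TCData.Sz8C0.S73
import Cfsg.Agent.Lib.Helper9.TCData.Sz8C0.S74
import Cfsg.Agent.Lib.Helper9.TCData.Sz8C0.S75
import Cfsg.Agent.Lib.Helper9.TCData.Sz8C0.S76
import Cfsg.Agent.Lib.Helper9.TCData.Sz8C0.S77
import Cfsg.Agent.Lib.Helper9.TCData.Sz8C0.S78
import Cfsg.Agent.Lib.Helper9.TCData.Sz8C0.S79
import Cfsg.Agent.Lib.Helper9.TCData.Sz8C0.S80
import Cfsg.Agent.Lib.Helper9.TCData.Sz8C0.S81
import Cfsg.Agent.Lib.Helper9.TCData.Sz8C0.S82
import Cfsg.Agent.Lib.Helper9.TCData.Sz8C0.S83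
import Cfsg.Agent.Lib.Helper9.TCData.Sz8C0.S84
import Cfsg.Agent.Lib.Helper9.TCData.Sz8C0.S85
import Cfsg.Agent.Lib.Helper9.TCData.Sz8C0.S86
import Cfsg.Agent.Lib.Helper9.TCData.Sz8C0.S87
import Cfsg.Agent.Lib.Helper9.TCData.Sz8C0.S88
import Cfsg.Agent.Lib.Helper9.TCData.Sz8C0.S89
import Cfsg.Agent.Lib.Helper9.TCData.Sz8C0.S90
import Cfsg.Agent.Lib.Helper9.TCData.Sz8C0.S91
import Cfsg.Agent.Lib.Helper9.TCData.Sz8C0.S92
import Cfsg.Agent.Lib.Helper9.TCData.Sz8C0.S93
import Cfsg.Agent.Lib.Helper9.TCData.Sz8C0.S94
import Cfsg.Agent.Lib.Helper9.TCData.Sz8C0.S95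
import Cfsg.Agent.Lib.Helper9.TCData.Sz8C0.S96
import Cfsg.Agent.Lib.Helper9.TCData.Sz8C0.S97
import Cfsg.Agent.Lib.Helper9.TCData.Sz8C0.S98
import Cfsg.Agent.Lib.Helper9.TCData.Sz8C0.S99
import Cfsg.Agent.Lib.Helper9.TCData.Sz8C0.S100
import Cfsg.Agent.Lib.Helper9.TCData.Sz8C0.S101
import Cfsg.Agent.Lib.Helper9.TCData.Sz8C0.S102
import Cfsg.Agent.Lib.Helper9.TCData.Sz8C0.S103
import Cfsg.Agent.Lib.Helper9.TCData.Sz8C0.S104
import Cfsg.Agent.Lib.Helper9.TCData.Sz8C0.S105
import Cfsg.Agent.Lib.Helper9.TCData.Sz8C0.S106
import Cfsg.Agent.Lib.Helper9.TCData.Sz8C0.S107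
import Cfsg.Agent.Lib.Helper9.TCData.Sz8C0.S108
import Cfsg.Agent.Lib.Helper9.TCData.Sz8C0.S109
import Cfsg.Agent.Lib.Helper9.TCData.Sz8C0.S110
import Cfsg.Agent.Lib.Helper9.TCData.Sz8C0.S111
import Cfsg.Agent.Lib.Helper9.TCData.Sz8C0.S112
import Cfsg.Agent.Lib.Helper9.TCData.Sz8C0.S113
import Cfsg.Agent.Lib.Helper9.TCData.Sz8C0.S114
import Cfsg.Agent.Lib.Helper9.TCData.Sz8C0.S115
import Cfsg.Agent.Lib.Helper9.TCData.Sz8C0.S116
import Cfsg.Agent.Lib.Helper9.TCData.Sz8C0.S117
import Cfsg.Agent.Lib.Helper9.TCData.Sz8C0.S118
import Cfsg.Agent.Lib.Helper9.TCData.Sz8C0.S119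
import Cfsg.Agent.Lib.Helper9.TCData.Sz8C0.S120
import Cfsg.Agent.Lib.Helper9.TCData.Sz8C0.S121
import Cfsg.Agent.Lib.Helper9.TCData.Sz8C0.S122
import Cfsg.Agent.Lib.Helper9.TCData.Sz8C0.S123

set_option autoImplicit false
set_option maxRecDepth 1000000

namespace Cfsg.Agent.Helper9.TCData.Sz8C0
open Cfsg.Agent.Helper9.TC2


theorem hE0 : ∀ u < 73421, chkE tab 0 u = true := by
  have h0 : ∀ u < 0, (fun u => chkE tab 0 u) u = true := range_zero
  have h1 : ∀ u < 4884, (fun u => chkE tab 0 u) u = true := ext_range (a := 0) (len := 4884) h0 e0_0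
  have h2 : ∀ u < 8012, (fun u => chkE tab 0 u) u = true := ext_range (a := 4884) (len := 3128) h1 e0_1
  have h3 : ∀ u < 11057, (fun u => chkE tab 0 u) u = true := ext_range (a := 8012) (len := 3045) h2 e0_2
  have h4 : ∀ u < 13721, (fun u => chkE tab 0 u) u = true := ext_range (a := 11057) (len := 2664) h3 e0_3
  have h5 : ∀ u < 16235, (fun u => chkE tab 0 u) u = true := ext_range (a := 13721) (len := 2514) h4 e0_4
  have h6 : ∀ u < 18706, (fun u => chkE tab 0 u) u = true := ext_range (a := 16235) (len := 2471) h5 e0_5
  have h7 : ∀ u < 21309, (fun u => chkE tab 0 u) u = true := ext_range (a := 18706) (len := 2603) h6 e0_6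
  have h8 : ∀ u < 23499, (fun u => chkE tab 0 u) u = true := ext_range (a := 21309) (len := 2190) h7 e0_7
  have h9 : ∀ u < 25709, (fun u => chkE tab 0 u) u = true := ext_range (a := 23499) (len := 2210) h8 e0_8
  have h10 : ∀ u < 27948, (fun u => chkE tab 0 u) u = true := ext_range (a := 25709) (len := 2239) h9 e0_9
  have h11 : ∀ u < 30101, (fun u => chkE tab 0 u) u = true := ext_range (a := 27948) (len := 2153) h10 e0_10
  have h12 : ∀ u < 32263, (fun u => chkE tab 0 u) u = true := ext_range (a := 30101) (len := 2162) h11 e0_11
  have h13 : ∀ u < 34652, (fun u => chkE tab 0 u) u = true := ext_range (a := 32263) (len := 2389) h12 e0_12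
  have h14 : ∀ u < 36841, (fun u => chkE tab 0 u) u = true := ext_range (a := 34652) (len := 2189) h13 e0_13
  have h15 : ∀ u < 39529, (fun u => chkE tab 0 u) u = true := ext_range (a := 36841) (len := 2688) h14 e0_14
  have h16 : ∀ u < 42517, (fun u => chkE tab 0 u) u = true := ext_range (a := 39529) (len := 2988) h15 e0_15
  have h17 : ∀ u < 45348, (fun u => chkE tab 0 u) u = true := ext_range (a := 42517) (len := 2831) h16 e0_16
  have h18 : ∀ u < 49067, (fun u => chkE tab 0 u) u = true := ext_range (a := 45348) (len := 3719) h17 e0_17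
  have h19 : ∀ u < 52161, (fun u => chkE tab 0 u) u = true := ext_range (a := 49067) (len := 3094) h18 e0_18
  have h20 : ∀ u < 56293, (fun u => chkE tab 0 u) u = true := ext_range (a := 52161) (len := 4132) h19 e0_19
  have h21 : ∀ u < 59528, (fun u => chkE tab 0 u) u = true := ext_range (a := 56293) (len := 3235) h20 e0_20
  have h22 : ∀ u < 63410, (fun u => chkE tab 0 u) u = true := ext_range (a := 59528) (len := 3882) h21 e0_21
  have h23 : ∀ u < 67154, (fun u => chkE tab 0 u) u = true := ext_range (a := 63410) (len := 3744) h22 e0_22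
  have h24 : ∀ u < 69782, (fun u => chkE tab 0 u) u = true := ext_range (a := 67154) (len := 2628) h23 e0_23
  have h25 : ∀ u < 70697, (fun u => chkE tab 0 u) u = true := ext_range (a := 69782) (len := 915) h24 e0_24
  have h26 : ∀ u < 71551, (fun u => chkE tab 0 u) u = true := ext_range (a := 70697) (len := 854) h25 e0_25
  have h27 : ∀ u < 72463, (fun u => chkE tab 0 u) u = true := ext_range (a := 71551) (len := 912) h26 e0_26
  have h28 : ∀ u < 73421, (fun u => chkE tab 0 u) u = true := ext_range (a := 72463) (len := 958) h27 e0_27
  exact h28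

theorem hE1 : ∀ u < 73421, chkE tab 1 u = true := by
  have h0 : ∀ u < 0, (fun u => chkE tab 1 u) u = true := range_zero
  have h1 : ∀ u < 1570, (fun u => chkE tab 1 u) u = true := ext_range (a := 0) (len := 1570) h0 e1_0
  have h2 : ∀ u < 6064, (fun u => chkE tab 1 u) u = true := ext_range (a := 1570) (len := 4494) h1 e1_1
  have h3 : ∀ u < 10224, (fun u => chkE tab 1 u) u = true := ext_range (a := 6064) (len := 4160) h2 e1_2
  have h4 : ∀ u < 12823, (fun u => chkE tab 1 u) u = true := ext_range (a := 10224) (len := 2599) h3 e1_3
  have h5 : ∀ u < 15893, (fun u => chkE tab 1 u) u = true := ext_range (a := 12823) (len := 3070) h4 e1_4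
  have h6 : ∀ u < 18570, (fun u => chkE tab 1 u) u = true := ext_range (a := 15893) (len := 2677) h5 e1_5
  have h7 : ∀ u < 21165, (fun u => chkE tab 1 u) u = true := ext_range (a := 18570) (len := 2595) h6 e1_6
  have h8 : ∀ u < 23722, (fun u => chkE tab 1 u) u = true := ext_range (a := 21165) (len := 2557) h7 e1_7
  have h9 : ∀ u < 26177, (fun u => chkE tab 1 u) u = true := ext_range (a := 23722) (len := 2455) h8 e1_8
  have h10 : ∀ u < 28705, (fun u => chkE tab 1 u) u = true := ext_range (a := 26177) (len := 2528) h9 e1_9
  have h11 : ∀ u < 31198, (fun u => chkE tab 1 u) u = true := ext_range (a := 28705) (len := 2493) h10 e1_10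
  have h12 : ∀ u < 33622, (fun u => chkE tab 1 u) u = true := ext_range (a := 31198) (len := 2424) h11 e1_11
  have h13 : ∀ u < 36135, (fun u => chkE tab 1 u) u = true := ext_range (a := 33622) (len := 2513) h12 e1_12
  have h14 : ∀ u < 39299, (fun u => chkE tab 1 u) u = true := ext_range (a := 36135) (len := 3164) h13 e1_13
  have h15 : ∀ u < 42977, (fun u => chkE tab 1 u) u = true := ext_range (a := 39299) (len := 3678) h14 e1_14
  have h16 : ∀ u < 46899, (fun u => chkE tab 1 u) u = true := ext_range (a := 42977) (len := 3922) h15 e1_15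
  have h17 : ∀ u < 50662, (fun u => chkE tab 1 u) u = true := ext_range (a := 46899) (len := 3763) h16 e1_16
  have h18 : ∀ u < 54606, (fun u => chkE tab 1 u) u = true := ext_range (a := 50662) (len := 3944) h17 e1_17
  have h19 : ∀ u < 58855, (fun u => chkE tab 1 u) u = true := ext_range (a := 54606) (len := 4249) h18 e1_18
  have h20 : ∀ u < 62521, (fun u => chkE tab 1 u) u = true := ext_range (a := 58855) (len := 3666) h19 e1_19
  have h21 : ∀ u < 66709, (fun u => chkE tab 1 u) u = true := ext_range (a := 62521) (len := 4188) h20 e1_20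
  have h22 : ∀ u < 69906, (fun u => chkE tab 1 u) u = true := ext_range (a := 66709) (len := 3197) h21 e1_21
  have h23 : ∀ u < 70898, (fun u => chkE tab 1 u) u = true := ext_range (a := 69906) (len := 992) h22 e1_22
  have h24 : ∀ u < 71817, (fun u => chkE tab 1 u) u = true := ext_range (a := 70898) (len := 919) h23 e1_23
  have h25 : ∀ u < 72692, (fun u => chkE tab 1 u) u = true := ext_range (a := 71817) (len := 875) h24 e1_24
  have h26 : ∀ u < 73421, (fun u => chkE tab 1 u) u = true := ext_range (a := 72692) (len := 729) h25 e1_25
  exact h26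

theorem hE2 : ∀ u < 73421, chkE tab 2 u = true := by
  have h0 : ∀ u < 0, (fun u => chkE tab 2 u) u = true := range_zero
  have h1 : ∀ u < 4663, (fun u => chkE tab 2 u) u = true := ext_range (a := 0) (len := 4663) h0 e2_0
  have h2 : ∀ u < 8279, (fun u => chkE tab 2 u) u = true := ext_range (a := 4663) (len := 3616) h1 e2_1
  have h3 : ∀ u < 11571, (fun u => chkE tab 2 u) u = true := ext_range (a := 8279) (len := 3292) h2 e2_2
  have h4 : ∀ u < 14629, (fun u => chkE tab 2 u) u = true := ext_range (a := 11571) (len := 3058) h3 e2_3
  have h5 : ∀ u < 18073, (fun u => chkE tab 2 u) u = true := ext_range (a := 14629) (len := 3444) h4 e2_4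
  have h6 : ∀ u < 21051, (fun u => chkE tab 2 u) u = true := ext_range (a := 18073) (len := 2978) h5 e2_5
  have h7 : ∀ u < 24454, (fun u => chkE tab 2 u) u = true := ext_range (a := 21051) (len := 3403) h6 e2_6
  have h8 : ∀ u < 27594, (fun u => chkE tab 2 u) u = true := ext_range (a := 24454) (len := 3140) h7 e2_7
  have h9 : ∀ u < 30965, (fun u => chkE tab 2 u) u = true := ext_range (a := 27594) (len := 3371) h8 e2_8
  have h10 : ∀ u < 34496, (fun u => chkE tab 2 u) u = true := ext_range (a := 30965) (len := 3531) h9 e2_9
  have h11 : ∀ u < 37697, (fun u => chkE tab 2 u) u = true := ext_range (a := 34496) (len := 3201) h10 e2_10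
  have h12 : ∀ u < 41212, (fun u => chkE tab 2 u) u = true := ext_range (a := 37697) (len := 3515) h11 e2_11
  have h13 : ∀ u < 45076, (fun u => chkE tab 2 u) u = true := ext_range (a := 41212) (len := 3864) h12 e2_12
  have h14 : ∀ u < 49014, (fun u => chkE tab 2 u) u = true := ext_range (a := 45076) (len := 3938) h13 e2_13
  have h15 : ∀ u < 52502, (fun u => chkE tab 2 u) u = true := ext_range (a := 49014) (len := 3488) h14 e2_14
  have h16 : ∀ u < 57362, (fun u => chkE tab 2 u) u = true := ext_range (a := 52502) (len := 4860) h15 e2_15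
  have h17 : ∀ u < 62118, (fun u => chkE tab 2 u) u = true := ext_range (a := 57362) (len := 4756) h16 e2_16
  have h18 : ∀ u < 66496, (fun u => chkE tab 2 u) u = true := ext_range (a := 62118) (len := 4378) h17 e2_17
  have h19 : ∀ u < 69663, (fun u => chkE tab 2 u) u = true := ext_range (a := 66496) (len := 3167) h18 e2_18
  have h20 : ∀ u < 70669, (fun u => chkE tab 2 u) u = true := ext_range (a := 69663) (len := 1006) h19 e2_19
  have h21 : ∀ u < 71748, (fun u => chkE tab 2 u) u = true := ext_range (a := 70669) (len := 1079) h20 e2_20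
  have h22 : ∀ u < 72643, (fun u => chkE tab 2 u) u = true := ext_range (a := 71748) (len := 895) h21 e2_21
  have h23 : ∀ u < 73421, (fun u => chkE tab 2 u) u = true := ext_range (a := 72643) (len := 778) h22 e2_22
  exact h23

theorem hE3 : ∀ u < 73421, chkE tab 3 u = true := by
  have h0 : ∀ u < 0, (fun u => chkE tab 3 u) u = true := range_zero
  have h1 : ∀ u < 4841, (fun u => chkE tab 3 u) u = true := ext_range (a := 0) (len := 4841) h0 e3_0
  have h2 : ∀ u < 8869, (fun u => chkE tab 3 u) u = true := ext_range (a := 4841) (len := 4028) h1 e3_1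
  have h3 : ∀ u < 12511, (fun u => chkE tab 3 u) u = true := ext_range (a := 8869) (len := 3642) h2 e3_2
  have h4 : ∀ u < 15725, (fun u => chkE tab 3 u) u = true := ext_range (a := 12511) (len := 3214) h3 e3_3
  have h5 : ∀ u < 19243, (fun u => chkE tab 3 u) u = true := ext_range (a := 15725) (len := 3518) h4 e3_4
  have h6 : ∀ u < 23023, (fun u => chkE tab 3 u) u = true := ext_range (a := 19243) (len := 3780) h5 e3_5
  have h7 : ∀ u < 26738, (fun u => chkE tab 3 u) u = true := ext_range (a := 23023) (len := 3715) h6 e3_6
  have h8 : ∀ u < 30196, (fun u => chkE tab 3 u) u = true := ext_range (a := 26738) (len := 3458) h7 e3_7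
  have h9 : ∀ u < 34075, (fun u => chkE tab 3 u) u = true := ext_range (a := 30196) (len := 3879) h8 e3_8
  have h10 : ∀ u < 37834, (fun u => chkE tab 3 u) u = true := ext_range (a := 34075) (len := 3759) h9 e3_9
  have h11 : ∀ u < 42994, (fun u => chkE tab 3 u) u = true := ext_range (a := 37834) (len := 5160) h10 e3_10
  have h12 : ∀ u < 48222, (fun u => chkE tab 3 u) u = true := ext_range (a := 42994) (len := 5228) h11 e3_11
  have h13 : ∀ u < 53999, (fun u => chkE tab 3 u) u = true := ext_range (a := 48222) (len := 5777) h12 e3_12
  have h14 : ∀ u < 58952, (fun u => chkE tab 3 u) u = true := ext_range (a := 53999) (len := 4953) h13 e3_13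
  have h15 : ∀ u < 64348, (fun u => chkE tab 3 u) u = true := ext_range (a := 58952) (len := 5396) h14 e3_14
  have h16 : ∀ u < 69090, (fun u => chkE tab 3 u) u = true := ext_range (a := 64348) (len := 4742) h15 e3_15
  have h17 : ∀ u < 70293, (fun u => chkE tab 3 u) u = true := ext_range (a := 69090) (len := 1203) h16 e3_16
  have h18 : ∀ u < 71188, (fun u => chkE tab 3 u) u = true := ext_range (a := 70293) (len := 895) h17 e3_17
  have h19 : ∀ u < 72048, (fun u => chkE tab 3 u) u = true := ext_range (a := 71188) (len := 860) h18 e3_18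
  have h20 : ∀ u < 72865, (fun u => chkE tab 3 u) u = true := ext_range (a := 72048) (len := 817) h19 e3_19
  have h21 : ∀ u < 73421, (fun u => chkE tab 3 u) u = true := ext_range (a := 72865) (len := 556) h20 e3_20
  exact h21

theorem hL : ∀ u < 73421, chkL tab u = true := by
  have h0 : ∀ u < 0, (fun u => chkL tab u) u = true := range_zero
  have h1 : ∀ u < 1987, (fun u => chkL tab u) u = true := ext_range (a := 0) (len := 1987) h0 l_0
  have h2 : ∀ u < 4018, (fun u => chkL tab u) u = true := ext_range (a := 1987) (len := 2031) h1 l_1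
  have h3 : ∀ u < 6308, (fun u => chkL tab u) u = true := ext_range (a := 4018) (len := 2290) h2 l_2
  have h4 : ∀ u < 8280, (fun u => chkL tab u) u = true := ext_range (a := 6308) (len := 1972) h3 l_3
  have h5 : ∀ u < 10251, (fun u => chkL tab u) u = true := ext_range (a := 8280) (len := 1971) h4 l_4
  have h6 : ∀ u < 12216, (fun u => chkL tab u) u = true := ext_range (a := 10251) (len := 1965) h5 l_5
  have h7 : ∀ u < 14244, (fun u => chkL tab u) u = true := ext_range (a := 12216) (len := 2028) h6 l_6
  have h8 : ∀ u < 16106, (fun u => chkL tab u) u = true := ext_range (a := 14244) (len := 1862) h7 l_7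
  have h9 : ∀ u < 18165, (fun u => chkL tab u) u = true := ext_range (a := 16106) (len := 2059) h8 l_8
  have h10 : ∀ u < 19952, (fun u => chkL tab u) u = true := ext_range (a := 18165) (len := 1787) h9 l_9
  have h11 : ∀ u < 21877, (fun u => chkL tab u) u = true := ext_range (a := 19952) (len := 1925) h10 l_10
  have h12 : ∀ u < 23883, (fun u => chkL tab u) u = true := ext_range (a := 21877) (len := 2006) h11 l_11
  have h13 : ∀ u < 25745, (fun u => chkL tab u) u = true := ext_range (a := 23883) (len := 1862) h12 l_12
  have h14 : ∀ u < 27721, (fun u => chkL tab u) u = true := ext_range (a := 25745) (len := 1976) h13 l_13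
  have h15 : ∀ u < 29565, (fun u => chkL tab u) u = true := ext_range (a := 27721) (len := 1844) h14 l_14
  have h16 : ∀ u < 31422, (fun u => chkL tab u) u = true := ext_range (a := 29565) (len := 1857) h15 l_15
  have h17 : ∀ u < 33352, (fun u => chkL tab u) u = true := ext_range (a := 31422) (len := 1930) h16 l_16
  have h18 : ∀ u < 35310, (fun u => chkL tab u) u = true := ext_range (a := 33352) (len := 1958) h17 l_17
  have h19 : ∀ u < 37169, (fun u => chkL tab u) u = true := ext_range (a := 35310) (len := 1859) h18 l_18
  have h20 : ∀ u < 38868, (fun u => chkL tab u) u = true := ext_range (a := 37169) (len := 1699) h19 l_19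
  have h21 : ∀ u < 40622, (fun u => chkL tab u) u = true := ext_range (a := 38868) (len := 1754) h20 l_20
  have h22 : ∀ u < 42238, (fun u => chkL tab u) u = true := ext_range (a := 40622) (len := 1616) h21 l_21
  have h23 : ∀ u < 43778, (fun u => chkL tab u) u = true := ext_range (a := 42238) (len := 1540) h22 l_22
  have h24 : ∀ u < 45367, (fun u => chkL tab u) u = true := ext_range (a := 43778) (len := 1589) h23 l_23
  have h25 : ∀ u < 46924, (fun u => chkL tab u) u = true := ext_range (a := 45367) (len := 1557) h24 l_24
  have h26 : ∀ u < 48549, (fun u => chkL tab u) u = true := ext_range (a := 46924) (len := 1625) h25 l_25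
  have h27 : ∀ u < 50085, (fun u => chkL tab u) u = true := ext_range (a := 48549) (len := 1536) h26 l_26
  have h28 : ∀ u < 51715, (fun u => chkL tab u) u = true := ext_range (a := 50085) (len := 1630) h27 l_27
  have h29 : ∀ u < 53250, (fun u => chkL tab u) u = true := ext_range (a := 51715) (len := 1535) h28 l_28
  have h30 : ∀ u < 54774, (fun u => chkL tab u) u = true := ext_range (a := 53250) (len := 1524) h29 l_29
  have h31 : ∀ u < 56176, (fun u => chkL tab u) u = true := ext_range (a := 54774) (len := 1402) h30 l_30
  have h32 : ∀ u < 57702, (fun u => chkL tab u) u = true := ext_range (a := 56176) (len := 1526) h31 l_31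
  have h33 : ∀ u < 59219, (fun u => chkL tab u) u = true := ext_range (a := 57702) (len := 1517) h32 l_32
  have h34 : ∀ u < 60739, (fun u => chkL tab u) u = true := ext_range (a := 59219) (len := 1520) h33 l_33
  have h35 : ∀ u < 62186, (fun u => chkL tab u) u = true := ext_range (a := 60739) (len := 1447) h34 l_34
  have h36 : ∀ u < 63595, (fun u => chkL tab u) u = true := ext_range (a := 62186) (len := 1409) h35 l_35
  have h37 : ∀ u < 64900, (fun u => chkL tab u) u = true := ext_range (a := 63595) (len := 1305) h36 l_36
  have h38 : ∀ u < 66357, (fun u => chkL tab u) u = true := ext_range (a := 64900) (len := 1457) h37 l_37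
  have h39 : ∀ u < 67835, (fun u => chkL tab u) u = true := ext_range (a := 66357) (len := 1478) h38 l_38
  have h40 : ∀ u < 69177, (fun u => chkL tab u) u = true := ext_range (a := 67835) (len := 1342) h39 l_39
  have h41 : ∀ u < 73421, (fun u => chkL tab u) u = true := ext_range (a := 69177) (len := 4244) h40 l_40
  exact h41

theorem hF : ∀ u < 16640, chkFin tab u = true := by
  have h0 : ∀ u < 0, (fun u => chkFin tab u) u = true := range_zero
  have h1 : ∀ u < 572, (fun u => chkFin tab u) u = true := ext_range (a := 0) (len := 572) h0 f_0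
  have h2 : ∀ u < 1144, (fun u => chkFin tab u) u = true := ext_range (a := 572) (len := 572) h1 f_1
  have h3 : ∀ u < 1716, (fun u => chkFin tab u) u = true := ext_range (a := 1144) (len := 572) h2 f_2
  have h4 : ∀ u < 2288, (fun u => chkFin tab u) u = true := ext_range (a := 1716) (len := 572) h3 f_3
  have h5 : ∀ u < 2860, (fun u => chkFin tab u) u = true := ext_range (a := 2288) (len := 572) h4 f_4
  have h6 : ∀ u < 3432, (fun u => chkFin tab u) u = true := ext_range (a := 2860) (len := 572) h5 f_5
  have h7 : ∀ u < 4004, (fun u => chkFin tab u) u = true := ext_range (a := 3432) (len := 572) h6 f_6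
  have h8 : ∀ u < 4576, (fun u => chkFin tab u) u = true := ext_range (a := 4004) (len := 572) h7 f_7
  have h9 : ∀ u < 5148, (fun u => chkFin tab u) u = true := ext_range (a := 4576) (len := 572) h8 f_8
  have h10 : ∀ u < 5720, (fun u => chkFin tab u) u = true := ext_range (a := 5148) (len := 572) h9 f_9
  have h11 : ∀ u < 6292, (fun u => chkFin tab u) u = true := ext_range (a := 5720) (len := 572) h10 f_10
  have h12 : ∀ u < 6864, (fun u => chkFin tab u) u = true := ext_range (a := 6292) (len := 572) h11 f_11
  have h13 : ∀ u < 7436, (fun u => chkFin tab u) u = true := ext_range (a := 6864) (len := 572) h12 f_12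
  have h14 : ∀ u < 8008, (fun u => chkFin tab u) u = true := ext_range (a := 7436) (len := 572) h13 f_13
  have h15 : ∀ u < 8580, (fun u => chkFin tab u) u = true := ext_range (a := 8008) (len := 572) h14 f_14
  have h16 : ∀ u < 9152, (fun u => chkFin tab u) u = true := ext_range (a := 8580) (len := 572) h15 f_15
  have h17 : ∀ u < 9724, (fun u => chkFin tab u) u = true := ext_range (a := 9152) (len := 572) h16 f_16
  have h18 : ∀ u < 10296, (fun u => chkFin tab u) u = true := ext_range (a := 9724) (len := 572) h17 f_17
  have h19 : ∀ u < 10868, (fun u => chkFin tab u) u = true := ext_range (a := 10296) (len := 572) h18 f_18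
  have h20 : ∀ u < 11440, (fun u => chkFin tab u) u = true := ext_range (a := 10868) (len := 572) h19 f_19
  have h21 : ∀ u < 12012, (fun u => chkFin tab u) u = true := ext_range (a := 11440) (len := 572) h20 f_20
  have h22 : ∀ u < 12584, (fun u => chkFin tab u) u = true := ext_range (a := 12012) (len := 572) h21 f_21
  have h23 : ∀ u < 13156, (fun u => chkFin tab u) u = true := ext_range (a := 12584) (len := 572) h22 f_22
  have h24 : ∀ u < 13728, (fun u => chkFin tab u) u = true := ext_range (a := 13156) (len := 572) h23 f_23
  have h25 : ∀ u < 14300, (fun u => chkFin tab u) u = true := ext_range (a := 13728) (len := 572) h24 f_24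
  have h26 : ∀ u < 14872, (fun u => chkFin tab u) u = true := ext_range (a := 14300) (len := 572) h25 f_25
  have h27 : ∀ u < 15444, (fun u => chkFin tab u) u = true := ext_range (a := 14872) (len := 572) h26 f_26
  have h28 : ∀ u < 16016, (fun u => chkFin tab u) u = true := ext_range (a := 15444) (len := 572) h27 f_27
  have h29 : ∀ u < 16588, (fun u => chkFin tab u) u = true := ext_range (a := 16016) (len := 572) h28 f_28
  have h30 : ∀ u < 16640, (fun u => chkFin tab u) u = true := ext_range (a := 16588) (len := 52) h29 f_29
  exact h30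

theorem hC : ∀ u < 73421, chkCls tab u = true := by
  have h0 : ∀ u < 0, (fun u => chkCls tab u) u = true := range_zero
  have h1 : ∀ u < 2667, (fun u => chkCls tab u) u = true := ext_range (a := 0) (len := 2667) h0 c_0
  have h2 : ∀ u < 5334, (fun u => chkCls tab u) u = true := ext_range (a := 2667) (len := 2667) h1 c_1
  have h3 : ∀ u < 8001, (fun u => chkCls tab u) u = true := ext_range (a := 5334) (len := 2667) h2 c_2
  have h4 : ∀ u < 10668, (fun u => chkCls tab u) u = true := ext_range (a := 8001) (len := 2667) h3 c_3
  have h5 : ∀ u < 13335, (fun u => chkCls tab u) u = true := ext_range (a := 10668) (len := 2667) h4 c_4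
  have h6 : ∀ u < 16002, (fun u => chkCls tab u) u = true := ext_range (a := 13335) (len := 2667) h5 c_5
  have h7 : ∀ u < 18669, (fun u => chkCls tab u) u = true := ext_range (a := 16002) (len := 2667) h6 c_6
  have h8 : ∀ u < 21336, (fun u => chkCls tab u) u = true := ext_range (a := 18669) (len := 2667) h7 c_7
  have h9 : ∀ u < 24003, (fun u => chkCls tab u) u = true := ext_range (a := 21336) (len := 2667) h8 c_8
  have h10 : ∀ u < 26670, (fun u => chkCls tab u) u = true := ext_range (a := 24003) (len := 2667) h9 c_9
  have h11 : ∀ u < 29337, (fun u => chkCls tab u) u = true := ext_range (a := 26670) (len := 2667) h10 c_10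
  have h12 : ∀ u < 32004, (fun u => chkCls tab u) u = true := ext_range (a := 29337) (len := 2667) h11 c_11
  have h13 : ∀ u < 34671, (fun u => chkCls tab u) u = true := ext_range (a := 32004) (len := 2667) h12 c_12
  have h14 : ∀ u < 37338, (fun u => chkCls tab u) u = true := ext_range (a := 34671) (len := 2667) h13 c_13
  have h15 : ∀ u < 40005, (fun u => chkCls tab u) u = true := ext_range (a := 37338) (len := 2667) h14 c_14
  have h16 : ∀ u < 42672, (fun u => chkCls tab u) u = true := ext_range (a := 40005) (len := 2667) h15 c_15
  have h17 : ∀ u < 45339, (fun u => chkCls tab u) u = true := ext_range (a := 42672) (len := 2667) h16 c_16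
  have h18 : ∀ u < 48006, (fun u => chkCls tab u) u = true := ext_range (a := 45339) (len := 2667) h17 c_17
  have h19 : ∀ u < 50673, (fun u => chkCls tab u) u = true := ext_range (a := 48006) (len := 2667) h18 c_18
  have h20 : ∀ u < 53340, (fun u => chkCls tab u) u = true := ext_range (a := 50673) (len := 2667) h19 c_19
  have h21 : ∀ u < 56007, (fun u => chkCls tab u) u = true := ext_range (a := 53340) (len := 2667) h20 c_20
  have h22 : ∀ u < 58674, (fun u => chkCls tab u) u = true := ext_range (a := 56007) (len := 2667) h21 c_21
  have h23 : ∀ u < 61341, (fun u => chkCls tab u) u = true := ext_range (a := 58674) (len := 2667) h22 c_22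
  have h24 : ∀ u < 64008, (fun u => chkCls tab u) u = true := ext_range (a := 61341) (len := 2667) h23 c_23
  have h25 : ∀ u < 66675, (fun u => chkCls tab u) u = true := ext_range (a := 64008) (len := 2667) h24 c_24
  have h26 : ∀ u < 69342, (fun u => chkCls tab u) u = true := ext_range (a := 66675) (len := 2667) h25 c_25
  have h27 : ∀ u < 72009, (fun u => chkCls tab u) u = true := ext_range (a := 69342) (len := 2667) h26 c_26
  have h28 : ∀ u < 73421, (fun u => chkCls tab u) u = true := ext_range (a := 72009) (len := 1412) h27 c_27
  exact h28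

theorem hM1 : ∀ u < 16640, chkM1 tab u = true := by
  have h0 : ∀ u < 0, (fun u => chkM1 tab u) u = true := range_zero
  have h1 : ∀ u < 1510, (fun u => chkM1 tab u) u = true := ext_range (a := 0) (len := 1510) h0 m1_0
  have h2 : ∀ u < 3020, (fun u => chkM1 tab u) u = true := ext_range (a := 1510) (len := 1510) h1 m1_1
  have h3 : ∀ u < 4530, (fun u => chkM1 tab u) u = true := ext_range (a := 3020) (len := 1510) h2 m1_2
  have h4 : ∀ u < 6040, (fun u => chkM1 tab u) u = true := ext_range (a := 4530) (len := 1510) h3 m1_3
  have h5 : ∀ u < 7550, (fun u => chkM1 tab u) u = true := ext_range (a := 6040) (len := 1510) h4 m1_4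
  have h6 : ∀ u < 9060, (fun u => chkM1 tab u) u = true := ext_range (a := 7550) (len := 1510) h5 m1_5
  have h7 : ∀ u < 10570, (fun u => chkM1 tab u) u = true := ext_range (a := 9060) (len := 1510) h6 m1_6
  have h8 : ∀ u < 12080, (fun u => chkM1 tab u) u = true := ext_range (a := 10570) (len := 1510) h7 m1_7
  have h9 : ∀ u < 13590, (fun u => chkM1 tab u) u = true := ext_range (a := 12080) (len := 1510) h8 m1_8
  have h10 : ∀ u < 15100, (fun u => chkM1 tab u) u = true := ext_range (a := 13590) (len := 1510) h9 m1_9
  have h11 : ∀ u < 16610, (fun u => chkM1 tab u) u = true := ext_range (a := 15100) (len := 1510) h10 m1_10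
  have h12 : ∀ u < 16640, (fun u => chkM1 tab u) u = true := ext_range (a := 16610) (len := 30) h11 m1_11
  exact h12

theorem hMA : ∀ u < 16640, chkAux tab aux u = true := by
  have h0 : ∀ u < 0, (fun u => chkAux tab aux u) u = true := range_zero
  have h1 : ∀ u < 4000, (fun u => chkAux tab aux u) u = true := ext_range (a := 0) (len := 4000) h0 ma_0
  have h2 : ∀ u < 8000, (fun u => chkAux tab aux u) u = true := ext_range (a := 4000) (len := 4000) h1 ma_1
  have h3 : ∀ u < 12000, (fun u => chkAux tab aux u) u = true := ext_range (a := 8000) (len := 4000) h2 ma_2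
  have h4 : ∀ u < 16000, (fun u => chkAux tab aux u) u = true := ext_range (a := 12000) (len := 4000) h3 ma_3
  have h5 : ∀ u < 16640, (fun u => chkAux tab aux u) u = true := ext_range (a := 16000) (len := 640) h4 ma_4
  exact h5

theorem hM2A : ∀ u < 16640, chkFix tab mwordsA u = true := by
  have h0 : ∀ u < 0, (fun u => chkFix tab mwordsA u) u = true := range_zero
  have h1 : ∀ u < 22, (fun u => chkFix tab mwordsA u) u = true := ext_range (a := 0) (len := 22) h0 m2_0
  have h2 : ∀ u < 44, (fun u => chkFix tab mwordsA u) u = true := ext_range (a := 22) (len := 22) h1 m2_1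
  have h3 : ∀ u < 66, (fun u => chkFix tab mwordsA u) u = true := ext_range (a := 44) (len := 22) h2 m2_2
  have h4 : ∀ u < 88, (fun u => chkFix tab mwordsA u) u = true := ext_range (a := 66) (len := 22) h3 m2_3
  have h5 : ∀ u < 110, (fun u => chkFix tab mwordsA u) u = true := ext_range (a := 88) (len := 22) h4 m2_4
  have h6 : ∀ u < 132, (fun u => chkFix tab mwordsA u) u = true := ext_range (a := 110) (len := 22) h5 m2_5
  have h7 : ∀ u < 154, (fun u => chkFix tab mwordsA u) u = true := ext_range (a := 132) (len := 22) h6 m2_6
  have h8 : ∀ u < 176, (fun u => chkFix tab mwordsA u) u = true := ext_range (a := 154) (len := 22) h7 m2_7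
  have h9 : ∀ u < 198, (fun u => chkFix tab mwordsA u) u = true := ext_range (a := 176) (len := 22) h8 m2_8
  have h10 : ∀ u < 220, (fun u => chkFix tab mwordsA u) u = true := ext_range (a := 198) (len := 22) h9 m2_9
  have h11 : ∀ u < 242, (fun u => chkFix tab mwordsA u) u = true := ext_range (a := 220) (len := 22) h10 m2_10
  have h12 : ∀ u < 264, (fun u => chkFix tab mwordsA u) u = true := ext_range (a := 242) (len := 22) h11 m2_11
  have h13 : ∀ u < 286, (fun u => chkFix tab mwordsA u) u = true := ext_range (a := 264) (len := 22) h12 m2_12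
  have h14 : ∀ u < 308, (fun u => chkFix tab mwordsA u) u = true := ext_range (a := 286) (len := 22) h13 m2_13
  have h15 : ∀ u < 330, (fun u => chkFix tab mwordsA u) u = true := ext_range (a := 308) (len := 22) h14 m2_14
  have h16 : ∀ u < 352, (fun u => chkFix tab mwordsA u) u = true := ext_range (a := 330) (len := 22) h15 m2_15
  have h17 : ∀ u < 374, (fun u => chkFix tab mwordsA u) u = true := ext_range (a := 352) (len := 22) h16 m2_16
  have h18 : ∀ u < 396, (fun u => chkFix tab mwordsA u) u = true := ext_range (a := 374) (len := 22) h17 m2_17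
  have h19 : ∀ u < 418, (fun u => chkFix tab mwordsA u) u = true := ext_range (a := 396) (len := 22) h18 m2_18
  have h20 : ∀ u < 440, (fun u => chkFix tab mwordsA u) u = true := ext_range (a := 418) (len := 22) h19 m2_19
  have h21 : ∀ u < 462, (fun u => chkFix tab mwordsA u) u = true := ext_range (a := 440) (len := 22) h20 m2_20
  have h22 : ∀ u < 484, (fun u => chkFix tab mwordsA u) u = true := ext_range (a := 462) (len := 22) h21 m2_21
  have h23 : ∀ u < 506, (fun u => chkFix tab mwordsA u) u = true := ext_range (a := 484) (len := 22) h22 m2_22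
  have h24 : ∀ u < 528, (fun u => chkFix tab mwordsA u) u = true := ext_range (a := 506) (len := 22) h23 m2_23
  have h25 : ∀ u < 550, (fun u => chkFix tab mwordsA u) u = true := ext_range (a := 528) (len := 22) h24 m2_24
  have h26 : ∀ u < 572, (fun u => chkFix tab mwordsA u) u = true := ext_range (a := 550) (len := 22) h25 m2_25
  have h27 : ∀ u < 594, (fun u => chkFix tab mwordsA u) u = true := ext_range (a := 572) (len := 22) h26 m2_26
  have h28 : ∀ u < 616, (fun u => chkFix tab mwordsA u) u = true := ext_range (a := 594) (len := 22) h27 m2_27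
  have h29 : ∀ u < 638, (fun u => chkFix tab mwordsA u) u = true := ext_range (a := 616) (len := 22) h28 m2_28
  have h30 : ∀ u < 660, (fun u => chkFix tab mwordsA u) u = true := ext_range (a := 638) (len := 22) h29 m2_29
  have h31 : ∀ u < 682, (fun u => chkFix tab mwordsA u) u = true := ext_range (a := 660) (len := 22) h30 m2_30
  have h32 : ∀ u < 704, (fun u => chkFix tab mwordsA u) u = true := ext_range (a := 682) (len := 22) h31 m2_31
  have h33 : ∀ u < 726, (fun u => chkFix tab mwordsA u) u = true := ext_range (a := 704) (len := 22) h32 m2_32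
  have h34 : ∀ u < 748, (fun u => chkFix tab mwordsA u) u = true := ext_range (a := 726) (len := 22) h33 m2_33
  have h35 : ∀ u < 770, (fun u => chkFix tab mwordsA u) u = true := ext_range (a := 748) (len := 22) h34 m2_34
  have h36 : ∀ u < 792, (fun u => chkFix tab mwordsA u) u = true := ext_range (a := 770) (len := 22) h35 m2_35
  have h37 : ∀ u < 814, (fun u => chkFix tab mwordsA u) u = true := ext_range (a := 792) (len := 22) h36 m2_36
  have h38 : ∀ u < 836, (fun u => chkFix tab mwordsA u) u = true := ext_range (a := 814) (len := 22) h37 m2_37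
  have h39 : ∀ u < 858, (fun u => chkFix tab mwordsA u) u = true := ext_range (a := 836) (len := 22) h38 m2_38
  have h40 : ∀ u < 880, (fun u => chkFix tab mwordsA u) u = true := ext_range (a := 858) (len := 22) h39 m2_39
  have h41 : ∀ u < 902, (fun u => chkFix tab mwordsA u) u = true := ext_range (a := 880) (len := 22) h40 m2_40
  have h42 : ∀ u < 924, (fun u => chkFix tab mwordsA u) u = true := ext_range (a := 902) (len := 22) h41 m2_41
  have h43 : ∀ u < 946, (fun u => chkFix tab mwordsA u) u = true := ext_range (a := 924) (len := 22) h42 m2_42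
  have h44 : ∀ u < 968, (fun u => chkFix tab mwordsA u) u = true := ext_range (a := 946) (len := 22) h43 m2_43
  have h45 : ∀ u < 990, (fun u => chkFix tab mwordsA u) u = true := ext_range (a := 968) (len := 22) h44 m2_44
  have h46 : ∀ u < 1012, (fun u => chkFix tab mwordsA u) u = true := ext_range (a := 990) (len := 22) h45 m2_45
  have h47 : ∀ u < 1034, (fun u => chkFix tab mwordsA u) u = true := ext_range (a := 1012) (len := 22) h46 m2_46
  have h48 : ∀ u < 1056, (fun u => chkFix tab mwordsA u) u = true := ext_range (a := 1034) (len := 22) h47 m2_47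
  have h49 : ∀ u < 1078, (fun u => chkFix tab mwordsA u) u = true := ext_range (a := 1056) (len := 22) h48 m2_48
  have h50 : ∀ u < 1100, (fun u => chkFix tab mwordsA u) u = true := ext_range (a := 1078) (len := 22) h49 m2_49
  have h51 : ∀ u < 1122, (fun u => chkFix tab mwordsA u) u = true := ext_range (a := 1100) (len := 22) h50 m2_50
  have h52 : ∀ u < 1144, (fun u => chkFix tab mwordsA u) u = true := ext_range (a := 1122) (len := 22) h51 m2_51
  have h53 : ∀ u < 1166, (fun u => chkFix tab mwordsA u) u = true := ext_range (a := 1144) (len := 22) h52 m2_52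
  have h54 : ∀ u < 1188, (fun u => chkFix tab mwordsA u) u = true := ext_range (a := 1166) (len := 22) h53 m2_53
  have h55 : ∀ u < 1210, (fun u => chkFix tab mwordsA u) u = true := ext_range (a := 1188) (len := 22) h54 m2_54
  have h56 : ∀ u < 1232, (fun u => chkFix tab mwordsA u) u = true := ext_range (a := 1210) (len := 22) h55 m2_55
  have h57 : ∀ u < 1254, (fun u => chkFix tab mwordsA u) u = true := ext_range (a := 1232) (len := 22) h56 m2_56
  have h58 : ∀ u < 1276, (fun u => chkFix tab mwordsA u) u = true := ext_range (a := 1254) (len := 22) h57 m2_57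
  have h59 : ∀ u < 1298, (fun u => chkFix tab mwordsA u) u = true := ext_range (a := 1276) (len := 22) h58 m2_58
  have h60 : ∀ u < 1320, (fun u => chkFix tab mwordsA u) u = true := ext_range (a := 1298) (len := 22) h59 m2_59
  have h61 : ∀ u < 1342, (fun u => chkFix tab mwordsA u) u = true := ext_range (a := 1320) (len := 22) h60 m2_60
  have h62 : ∀ u < 1364, (fun u => chkFix tab mwordsA u) u = true := ext_range (a := 1342) (len := 22) h61 m2_61
  have h63 : ∀ u < 1386, (fun u => chkFix tab mwordsA u) u = true := ext_range (a := 1364) (len := 22) h62 m2_62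
  have h64 : ∀ u < 1408, (fun u => chkFix tab mwordsA u) u = true := ext_range (a := 1386) (len := 22) h63 m2_63
  have h65 : ∀ u < 1430, (fun u => chkFix tab mwordsA u) u = true := ext_range (a := 1408) (len := 22) h64 m2_64
  have h66 : ∀ u < 1452, (fun u => chkFix tab mwordsA u) u = true := ext_range (a := 1430) (len := 22) h65 m2_65
  have h67 : ∀ u < 1474, (fun u => chkFix tab mwordsA u) u = true := ext_range (a := 1452) (len := 22) h66 m2_66
  have h68 : ∀ u < 1496, (fun u => chkFix tab mwordsA u) u = true := ext_range (a := 1474) (len := 22) h67 m2_67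
  have h69 : ∀ u < 1518, (fun u => chkFix tab mwordsA u) u = true := ext_range (a := 1496) (len := 22) h68 m2_68
  have h70 : ∀ u < 1540, (fun u => chkFix tab mwordsA u) u = true := ext_range (a := 1518) (len := 22) h69 m2_69
  have h71 : ∀ u < 1562, (fun u => chkFix tab mwordsA u) u = true := ext_range (a := 1540) (len := 22) h70 m2_70
  have h72 : ∀ u < 1584, (fun u => chkFix tab mwordsA u) u = true := ext_range (a := 1562) (len := 22) h71 m2_71
  have h73 : ∀ u < 1606, (fun u => chkFix tab mwordsA u) u = true := ext_range (a := 1584) (len := 22) h72 m2_72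
  have h74 : ∀ u < 1628, (fun u => chkFix tab mwordsA u) u = true := ext_range (a := 1606) (len := 22) h73 m2_73
  have h75 : ∀ u < 1650, (fun u => chkFix tab mwordsA u) u = true := ext_range (a := 1628) (len := 22) h74 m2_74
  have h76 : ∀ u < 1672, (fun u => chkFix tab mwordsA u) u = true := ext_range (a := 1650) (len := 22) h75 m2_75
  have h77 : ∀ u < 1694, (fun u => chkFix tab mwordsA u) u = true := ext_range (a := 1672) (len := 22) h76 m2_76
  have h78 : ∀ u < 1716, (fun u => chkFix tab mwordsA u) u = true := ext_range (a := 1694) (len := 22) h77 m2_77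
  have h79 : ∀ u < 1738, (fun u => chkFix tab mwordsA u) u = true := ext_range (a := 1716) (len := 22) h78 m2_78
  have h80 : ∀ u < 1760, (fun u => chkFix tab mwordsA u) u = true := ext_range (a := 1738) (len := 22) h79 m2_79
  have h81 : ∀ u < 1782, (fun u => chkFix tab mwordsA u) u = true := ext_range (a := 1760) (len := 22) h80 m2_80
  have h82 : ∀ u < 1804, (fun u => chkFix tab mwordsA u) u = true := ext_range (a := 1782) (len := 22) h81 m2_81
  have h83 : ∀ u < 1826, (fun u => chkFix tab mwordsA u) u = true := ext_range (a := 1804) (len := 22) h82 m2_82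
  have h84 : ∀ u < 1848, (fun u => chkFix tab mwordsA u) u = true := ext_range (a := 1826) (len := 22) h83 m2_83
  have h85 : ∀ u < 1870, (fun u => chkFix tab mwordsA u) u = true := ext_range (a := 1848) (len := 22) h84 m2_84
  have h86 : ∀ u < 1892, (fun u => chkFix tab mwordsA u) u = true := ext_range (a := 1870) (len := 22) h85 m2_85
  have h87 : ∀ u < 1914, (fun u => chkFix tab mwordsA u) u = true := ext_range (a := 1892) (len := 22) h86 m2_86
  have h88 : ∀ u < 1936, (fun u => chkFix tab mwordsA u) u = true := ext_range (a := 1914) (len := 22) h87 m2_87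
  have h89 : ∀ u < 1958, (fun u => chkFix tab mwordsA u) u = true := ext_range (a := 1936) (len := 22) h88 m2_88
  have h90 : ∀ u < 1980, (fun u => chkFix tab mwordsA u) u = true := ext_range (a := 1958) (len := 22) h89 m2_89
  have h91 : ∀ u < 2002, (fun u => chkFix tab mwordsA u) u = true := ext_range (a := 1980) (len := 22) h90 m2_90
  have h92 : ∀ u < 2024, (fun u => chkFix tab mwordsA u) u = true := ext_range (a := 2002) (len := 22) h91 m2_91
  have h93 : ∀ u < 2046, (fun u => chkFix tab mwordsA u) u = true := ext_range (a := 2024) (len := 22) h92 m2_92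
  have h94 : ∀ u < 2068, (fun u => chkFix tab mwordsA u) u = true := ext_range (a := 2046) (len := 22) h93 m2_93
  have h95 : ∀ u < 2090, (fun u => chkFix tab mwordsA u) u = true := ext_range (a := 2068) (len := 22) h94 m2_94
  have h96 : ∀ u < 2112, (fun u => chkFix tab mwordsA u) u = true := ext_range (a := 2090) (len := 22) h95 m2_95
  have h97 : ∀ u < 2134, (fun u => chkFix tab mwordsA u) u = true := ext_range (a := 2112) (len := 22) h96 m2_96
  have h98 : ∀ u < 2156, (fun u => chkFix tab mwordsA u) u = true := ext_range (a := 2134) (len := 22) h97 m2_97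
  have h99 : ∀ u < 2178, (fun u => chkFix tab mwordsA u) u = true := ext_range (a := 2156) (len := 22) h98 m2_98
  have h100 : ∀ u < 2200, (fun u => chkFix tab mwordsA u) u = true := ext_range (a := 2178) (len := 22) h99 m2_99
  have h101 : ∀ u < 2222, (fun u => chkFix tab mwordsA u) u = true := ext_range (a := 2200) (len := 22) h100 m2_100
  have h102 : ∀ u < 2244, (fun u => chkFix tab mwordsA u) u = true := ext_range (a := 2222) (len := 22) h101 m2_101
  have h103 : ∀ u < 2266, (fun u => chkFix tab mwordsA u) u = true := ext_range (a := 2244) (len := 22) h102 m2_102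
  have h104 : ∀ u < 2288, (fun u => chkFix tab mwordsA u) u = true := ext_range (a := 2266) (len := 22) h103 m2_103
  have h105 : ∀ u < 2310, (fun u => chkFix tab mwordsA u) u = true := ext_range (a := 2288) (len := 22) h104 m2_104
  have h106 : ∀ u < 2332, (fun u => chkFix tab mwordsA u) u = true := ext_range (a := 2310) (len := 22) h105 m2_105
  have h107 : ∀ u < 2354, (fun u => chkFix tab mwordsA u) u = true := ext_range (a := 2332) (len := 22) h106 m2_106
  have h108 : ∀ u < 2376, (fun u => chkFix tab mwordsA u) u = true := ext_range (a := 2354) (len := 22) h107 m2_107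
  have h109 : ∀ u < 2398, (fun u => chkFix tab mwordsA u) u = true := ext_range (a := 2376) (len := 22) h108 m2_108
  have h110 : ∀ u < 2420, (fun u => chkFix tab mwordsA u) u = true := ext_range (a := 2398) (len := 22) h109 m2_109
  have h111 : ∀ u < 2442, (fun u => chkFix tab mwordsA u) u = true := ext_range (a := 2420) (len := 22) h110 m2_110
  have h112 : ∀ u < 2464, (fun u => chkFix tab mwordsA u) u = true := ext_range (a := 2442) (len := 22) h111 m2_111
  have h113 : ∀ u < 2486, (fun u => chkFix tab mwordsA u) u = true := ext_range (a := 2464) (len := 22) h112 m2_112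
  have h114 : ∀ u < 2508, (fun u => chkFix tab mwordsA u) u = true := ext_range (a := 2486) (len := 22) h113 m2_113
  have h115 : ∀ u < 2530, (fun u => chkFix tab mwordsA u) u = true := ext_range (a := 2508) (len := 22) h114 m2_114
  have h116 : ∀ u < 2552, (fun u => chkFix tab mwordsA u) u = true := ext_range (a := 2530) (len := 22) h115 m2_115
  have h117 : ∀ u < 2574, (fun u => chkFix tab mwordsA u) u = true := ext_range (a := 2552) (len := 22) h116 m2_116
  have h118 : ∀ u < 2596, (fun u => chkFix tab mwordsA u) u = true := ext_range (a := 2574) (len := 22) h117 m2_117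
  have h119 : ∀ u < 2618, (fun u => chkFix tab mwordsA u) u = true := ext_range (a := 2596) (len := 22) h118 m2_118
  have h120 : ∀ u < 2640, (fun u => chkFix tab mwordsA u) u = true := ext_range (a := 2618) (len := 22) h119 m2_119
  have h121 : ∀ u < 2662, (fun u => chkFix tab mwordsA u) u = true := ext_range (a := 2640) (len := 22) h120 m2_120
  have h122 : ∀ u < 2684, (fun u => chkFix tab mwordsA u) u = true := ext_range (a := 2662) (len := 22) h121 m2_121
  have h123 : ∀ u < 2706, (fun u => chkFix tab mwordsA u) u = true := ext_range (a := 2684) (len := 22) h122 m2_122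
  have h124 : ∀ u < 2728, (fun u => chkFix tab mwordsA u) u = true := ext_range (a := 2706) (len := 22) h123 m2_123
  have h125 : ∀ u < 2750, (fun u => chkFix tab mwordsA u) u = true := ext_range (a := 2728) (len := 22) h124 m2_124
  have h126 : ∀ u < 2772, (fun u => chkFix tab mwordsA u) u = true := ext_range (a := 2750) (len := 22) h125 m2_125
  have h127 : ∀ u < 2794, (fun u => chkFix tab mwordsA u) u = true := ext_range (a := 2772) (len := 22) h126 m2_126
  have h128 : ∀ u < 2816, (fun u => chkFix tab mwordsA u) u = true := ext_range (a := 2794) (len := 22) h127 m2_127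
  have h129 : ∀ u < 2838, (fun u => chkFix tab mwordsA u) u = true := ext_range (a := 2816) (len := 22) h128 m2_128
  have h130 : ∀ u < 2860, (fun u => chkFix tab mwordsA u) u = true := ext_range (a := 2838) (len := 22) h129 m2_129
  have h131 : ∀ u < 2882, (fun u => chkFix tab mwordsA u) u = true := ext_range (a := 2860) (len := 22) h130 m2_130
  have h132 : ∀ u < 2904, (fun u => chkFix tab mwordsA u) u = true := ext_range (a := 2882) (len := 22) h131 m2_131
  have h133 : ∀ u < 2926, (fun u => chkFix tab mwordsA u) u = true := ext_range (a := 2904) (len := 22) h132 m2_132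
  have h134 : ∀ u < 2948, (fun u => chkFix tab mwordsA u) u = true := ext_range (a := 2926) (len := 22) h133 m2_133
  have h135 : ∀ u < 2970, (fun u => chkFix tab mwordsA u) u = true := ext_range (a := 2948) (len := 22) h134 m2_134
  have h136 : ∀ u < 2992, (fun u => chkFix tab mwordsA u) u = true := ext_range (a := 2970) (len := 22) h135 m2_135
  have h137 : ∀ u < 3014, (fun u => chkFix tab mwordsA u) u = true := ext_range (a := 2992) (len := 22) h136 m2_136
  have h138 : ∀ u < 3036, (fun u => chkFix tab mwordsA u) u = true := ext_range (a := 3014) (len := 22) h137 m2_137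
  have h139 : ∀ u < 3058, (fun u => chkFix tab mwordsA u) u = true := ext_range (a := 3036) (len := 22) h138 m2_138
  have h140 : ∀ u < 3080, (fun u => chkFix tab mwordsA u) u = true := ext_range (a := 3058) (len := 22) h139 m2_139
  have h141 : ∀ u < 3102, (fun u => chkFix tab mwordsA u) u = true := ext_range (a := 3080) (len := 22) h140 m2_140
  have h142 : ∀ u < 3124, (fun u => chkFix tab mwordsA u) u = true := ext_range (a := 3102) (len := 22) h141 m2_141
  have h143 : ∀ u < 3146, (fun u => chkFix tab mwordsA u) u = true := ext_range (a := 3124) (len := 22) h142 m2_142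
  have h144 : ∀ u < 3168, (fun u => chkFix tab mwordsA u) u = true := ext_range (a := 3146) (len := 22) h143 m2_143
  have h145 : ∀ u < 3190, (fun u => chkFix tab mwordsA u) u = true := ext_range (a := 3168) (len := 22) h144 m2_144
  have h146 : ∀ u < 3212, (fun u => chkFix tab mwordsA u) u = true := ext_range (a := 3190) (len := 22) h145 m2_145
  have h147 : ∀ u < 3234, (fun u => chkFix tab mwordsA u) u = true := ext_range (a := 3212) (len := 22) h146 m2_146
  have h148 : ∀ u < 3256, (fun u => chkFix tab mwordsA u) u = true := ext_range (a := 3234) (len := 22) h147 m2_147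
  have h149 : ∀ u < 3278, (fun u => chkFix tab mwordsA u) u = true := ext_range (a := 3256) (len := 22) h148 m2_148
  have h150 : ∀ u < 3300, (fun u => chkFix tab mwordsA u) u = true := ext_range (a := 3278) (len := 22) h149 m2_149
  have h151 : ∀ u < 3322, (fun u => chkFix tab mwordsA u) u = true := ext_range (a := 3300) (len := 22) h150 m2_150
  have h152 : ∀ u < 3344, (fun u => chkFix tab mwordsA u) u = true := ext_range (a := 3322) (len := 22) h151 m2_151
  have h153 : ∀ u < 3366, (fun u => chkFix tab mwordsA u) u = true := ext_range (a := 3344) (len := 22) h152 m2_152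
  have h154 : ∀ u < 3388, (fun u => chkFix tab mwordsA u) u = true := ext_range (a := 3366) (len := 22) h153 m2_153
  have h155 : ∀ u < 3410, (fun u => chkFix tab mwordsA u) u = true := ext_range (a := 3388) (len := 22) h154 m2_154
  have h156 : ∀ u < 3432, (fun u => chkFix tab mwordsA u) u = true := ext_range (a := 3410) (len := 22) h155 m2_155
  have h157 : ∀ u < 3454, (fun u => chkFix tab mwordsA u) u = true := ext_range (a := 3432) (len := 22) h156 m2_156
  have h158 : ∀ u < 3476, (fun u => chkFix tab mwordsA u) u = true := ext_range (a := 3454) (len := 22) h157 m2_157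
  have h159 : ∀ u < 3498, (fun u => chkFix tab mwordsA u) u = true := ext_range (a := 3476) (len := 22) h158 m2_158
  have h160 : ∀ u < 3520, (fun u => chkFix tab mwordsA u) u = true := ext_range (a := 3498) (len := 22) h159 m2_159
  have h161 : ∀ u < 3542, (fun u => chkFix tab mwordsA u) u = true := ext_range (a := 3520) (len := 22) h160 m2_160
  have h162 : ∀ u < 3564, (fun u => chkFix tab mwordsA u) u = true := ext_range (a := 3542) (len := 22) h161 m2_161
  have h163 : ∀ u < 3586, (fun u => chkFix tab mwordsA u) u = true := ext_range (a := 3564) (len := 22) h162 m2_162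
  have h164 : ∀ u < 3608, (fun u => chkFix tab mwordsA u) u = true := ext_range (a := 3586) (len := 22) h163 m2_163
  have h165 : ∀ u < 3630, (fun u => chkFix tab mwordsA u) u = true := ext_range (a := 3608) (len := 22) h164 m2_164
  have h166 : ∀ u < 3652, (fun u => chkFix tab mwordsA u) u = true := ext_range (a := 3630) (len := 22) h165 m2_165
  have h167 : ∀ u < 3674, (fun u => chkFix tab mwordsA u) u = true := ext_range (a := 3652) (len := 22) h166 m2_166
  have h168 : ∀ u < 3696, (fun u => chkFix tab mwordsA u) u = true := ext_range (a := 3674) (len := 22) h167 m2_167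
  have h169 : ∀ u < 3718, (fun u => chkFix tab mwordsA u) u = true := ext_range (a := 3696) (len := 22) h168 m2_168
  have h170 : ∀ u < 3740, (fun u => chkFix tab mwordsA u) u = true := ext_range (a := 3718) (len := 22) h169 m2_169
  have h171 : ∀ u < 3762, (fun u => chkFix tab mwordsA u) u = true := ext_range (a := 3740) (len := 22) h170 m2_170
  have h172 : ∀ u < 3784, (fun u => chkFix tab mwordsA u) u = true := ext_range (a := 3762) (len := 22) h171 m2_171
  have h173 : ∀ u < 3806, (fun u => chkFix tab mwordsA u) u = true := ext_range (a := 3784) (len := 22) h172 m2_172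
  have h174 : ∀ u < 3828, (fun u => chkFix tab mwordsA u) u = true := ext_range (a := 3806) (len := 22) h173 m2_173
  have h175 : ∀ u < 3850, (fun u => chkFix tab mwordsA u) u = true := ext_range (a := 3828) (len := 22) h174 m2_174
  have h176 : ∀ u < 3872, (fun u => chkFix tab mwordsA u) u = true := ext_range (a := 3850) (len := 22) h175 m2_175
  have h177 : ∀ u < 3894, (fun u => chkFix tab mwordsA u) u = true := ext_range (a := 3872) (len := 22) h176 m2_176
  have h178 : ∀ u < 3916, (fun u => chkFix tab mwordsA u) u = true := ext_range (a := 3894) (len := 22) h177 m2_177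
  have h179 : ∀ u < 3938, (fun u => chkFix tab mwordsA u) u = true := ext_range (a := 3916) (len := 22) h178 m2_178
  have h180 : ∀ u < 3960, (fun u => chkFix tab mwordsA u) u = true := ext_range (a := 3938) (len := 22) h179 m2_179
  have h181 : ∀ u < 3982, (fun u => chkFix tab mwordsA u) u = true := ext_range (a := 3960) (len := 22) h180 m2_180
  have h182 : ∀ u < 4004, (fun u => chkFix tab mwordsA u) u = true := ext_range (a := 3982) (len := 22) h181 m2_181
  have h183 : ∀ u < 4026, (fun u => chkFix tab mwordsA u) u = true := ext_range (a := 4004) (len := 22) h182 m2_182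
  have h184 : ∀ u < 4048, (fun u => chkFix tab mwordsA u) u = true := ext_range (a := 4026) (len := 22) h183 m2_183
  have h185 : ∀ u < 4070, (fun u => chkFix tab mwordsA u) u = true := ext_range (a := 4048) (len := 22) h184 m2_184
  have h186 : ∀ u < 4092, (fun u => chkFix tab mwordsA u) u = true := ext_range (a := 4070) (len := 22) h185 m2_185
  have h187 : ∀ u < 4114, (fun u => chkFix tab mwordsA u) u = true := ext_range (a := 4092) (len := 22) h186 m2_186
  have h188 : ∀ u < 4136, (fun u => chkFix tab mwordsA u) u = true := ext_range (a := 4114) (len := 22) h187 m2_187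
  have h189 : ∀ u < 4158, (fun u => chkFix tab mwordsA u) u = true := ext_range (a := 4136) (len := 22) h188 m2_188
  have h190 : ∀ u < 4180, (fun u => chkFix tab mwordsA u) u = true := ext_range (a := 4158) (len := 22) h189 m2_189
  have h191 : ∀ u < 4202, (fun u => chkFix tab mwordsA u) u = true := ext_range (a := 4180) (len := 22) h190 m2_190
  have h192 : ∀ u < 4224, (fun u => chkFix tab mwordsA u) u = true := ext_range (a := 4202) (len := 22) h191 m2_191
  have h193 : ∀ u < 4246, (fun u => chkFix tab mwordsA u) u = true := ext_range (a := 4224) (len := 22) h192 m2_192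
  have h194 : ∀ u < 4268, (fun u => chkFix tab mwordsA u) u = true := ext_range (a := 4246) (len := 22) h193 m2_193
  have h195 : ∀ u < 4290, (fun u => chkFix tab mwordsA u) u = true := ext_range (a := 4268) (len := 22) h194 m2_194
  have h196 : ∀ u < 4312, (fun u => chkFix tab mwordsA u) u = true := ext_range (a := 4290) (len := 22) h195 m2_195
  have h197 : ∀ u < 4334, (fun u => chkFix tab mwordsA u) u = true := ext_range (a := 4312) (len := 22) h196 m2_196
  have h198 : ∀ u < 4356, (fun u => chkFix tab mwordsA u) u = true := ext_range (a := 4334) (len := 22) h197 m2_197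
  have h199 : ∀ u < 4378, (fun u => chkFix tab mwordsA u) u = true := ext_range (a := 4356) (len := 22) h198 m2_198
  have h200 : ∀ u < 4400, (fun u => chkFix tab mwordsA u) u = true := ext_range (a := 4378) (len := 22) h199 m2_199
  have h201 : ∀ u < 4422, (fun u => chkFix tab mwordsA u) u = true := ext_range (a := 4400) (len := 22) h200 m2_200
  have h202 : ∀ u < 4444, (fun u => chkFix tab mwordsA u) u = true := ext_range (a := 4422) (len := 22) h201 m2_201
  have h203 : ∀ u < 4466, (fun u => chkFix tab mwordsA u) u = true := ext_range (a := 4444) (len := 22) h202 m2_202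
  have h204 : ∀ u < 4488, (fun u => chkFix tab mwordsA u) u = true := ext_range (a := 4466) (len := 22) h203 m2_203
  have h205 : ∀ u < 4510, (fun u => chkFix tab mwordsA u) u = true := ext_range (a := 4488) (len := 22) h204 m2_204
  have h206 : ∀ u < 4532, (fun u => chkFix tab mwordsA u) u = true := ext_range (a := 4510) (len := 22) h205 m2_205
  have h207 : ∀ u < 4554, (fun u => chkFix tab mwordsA u) u = true := ext_range (a := 4532) (len := 22) h206 m2_206
  have h208 : ∀ u < 4576, (fun u => chkFix tab mwordsA u) u = true := ext_range (a := 4554) (len := 22) h207 m2_207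
  have h209 : ∀ u < 4598, (fun u => chkFix tab mwordsA u) u = true := ext_range (a := 4576) (len := 22) h208 m2_208
  have h210 : ∀ u < 4620, (fun u => chkFix tab mwordsA u) u = true := ext_range (a := 4598) (len := 22) h209 m2_209
  have h211 : ∀ u < 4642, (fun u => chkFix tab mwordsA u) u = true := ext_range (a := 4620) (len := 22) h210 m2_210
  have h212 : ∀ u < 4664, (fun u => chkFix tab mwordsA u) u = true := ext_range (a := 4642) (len := 22) h211 m2_211
  have h213 : ∀ u < 4686, (fun u => chkFix tab mwordsA u) u = true := ext_range (a := 4664) (len := 22) h212 m2_212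
  have h214 : ∀ u < 4708, (fun u => chkFix tab mwordsA u) u = true := ext_range (a := 4686) (len := 22) h213 m2_213
  have h215 : ∀ u < 4730, (fun u => chkFix tab mwordsA u) u = true := ext_range (a := 4708) (len := 22) h214 m2_214
  have h216 : ∀ u < 4752, (fun u => chkFix tab mwordsA u) u = true := ext_range (a := 4730) (len := 22) h215 m2_215
  have h217 : ∀ u < 4774, (fun u => chkFix tab mwordsA u) u = true := ext_range (a := 4752) (len := 22) h216 m2_216
  have h218 : ∀ u < 4796, (fun u => chkFix tab mwordsA u) u = true := ext_range (a := 4774) (len := 22) h217 m2_217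
  have h219 : ∀ u < 4818, (fun u => chkFix tab mwordsA u) u = true := ext_range (a := 4796) (len := 22) h218 m2_218
  have h220 : ∀ u < 4840, (fun u => chkFix tab mwordsA u) u = true := ext_range (a := 4818) (len := 22) h219 m2_219
  have h221 : ∀ u < 4862, (fun u => chkFix tab mwordsA u) u = true := ext_range (a := 4840) (len := 22) h220 m2_220
  have h222 : ∀ u < 4884, (fun u => chkFix tab mwordsA u) u = true := ext_range (a := 4862) (len := 22) h221 m2_221
  have h223 : ∀ u < 4906, (fun u => chkFix tab mwordsA u) u = true := ext_range (a := 4884) (len := 22) h222 m2_222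
  have h224 : ∀ u < 4928, (fun u => chkFix tab mwordsA u) u = true := ext_range (a := 4906) (len := 22) h223 m2_223
  have h225 : ∀ u < 4950, (fun u => chkFix tab mwordsA u) u = true := ext_range (a := 4928) (len := 22) h224 m2_224
  have h226 : ∀ u < 4972, (fun u => chkFix tab mwordsA u) u = true := ext_range (a := 4950) (len := 22) h225 m2_225
  have h227 : ∀ u < 4994, (fun u => chkFix tab mwordsA u) u = true := ext_range (a := 4972) (len := 22) h226 m2_226
  have h228 : ∀ u < 5016, (fun u => chkFix tab mwordsA u) u = true := ext_range (a := 4994) (len := 22) h227 m2_227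
  have h229 : ∀ u < 5038, (fun u => chkFix tab mwordsA u) u = true := ext_range (a := 5016) (len := 22) h228 m2_228
  have h230 : ∀ u < 5060, (fun u => chkFix tab mwordsA u) u = true := ext_range (a := 5038) (len := 22) h229 m2_229
  have h231 : ∀ u < 5082, (fun u => chkFix tab mwordsA u) u = true := ext_range (a := 5060) (len := 22) h230 m2_230
  have h232 : ∀ u < 5104, (fun u => chkFix tab mwordsA u) u = true := ext_range (a := 5082) (len := 22) h231 m2_231
  have h233 : ∀ u < 5126, (fun u => chkFix tab mwordsA u) u = true := ext_range (a := 5104) (len := 22) h232 m2_232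
  have h234 : ∀ u < 5148, (fun u => chkFix tab mwordsA u) u = true := ext_range (a := 5126) (len := 22) h233 m2_233
  have h235 : ∀ u < 5170, (fun u => chkFix tab mwordsA u) u = true := ext_range (a := 5148) (len := 22) h234 m2_234
  have h236 : ∀ u < 5192, (fun u => chkFix tab mwordsA u) u = true := ext_range (a := 5170) (len := 22) h235 m2_235
  have h237 : ∀ u < 5214, (fun u => chkFix tab mwordsA u) u = true := ext_range (a := 5192) (len := 22) h236 m2_236
  have h238 : ∀ u < 5236, (fun u => chkFix tab mwordsA u) u = true := ext_range (a := 5214) (len := 22) h237 m2_237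
  have h239 : ∀ u < 5258, (fun u => chkFix tab mwordsA u) u = true := ext_range (a := 5236) (len := 22) h238 m2_238
  have h240 : ∀ u < 5280, (fun u => chkFix tab mwordsA u) u = true := ext_range (a := 5258) (len := 22) h239 m2_239
  have h241 : ∀ u < 5302, (fun u => chkFix tab mwordsA u) u = true := ext_range (a := 5280) (len := 22) h240 m2_240
  have h242 : ∀ u < 5324, (fun u => chkFix tab mwordsA u) u = true := ext_range (a := 5302) (len := 22) h241 m2_241
  have h243 : ∀ u < 5346, (fun u => chkFix tab mwordsA u) u = true := ext_range (a := 5324) (len := 22) h242 m2_242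
  have h244 : ∀ u < 5368, (fun u => chkFix tab mwordsA u) u = true := ext_range (a := 5346) (len := 22) h243 m2_243
  have h245 : ∀ u < 5390, (fun u => chkFix tab mwordsA u) u = true := ext_range (a := 5368) (len := 22) h244 m2_244
  have h246 : ∀ u < 5412, (fun u => chkFix tab mwordsA u) u = true := ext_range (a := 5390) (len := 22) h245 m2_245
  have h247 : ∀ u < 5434, (fun u => chkFix tab mwordsA u) u = true := ext_range (a := 5412) (len := 22) h246 m2_246
  have h248 : ∀ u < 5456, (fun u => chkFix tab mwordsA u) u = true := ext_range (a := 5434) (len := 22) h247 m2_247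
  have h249 : ∀ u < 5478, (fun u => chkFix tab mwordsA u) u = true := ext_range (a := 5456) (len := 22) h248 m2_248
  have h250 : ∀ u < 5500, (fun u => chkFix tab mwordsA u) u = true := ext_range (a := 5478) (len := 22) h249 m2_249
  have h251 : ∀ u < 5522, (fun u => chkFix tab mwordsA u) u = true := ext_range (a := 5500) (len := 22) h250 m2_250
  have h252 : ∀ u < 5544, (fun u => chkFix tab mwordsA u) u = true := ext_range (a := 5522) (len := 22) h251 m2_251
  have h253 : ∀ u < 5566, (fun u => chkFix tab mwordsA u) u = true := ext_range (a := 5544) (len := 22) h252 m2_252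
  have h254 : ∀ u < 5588, (fun u => chkFix tab mwordsA u) u = true := ext_range (a := 5566) (len := 22) h253 m2_253
  have h255 : ∀ u < 5610, (fun u => chkFix tab mwordsA u) u = true := ext_range (a := 5588) (len := 22) h254 m2_254
  have h256 : ∀ u < 5632, (fun u => chkFix tab mwordsA u) u = true := ext_range (a := 5610) (len := 22) h255 m2_255
  have h257 : ∀ u < 5654, (fun u => chkFix tab mwordsA u) u = true := ext_range (a := 5632) (len := 22) h256 m2_256
  have h258 : ∀ u < 5676, (fun u => chkFix tab mwordsA u) u = true := ext_range (a := 5654) (len := 22) h257 m2_257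
  have h259 : ∀ u < 5698, (fun u => chkFix tab mwordsA u) u = true := ext_range (a := 5676) (len := 22) h258 m2_258
  have h260 : ∀ u < 5720, (fun u => chkFix tab mwordsA u) u = true := ext_range (a := 5698) (len := 22) h259 m2_259
  have h261 : ∀ u < 5742, (fun u => chkFix tab mwordsA u) u = true := ext_range (a := 5720) (len := 22) h260 m2_260
  have h262 : ∀ u < 5764, (fun u => chkFix tab mwordsA u) u = true := ext_range (a := 5742) (len := 22) h261 m2_261
  have h263 : ∀ u < 5786, (fun u => chkFix tab mwordsA u) u = true := ext_range (a := 5764) (len := 22) h262 m2_262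
  have h264 : ∀ u < 5808, (fun u => chkFix tab mwordsA u) u = true := ext_range (a := 5786) (len := 22) h263 m2_263
  have h265 : ∀ u < 5830, (fun u => chkFix tab mwordsA u) u = true := ext_range (a := 5808) (len := 22) h264 m2_264
  have h266 : ∀ u < 5852, (fun u => chkFix tab mwordsA u) u = true := ext_range (a := 5830) (len := 22) h265 m2_265
  have h267 : ∀ u < 5874, (fun u => chkFix tab mwordsA u) u = true := ext_range (a := 5852) (len := 22) h266 m2_266
  have h268 : ∀ u < 5896, (fun u => chkFix tab mwordsA u) u = true := ext_range (a := 5874) (len := 22) h267 m2_267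
  have h269 : ∀ u < 5918, (fun u => chkFix tab mwordsA u) u = true := ext_range (a := 5896) (len := 22) h268 m2_268
  have h270 : ∀ u < 5940, (fun u => chkFix tab mwordsA u) u = true := ext_range (a := 5918) (len := 22) h269 m2_269
  have h271 : ∀ u < 5962, (fun u => chkFix tab mwordsA u) u = true := ext_range (a := 5940) (len := 22) h270 m2_270
  have h272 : ∀ u < 5984, (fun u => chkFix tab mwordsA u) u = true := ext_range (a := 5962) (len := 22) h271 m2_271
  have h273 : ∀ u < 6006, (fun u => chkFix tab mwordsA u) u = true := ext_range (a := 5984) (len := 22) h272 m2_272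
  have h274 : ∀ u < 6028, (fun u => chkFix tab mwordsA u) u = true := ext_range (a := 6006) (len := 22) h273 m2_273
  have h275 : ∀ u < 6050, (fun u => chkFix tab mwordsA u) u = true := ext_range (a := 6028) (len := 22) h274 m2_274
  have h276 : ∀ u < 6072, (fun u => chkFix tab mwordsA u) u = true := ext_range (a := 6050) (len := 22) h275 m2_275
  have h277 : ∀ u < 6094, (fun u => chkFix tab mwordsA u) u = true := ext_range (a := 6072) (len := 22) h276 m2_276
  have h278 : ∀ u < 6116, (fun u => chkFix tab mwordsA u) u = true := ext_range (a := 6094) (len := 22) h277 m2_277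
  have h279 : ∀ u < 6138, (fun u => chkFix tab mwordsA u) u = true := ext_range (a := 6116) (len := 22) h278 m2_278
  have h280 : ∀ u < 6160, (fun u => chkFix tab mwordsA u) u = true := ext_range (a := 6138) (len := 22) h279 m2_279
  have h281 : ∀ u < 6182, (fun u => chkFix tab mwordsA u) u = true := ext_range (a := 6160) (len := 22) h280 m2_280
  have h282 : ∀ u < 6204, (fun u => chkFix tab mwordsA u) u = true := ext_range (a := 6182) (len := 22) h281 m2_281
  have h283 : ∀ u < 6226, (fun u => chkFix tab mwordsA u) u = true := ext_range (a := 6204) (len := 22) h282 m2_282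
  have h284 : ∀ u < 6248, (fun u => chkFix tab mwordsA u) u = true := ext_range (a := 6226) (len := 22) h283 m2_283
  have h285 : ∀ u < 6270, (fun u => chkFix tab mwordsA u) u = true := ext_range (a := 6248) (len := 22) h284 m2_284
  have h286 : ∀ u < 6292, (fun u => chkFix tab mwordsA u) u = true := ext_range (a := 6270) (len := 22) h285 m2_285
  have h287 : ∀ u < 6314, (fun u => chkFix tab mwordsA u) u = true := ext_range (a := 6292) (len := 22) h286 m2_286
  have h288 : ∀ u < 6336, (fun u => chkFix tab mwordsA u) u = true := ext_range (a := 6314) (len := 22) h287 m2_287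
  have h289 : ∀ u < 6358, (fun u => chkFix tab mwordsA u) u = true := ext_range (a := 6336) (len := 22) h288 m2_288
  have h290 : ∀ u < 6380, (fun u => chkFix tab mwordsA u) u = true := ext_range (a := 6358) (len := 22) h289 m2_289
  have h291 : ∀ u < 6402, (fun u => chkFix tab mwordsA u) u = true := ext_range (a := 6380) (len := 22) h290 m2_290
  have h292 : ∀ u < 6424, (fun u => chkFix tab mwordsA u) u = true := ext_range (a := 6402) (len := 22) h291 m2_291
  have h293 : ∀ u < 6446, (fun u => chkFix tab mwordsA u) u = true := ext_range (a := 6424) (len := 22) h292 m2_292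
  have h294 : ∀ u < 6468, (fun u => chkFix tab mwordsA u) u = true := ext_range (a := 6446) (len := 22) h293 m2_293
  have h295 : ∀ u < 6490, (fun u => chkFix tab mwordsA u) u = true := ext_range (a := 6468) (len := 22) h294 m2_294
  have h296 : ∀ u < 6512, (fun u => chkFix tab mwordsA u) u = true := ext_range (a := 6490) (len := 22) h295 m2_295
  have h297 : ∀ u < 6534, (fun u => chkFix tab mwordsA u) u = true := ext_range (a := 6512) (len := 22) h296 m2_296
  have h298 : ∀ u < 6556, (fun u => chkFix tab mwordsA u) u = true := ext_range (a := 6534) (len := 22) h297 m2_297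
  have h299 : ∀ u < 6578, (fun u => chkFix tab mwordsA u) u = true := ext_range (a := 6556) (len := 22) h298 m2_298
  have h300 : ∀ u < 6600, (fun u => chkFix tab mwordsA u) u = true := ext_range (a := 6578) (len := 22) h299 m2_299
  have h301 : ∀ u < 6622, (fun u => chkFix tab mwordsA u) u = true := ext_range (a := 6600) (len := 22) h300 m2_300
  have h302 : ∀ u < 6644, (fun u => chkFix tab mwordsA u) u = true := ext_range (a := 6622) (len := 22) h301 m2_301
  have h303 : ∀ u < 6666, (fun u => chkFix tab mwordsA u) u = true := ext_range (a := 6644) (len := 22) h302 m2_302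
  have h304 : ∀ u < 6688, (fun u => chkFix tab mwordsA u) u = true := ext_range (a := 6666) (len := 22) h303 m2_303
  have h305 : ∀ u < 6710, (fun u => chkFix tab mwordsA u) u = true := ext_range (a := 6688) (len := 22) h304 m2_304
  have h306 : ∀ u < 6732, (fun u => chkFix tab mwordsA u) u = true := ext_range (a := 6710) (len := 22) h305 m2_305
  have h307 : ∀ u < 6754, (fun u => chkFix tab mwordsA u) u = true := ext_range (a := 6732) (len := 22) h306 m2_306
  have h308 : ∀ u < 6776, (fun u => chkFix tab mwordsA u) u = true := ext_range (a := 6754) (len := 22) h307 m2_307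
  have h309 : ∀ u < 6798, (fun u => chkFix tab mwordsA u) u = true := ext_range (a := 6776) (len := 22) h308 m2_308
  have h310 : ∀ u < 6820, (fun u => chkFix tab mwordsA u) u = true := ext_range (a := 6798) (len := 22) h309 m2_309
  have h311 : ∀ u < 6842, (fun u => chkFix tab mwordsA u) u = true := ext_range (a := 6820) (len := 22) h310 m2_310
  have h312 : ∀ u < 6864, (fun u => chkFix tab mwordsA u) u = true := ext_range (a := 6842) (len := 22) h311 m2_311
  have h313 : ∀ u < 6886, (fun u => chkFix tab mwordsA u) u = true := ext_range (a := 6864) (len := 22) h312 m2_312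
  have h314 : ∀ u < 6908, (fun u => chkFix tab mwordsA u) u = true := ext_range (a := 6886) (len := 22) h313 m2_313
  have h315 : ∀ u < 6930, (fun u => chkFix tab mwordsA u) u = true := ext_range (a := 6908) (len := 22) h314 m2_314
  have h316 : ∀ u < 6952, (fun u => chkFix tab mwordsA u) u = true := ext_range (a := 6930) (len := 22) h315 m2_315
  have h317 : ∀ u < 6974, (fun u => chkFix tab mwordsA u) u = true := ext_range (a := 6952) (len := 22) h316 m2_316
  have h318 : ∀ u < 6996, (fun u => chkFix tab mwordsA u) u = true := ext_range (a := 6974) (len := 22) h317 m2_317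
  have h319 : ∀ u < 7018, (fun u => chkFix tab mwordsA u) u = true := ext_range (a := 6996) (len := 22) h318 m2_318
  have h320 : ∀ u < 7040, (fun u => chkFix tab mwordsA u) u = true := ext_range (a := 7018) (len := 22) h319 m2_319
  have h321 : ∀ u < 7062, (fun u => chkFix tab mwordsA u) u = true := ext_range (a := 7040) (len := 22) h320 m2_320
  have h322 : ∀ u < 7084, (fun u => chkFix tab mwordsA u) u = true := ext_range (a := 7062) (len := 22) h321 m2_321
  have h323 : ∀ u < 7106, (fun u => chkFix tab mwordsA u) u = true := ext_range (a := 7084) (len := 22) h322 m2_322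
  have h324 : ∀ u < 7128, (fun u => chkFix tab mwordsA u) u = true := ext_range (a := 7106) (len := 22) h323 m2_323
  have h325 : ∀ u < 7150, (fun u => chkFix tab mwordsA u) u = true := ext_range (a := 7128) (len := 22) h324 m2_324
  have h326 : ∀ u < 7172, (fun u => chkFix tab mwordsA u) u = true := ext_range (a := 7150) (len := 22) h325 m2_325
  have h327 : ∀ u < 7194, (fun u => chkFix tab mwordsA u) u = true := ext_range (a := 7172) (len := 22) h326 m2_326
  have h328 : ∀ u < 7216, (fun u => chkFix tab mwordsA u) u = true := ext_range (a := 7194) (len := 22) h327 m2_327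
  have h329 : ∀ u < 7238, (fun u => chkFix tab mwordsA u) u = true := ext_range (a := 7216) (len := 22) h328 m2_328
  have h330 : ∀ u < 7260, (fun u => chkFix tab mwordsA u) u = true := ext_range (a := 7238) (len := 22) h329 m2_329
  have h331 : ∀ u < 7282, (fun u => chkFix tab mwordsA u) u = true := ext_range (a := 7260) (len := 22) h330 m2_330
  have h332 : ∀ u < 7304, (fun u => chkFix tab mwordsA u) u = true := ext_range (a := 7282) (len := 22) h331 m2_331
  have h333 : ∀ u < 7326, (fun u => chkFix tab mwordsA u) u = true := ext_range (a := 7304) (len := 22) h332 m2_332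
  have h334 : ∀ u < 7348, (fun u => chkFix tab mwordsA u) u = true := ext_range (a := 7326) (len := 22) h333 m2_333
  have h335 : ∀ u < 7370, (fun u => chkFix tab mwordsA u) u = true := ext_range (a := 7348) (len := 22) h334 m2_334
  have h336 : ∀ u < 7392, (fun u => chkFix tab mwordsA u) u = true := ext_range (a := 7370) (len := 22) h335 m2_335
  have h337 : ∀ u < 7414, (fun u => chkFix tab mwordsA u) u = true := ext_range (a := 7392) (len := 22) h336 m2_336
  have h338 : ∀ u < 7436, (fun u => chkFix tab mwordsA u) u = true := ext_range (a := 7414) (len := 22) h337 m2_337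
  have h339 : ∀ u < 7458, (fun u => chkFix tab mwordsA u) u = true := ext_range (a := 7436) (len := 22) h338 m2_338
  have h340 : ∀ u < 7480, (fun u => chkFix tab mwordsA u) u = true := ext_range (a := 7458) (len := 22) h339 m2_339
  have h341 : ∀ u < 7502, (fun u => chkFix tab mwordsA u) u = true := ext_range (a := 7480) (len := 22) h340 m2_340
  have h342 : ∀ u < 7524, (fun u => chkFix tab mwordsA u) u = true := ext_range (a := 7502) (len := 22) h341 m2_341
  have h343 : ∀ u < 7546, (fun u => chkFix tab mwordsA u) u = true := ext_range (a := 7524) (len := 22) h342 m2_342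
  have h344 : ∀ u < 7568, (fun u => chkFix tab mwordsA u) u = true := ext_range (a := 7546) (len := 22) h343 m2_343
  have h345 : ∀ u < 7590, (fun u => chkFix tab mwordsA u) u = true := ext_range (a := 7568) (len := 22) h344 m2_344
  have h346 : ∀ u < 7612, (fun u => chkFix tab mwordsA u) u = true := ext_range (a := 7590) (len := 22) h345 m2_345
  have h347 : ∀ u < 7634, (fun u => chkFix tab mwordsA u) u = true := ext_range (a := 7612) (len := 22) h346 m2_346
  have h348 : ∀ u < 7656, (fun u => chkFix tab mwordsA u) u = true := ext_range (a := 7634) (len := 22) h347 m2_347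
  have h349 : ∀ u < 7678, (fun u => chkFix tab mwordsA u) u = true := ext_range (a := 7656) (len := 22) h348 m2_348
  have h350 : ∀ u < 7700, (fun u => chkFix tab mwordsA u) u = true := ext_range (a := 7678) (len := 22) h349 m2_349
  have h351 : ∀ u < 7722, (fun u => chkFix tab mwordsA u) u = true := ext_range (a := 7700) (len := 22) h350 m2_350
  have h352 : ∀ u < 7744, (fun u => chkFix tab mwordsA u) u = true := ext_range (a := 7722) (len := 22) h351 m2_351
  have h353 : ∀ u < 7766, (fun u => chkFix tab mwordsA u) u = true := ext_range (a := 7744) (len := 22) h352 m2_352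
  have h354 : ∀ u < 7788, (fun u => chkFix tab mwordsA u) u = true := ext_range (a := 7766) (len := 22) h353 m2_353
  have h355 : ∀ u < 7810, (fun u => chkFix tab mwordsA u) u = true := ext_range (a := 7788) (len := 22) h354 m2_354
  have h356 : ∀ u < 7832, (fun u => chkFix tab mwordsA u) u = true := ext_range (a := 7810) (len := 22) h355 m2_355
  have h357 : ∀ u < 7854, (fun u => chkFix tab mwordsA u) u = true := ext_range (a := 7832) (len := 22) h356 m2_356
  have h358 : ∀ u < 7876, (fun u => chkFix tab mwordsA u) u = true := ext_range (a := 7854) (len := 22) h357 m2_357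
  have h359 : ∀ u < 7898, (fun u => chkFix tab mwordsA u) u = true := ext_range (a := 7876) (len := 22) h358 m2_358
  have h360 : ∀ u < 7920, (fun u => chkFix tab mwordsA u) u = true := ext_range (a := 7898) (len := 22) h359 m2_359
  have h361 : ∀ u < 7942, (fun u => chkFix tab mwordsA u) u = true := ext_range (a := 7920) (len := 22) h360 m2_360
  have h362 : ∀ u < 7964, (fun u => chkFix tab mwordsA u) u = true := ext_range (a := 7942) (len := 22) h361 m2_361
  have h363 : ∀ u < 7986, (fun u => chkFix tab mwordsA u) u = true := ext_range (a := 7964) (len := 22) h362 m2_362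
  have h364 : ∀ u < 8008, (fun u => chkFix tab mwordsA u) u = true := ext_range (a := 7986) (len := 22) h363 m2_363
  have h365 : ∀ u < 8030, (fun u => chkFix tab mwordsA u) u = true := ext_range (a := 8008) (len := 22) h364 m2_364
  have h366 : ∀ u < 8052, (fun u => chkFix tab mwordsA u) u = true := ext_range (a := 8030) (len := 22) h365 m2_365
  have h367 : ∀ u < 8074, (fun u => chkFix tab mwordsA u) u = true := ext_range (a := 8052) (len := 22) h366 m2_366
  have h368 : ∀ u < 8096, (fun u => chkFix tab mwordsA u) u = true := ext_range (a := 8074) (len := 22) h367 m2_367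
  have h369 : ∀ u < 8118, (fun u => chkFix tab mwordsA u) u = true := ext_range (a := 8096) (len := 22) h368 m2_368
  have h370 : ∀ u < 8140, (fun u => chkFix tab mwordsA u) u = true := ext_range (a := 8118) (len := 22) h369 m2_369
  have h371 : ∀ u < 8162, (fun u => chkFix tab mwordsA u) u = true := ext_range (a := 8140) (len := 22) h370 m2_370
  have h372 : ∀ u < 8184, (fun u => chkFix tab mwordsA u) u = true := ext_range (a := 8162) (len := 22) h371 m2_371
  have h373 : ∀ u < 8206, (fun u => chkFix tab mwordsA u) u = true := ext_range (a := 8184) (len := 22) h372 m2_372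
  have h374 : ∀ u < 8228, (fun u => chkFix tab mwordsA u) u = true := ext_range (a := 8206) (len := 22) h373 m2_373
  have h375 : ∀ u < 8250, (fun u => chkFix tab mwordsA u) u = true := ext_range (a := 8228) (len := 22) h374 m2_374
  have h376 : ∀ u < 8272, (fun u => chkFix tab mwordsA u) u = true := ext_range (a := 8250) (len := 22) h375 m2_375
  have h377 : ∀ u < 8294, (fun u => chkFix tab mwordsA u) u = true := ext_range (a := 8272) (len := 22) h376 m2_376
  have h378 : ∀ u < 8316, (fun u => chkFix tab mwordsA u) u = true := ext_range (a := 8294) (len := 22) h377 m2_377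
  have h379 : ∀ u < 8338, (fun u => chkFix tab mwordsA u) u = true := ext_range (a := 8316) (len := 22) h378 m2_378
  have h380 : ∀ u < 8360, (fun u => chkFix tab mwordsA u) u = true := ext_range (a := 8338) (len := 22) h379 m2_379
  have h381 : ∀ u < 8382, (fun u => chkFix tab mwordsA u) u = true := ext_range (a := 8360) (len := 22) h380 m2_380
  have h382 : ∀ u < 8404, (fun u => chkFix tab mwordsA u) u = true := ext_range (a := 8382) (len := 22) h381 m2_381
  have h383 : ∀ u < 8426, (fun u => chkFix tab mwordsA u) u = true := ext_range (a := 8404) (len := 22) h382 m2_382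
  have h384 : ∀ u < 8448, (fun u => chkFix tab mwordsA u) u = true := ext_range (a := 8426) (len := 22) h383 m2_383
  have h385 : ∀ u < 8470, (fun u => chkFix tab mwordsA u) u = true := ext_range (a := 8448) (len := 22) h384 m2_384
  have h386 : ∀ u < 8492, (fun u => chkFix tab mwordsA u) u = true := ext_range (a := 8470) (len := 22) h385 m2_385
  have h387 : ∀ u < 8514, (fun u => chkFix tab mwordsA u) u = true := ext_range (a := 8492) (len := 22) h386 m2_386
  have h388 : ∀ u < 8536, (fun u => chkFix tab mwordsA u) u = true := ext_range (a := 8514) (len := 22) h387 m2_387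
  have h389 : ∀ u < 8558, (fun u => chkFix tab mwordsA u) u = true := ext_range (a := 8536) (len := 22) h388 m2_388
  have h390 : ∀ u < 8580, (fun u => chkFix tab mwordsA u) u = true := ext_range (a := 8558) (len := 22) h389 m2_389
  have h391 : ∀ u < 8602, (fun u => chkFix tab mwordsA u) u = true := ext_range (a := 8580) (len := 22) h390 m2_390
  have h392 : ∀ u < 8624, (fun u => chkFix tab mwordsA u) u = true := ext_range (a := 8602) (len := 22) h391 m2_391
  have h393 : ∀ u < 8646, (fun u => chkFix tab mwordsA u) u = true := ext_range (a := 8624) (len := 22) h392 m2_392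
  have h394 : ∀ u < 8668, (fun u => chkFix tab mwordsA u) u = true := ext_range (a := 8646) (len := 22) h393 m2_393
  have h395 : ∀ u < 8690, (fun u => chkFix tab mwordsA u) u = true := ext_range (a := 8668) (len := 22) h394 m2_394
  have h396 : ∀ u < 8712, (fun u => chkFix tab mwordsA u) u = true := ext_range (a := 8690) (len := 22) h395 m2_395
  have h397 : ∀ u < 8734, (fun u => chkFix tab mwordsA u) u = true := ext_range (a := 8712) (len := 22) h396 m2_396
  have h398 : ∀ u < 8756, (fun u => chkFix tab mwordsA u) u = true := ext_range (a := 8734) (len := 22) h397 m2_397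
  have h399 : ∀ u < 8778, (fun u => chkFix tab mwordsA u) u = true := ext_range (a := 8756) (len := 22) h398 m2_398
  have h400 : ∀ u < 8800, (fun u => chkFix tab mwordsA u) u = true := ext_range (a := 8778) (len := 22) h399 m2_399
  have h401 : ∀ u < 8822, (fun u => chkFix tab mwordsA u) u = true := ext_range (a := 8800) (len := 22) h400 m2_400
  have h402 : ∀ u < 8844, (fun u => chkFix tab mwordsA u) u = true := ext_range (a := 8822) (len := 22) h401 m2_401
  have h403 : ∀ u < 8866, (fun u => chkFix tab mwordsA u) u = true := ext_range (a := 8844) (len := 22) h402 m2_402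
  have h404 : ∀ u < 8888, (fun u => chkFix tab mwordsA u) u = true := ext_range (a := 8866) (len := 22) h403 m2_403
  have h405 : ∀ u < 8910, (fun u => chkFix tab mwordsA u) u = true := ext_range (a := 8888) (len := 22) h404 m2_404
  have h406 : ∀ u < 8932, (fun u => chkFix tab mwordsA u) u = true := ext_range (a := 8910) (len := 22) h405 m2_405
  have h407 : ∀ u < 8954, (fun u => chkFix tab mwordsA u) u = true := ext_range (a := 8932) (len := 22) h406 m2_406
  have h408 : ∀ u < 8976, (fun u => chkFix tab mwordsA u) u = true := ext_range (a := 8954) (len := 22) h407 m2_407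
  have h409 : ∀ u < 8998, (fun u => chkFix tab mwordsA u) u = true := ext_range (a := 8976) (len := 22) h408 m2_408
  have h410 : ∀ u < 9020, (fun u => chkFix tab mwordsA u) u = true := ext_range (a := 8998) (len := 22) h409 m2_409
  have h411 : ∀ u < 9042, (fun u => chkFix tab mwordsA u) u = true := ext_range (a := 9020) (len := 22) h410 m2_410
  have h412 : ∀ u < 9064, (fun u => chkFix tab mwordsA u) u = true := ext_range (a := 9042) (len := 22) h411 m2_411
  have h413 : ∀ u < 9086, (fun u => chkFix tab mwordsA u) u = true := ext_range (a := 9064) (len := 22) h412 m2_412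
  have h414 : ∀ u < 9108, (fun u => chkFix tab mwordsA u) u = true := ext_range (a := 9086) (len := 22) h413 m2_413
  have h415 : ∀ u < 9130, (fun u => chkFix tab mwordsA u) u = true := ext_range (a := 9108) (len := 22) h414 m2_414
  have h416 : ∀ u < 9152, (fun u => chkFix tab mwordsA u) u = true := ext_range (a := 9130) (len := 22) h415 m2_415
  have h417 : ∀ u < 9174, (fun u => chkFix tab mwordsA u) u = true := ext_range (a := 9152) (len := 22) h416 m2_416
  have h418 : ∀ u < 9196, (fun u => chkFix tab mwordsA u) u = true := ext_range (a := 9174) (len := 22) h417 m2_417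
  have h419 : ∀ u < 9218, (fun u => chkFix tab mwordsA u) u = true := ext_range (a := 9196) (len := 22) h418 m2_418
  have h420 : ∀ u < 9240, (fun u => chkFix tab mwordsA u) u = true := ext_range (a := 9218) (len := 22) h419 m2_419
  have h421 : ∀ u < 9262, (fun u => chkFix tab mwordsA u) u = true := ext_range (a := 9240) (len := 22) h420 m2_420
  have h422 : ∀ u < 9284, (fun u => chkFix tab mwordsA u) u = true := ext_range (a := 9262) (len := 22) h421 m2_421
  have h423 : ∀ u < 9306, (fun u => chkFix tab mwordsA u) u = true := ext_range (a := 9284) (len := 22) h422 m2_422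
  have h424 : ∀ u < 9328, (fun u => chkFix tab mwordsA u) u = true := ext_range (a := 9306) (len := 22) h423 m2_423
  have h425 : ∀ u < 9350, (fun u => chkFix tab mwordsA u) u = true := ext_range (a := 9328) (len := 22) h424 m2_424
  have h426 : ∀ u < 9372, (fun u => chkFix tab mwordsA u) u = true := ext_range (a := 9350) (len := 22) h425 m2_425
  have h427 : ∀ u < 9394, (fun u => chkFix tab mwordsA u) u = true := ext_range (a := 9372) (len := 22) h426 m2_426
  have h428 : ∀ u < 9416, (fun u => chkFix tab mwordsA u) u = true := ext_range (a := 9394) (len := 22) h427 m2_427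
  have h429 : ∀ u < 9438, (fun u => chkFix tab mwordsA u) u = true := ext_range (a := 9416) (len := 22) h428 m2_428
  have h430 : ∀ u < 9460, (fun u => chkFix tab mwordsA u) u = true := ext_range (a := 9438) (len := 22) h429 m2_429
  have h431 : ∀ u < 9482, (fun u => chkFix tab mwordsA u) u = true := ext_range (a := 9460) (len := 22) h430 m2_430
  have h432 : ∀ u < 9504, (fun u => chkFix tab mwordsA u) u = true := ext_range (a := 9482) (len := 22) h431 m2_431
  have h433 : ∀ u < 9526, (fun u => chkFix tab mwordsA u) u = true := ext_range (a := 9504) (len := 22) h432 m2_432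
  have h434 : ∀ u < 9548, (fun u => chkFix tab mwordsA u) u = true := ext_range (a := 9526) (len := 22) h433 m2_433
  have h435 : ∀ u < 9570, (fun u => chkFix tab mwordsA u) u = true := ext_range (a := 9548) (len := 22) h434 m2_434
  have h436 : ∀ u < 9592, (fun u => chkFix tab mwordsA u) u = true := ext_range (a := 9570) (len := 22) h435 m2_435
  have h437 : ∀ u < 9614, (fun u => chkFix tab mwordsA u) u = true := ext_range (a := 9592) (len := 22) h436 m2_436
  have h438 : ∀ u < 9636, (fun u => chkFix tab mwordsA u) u = true := ext_range (a := 9614) (len := 22) h437 m2_437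
  have h439 : ∀ u < 9658, (fun u => chkFix tab mwordsA u) u = true := ext_range (a := 9636) (len := 22) h438 m2_438
  have h440 : ∀ u < 9680, (fun u => chkFix tab mwordsA u) u = true := ext_range (a := 9658) (len := 22) h439 m2_439
  have h441 : ∀ u < 9702, (fun u => chkFix tab mwordsA u) u = true := ext_range (a := 9680) (len := 22) h440 m2_440
  have h442 : ∀ u < 9724, (fun u => chkFix tab mwordsA u) u = true := ext_range (a := 9702) (len := 22) h441 m2_441
  have h443 : ∀ u < 9746, (fun u => chkFix tab mwordsA u) u = true := ext_range (a := 9724) (len := 22) h442 m2_442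
  have h444 : ∀ u < 9768, (fun u => chkFix tab mwordsA u) u = true := ext_range (a := 9746) (len := 22) h443 m2_443
  have h445 : ∀ u < 9790, (fun u => chkFix tab mwordsA u) u = true := ext_range (a := 9768) (len := 22) h444 m2_444
  have h446 : ∀ u < 9812, (fun u => chkFix tab mwordsA u) u = true := ext_range (a := 9790) (len := 22) h445 m2_445
  have h447 : ∀ u < 9834, (fun u => chkFix tab mwordsA u) u = true := ext_range (a := 9812) (len := 22) h446 m2_446
  have h448 : ∀ u < 9856, (fun u => chkFix tab mwordsA u) u = true := ext_range (a := 9834) (len := 22) h447 m2_447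
  have h449 : ∀ u < 9878, (fun u => chkFix tab mwordsA u) u = true := ext_range (a := 9856) (len := 22) h448 m2_448
  have h450 : ∀ u < 9900, (fun u => chkFix tab mwordsA u) u = true := ext_range (a := 9878) (len := 22) h449 m2_449
  have h451 : ∀ u < 9922, (fun u => chkFix tab mwordsA u) u = true := ext_range (a := 9900) (len := 22) h450 m2_450
  have h452 : ∀ u < 9944, (fun u => chkFix tab mwordsA u) u = true := ext_range (a := 9922) (len := 22) h451 m2_451
  have h453 : ∀ u < 9966, (fun u => chkFix tab mwordsA u) u = true := ext_range (a := 9944) (len := 22) h452 m2_452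
  have h454 : ∀ u < 9988, (fun u => chkFix tab mwordsA u) u = true := ext_range (a := 9966) (len := 22) h453 m2_453
  have h455 : ∀ u < 10010, (fun u => chkFix tab mwordsA u) u = true := ext_range (a := 9988) (len := 22) h454 m2_454
  have h456 : ∀ u < 10032, (fun u => chkFix tab mwordsA u) u = true := ext_range (a := 10010) (len := 22) h455 m2_455
  have h457 : ∀ u < 10054, (fun u => chkFix tab mwordsA u) u = true := ext_range (a := 10032) (len := 22) h456 m2_456
  have h458 : ∀ u < 10076, (fun u => chkFix tab mwordsA u) u = true := ext_range (a := 10054) (len := 22) h457 m2_457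
  have h459 : ∀ u < 10098, (fun u => chkFix tab mwordsA u) u = true := ext_range (a := 10076) (len := 22) h458 m2_458
  have h460 : ∀ u < 10120, (fun u => chkFix tab mwordsA u) u = true := ext_range (a := 10098) (len := 22) h459 m2_459
  have h461 : ∀ u < 10142, (fun u => chkFix tab mwordsA u) u = true := ext_range (a := 10120) (len := 22) h460 m2_460
  have h462 : ∀ u < 10164, (fun u => chkFix tab mwordsA u) u = true := ext_range (a := 10142) (len := 22) h461 m2_461
  have h463 : ∀ u < 10186, (fun u => chkFix tab mwordsA u) u = true := ext_range (a := 10164) (len := 22) h462 m2_462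
  have h464 : ∀ u < 10208, (fun u => chkFix tab mwordsA u) u = true := ext_range (a := 10186) (len := 22) h463 m2_463
  have h465 : ∀ u < 10230, (fun u => chkFix tab mwordsA u) u = true := ext_range (a := 10208) (len := 22) h464 m2_464
  have h466 : ∀ u < 10252, (fun u => chkFix tab mwordsA u) u = true := ext_range (a := 10230) (len := 22) h465 m2_465
  have h467 : ∀ u < 10274, (fun u => chkFix tab mwordsA u) u = true := ext_range (a := 10252) (len := 22) h466 m2_466
  have h468 : ∀ u < 10296, (fun u => chkFix tab mwordsA u) u = true := ext_range (a := 10274) (len := 22) h467 m2_467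
  have h469 : ∀ u < 10318, (fun u => chkFix tab mwordsA u) u = true := ext_range (a := 10296) (len := 22) h468 m2_468
  have h470 : ∀ u < 10340, (fun u => chkFix tab mwordsA u) u = true := ext_range (a := 10318) (len := 22) h469 m2_469
  have h471 : ∀ u < 10362, (fun u => chkFix tab mwordsA u) u = true := ext_range (a := 10340) (len := 22) h470 m2_470
  have h472 : ∀ u < 10384, (fun u => chkFix tab mwordsA u) u = true := ext_range (a := 10362) (len := 22) h471 m2_471
  have h473 : ∀ u < 10406, (fun u => chkFix tab mwordsA u) u = true := ext_range (a := 10384) (len := 22) h472 m2_472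
  have h474 : ∀ u < 10428, (fun u => chkFix tab mwordsA u) u = true := ext_range (a := 10406) (len := 22) h473 m2_473
  have h475 : ∀ u < 10450, (fun u => chkFix tab mwordsA u) u = true := ext_range (a := 10428) (len := 22) h474 m2_474
  have h476 : ∀ u < 10472, (fun u => chkFix tab mwordsA u) u = true := ext_range (a := 10450) (len := 22) h475 m2_475
  have h477 : ∀ u < 10494, (fun u => chkFix tab mwordsA u) u = true := ext_range (a := 10472) (len := 22) h476 m2_476
  have h478 : ∀ u < 10516, (fun u => chkFix tab mwordsA u) u = true := ext_range (a := 10494) (len := 22) h477 m2_477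
  have h479 : ∀ u < 10538, (fun u => chkFix tab mwordsA u) u = true := ext_range (a := 10516) (len := 22) h478 m2_478
  have h480 : ∀ u < 10560, (fun u => chkFix tab mwordsA u) u = true := ext_range (a := 10538) (len := 22) h479 m2_479
  have h481 : ∀ u < 10582, (fun u => chkFix tab mwordsA u) u = true := ext_range (a := 10560) (len := 22) h480 m2_480
  have h482 : ∀ u < 10604, (fun u => chkFix tab mwordsA u) u = true := ext_range (a := 10582) (len := 22) h481 m2_481
  have h483 : ∀ u < 10626, (fun u => chkFix tab mwordsA u) u = true := ext_range (a := 10604) (len := 22) h482 m2_482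
  have h484 : ∀ u < 10648, (fun u => chkFix tab mwordsA u) u = true := ext_range (a := 10626) (len := 22) h483 m2_483
  have h485 : ∀ u < 10670, (fun u => chkFix tab mwordsA u) u = true := ext_range (a := 10648) (len := 22) h484 m2_484
  have h486 : ∀ u < 10692, (fun u => chkFix tab mwordsA u) u = true := ext_range (a := 10670) (len := 22) h485 m2_485
  have h487 : ∀ u < 10714, (fun u => chkFix tab mwordsA u) u = true := ext_range (a := 10692) (len := 22) h486 m2_486
  have h488 : ∀ u < 10736, (fun u => chkFix tab mwordsA u) u = true := ext_range (a := 10714) (len := 22) h487 m2_487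
  have h489 : ∀ u < 10758, (fun u => chkFix tab mwordsA u) u = true := ext_range (a := 10736) (len := 22) h488 m2_488
  have h490 : ∀ u < 10780, (fun u => chkFix tab mwordsA u) u = true := ext_range (a := 10758) (len := 22) h489 m2_489
  have h491 : ∀ u < 10802, (fun u => chkFix tab mwordsA u) u = true := ext_range (a := 10780) (len := 22) h490 m2_490
  have h492 : ∀ u < 10824, (fun u => chkFix tab mwordsA u) u = true := ext_range (a := 10802) (len := 22) h491 m2_491
  have h493 : ∀ u < 10846, (fun u => chkFix tab mwordsA u) u = true := ext_range (a := 10824) (len := 22) h492 m2_492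
  have h494 : ∀ u < 10868, (fun u => chkFix tab mwordsA u) u = true := ext_range (a := 10846) (len := 22) h493 m2_493
  have h495 : ∀ u < 10890, (fun u => chkFix tab mwordsA u) u = true := ext_range (a := 10868) (len := 22) h494 m2_494
  have h496 : ∀ u < 10912, (fun u => chkFix tab mwordsA u) u = true := ext_range (a := 10890) (len := 22) h495 m2_495
  have h497 : ∀ u < 10934, (fun u => chkFix tab mwordsA u) u = true := ext_range (a := 10912) (len := 22) h496 m2_496
  have h498 : ∀ u < 10956, (fun u => chkFix tab mwordsA u) u = true := ext_range (a := 10934) (len := 22) h497 m2_497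
  have h499 : ∀ u < 10978, (fun u => chkFix tab mwordsA u) u = true := ext_range (a := 10956) (len := 22) h498 m2_498
  have h500 : ∀ u < 11000, (fun u => chkFix tab mwordsA u) u = true := ext_range (a := 10978) (len := 22) h499 m2_499
  have h501 : ∀ u < 11022, (fun u => chkFix tab mwordsA u) u = true := ext_range (a := 11000) (len := 22) h500 m2_500
  have h502 : ∀ u < 11044, (fun u => chkFix tab mwordsA u) u = true := ext_range (a := 11022) (len := 22) h501 m2_501
  have h503 : ∀ u < 11066, (fun u => chkFix tab mwordsA u) u = true := ext_range (a := 11044) (len := 22) h502 m2_502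
  have h504 : ∀ u < 11088, (fun u => chkFix tab mwordsA u) u = true := ext_range (a := 11066) (len := 22) h503 m2_503
  have h505 : ∀ u < 11110, (fun u => chkFix tab mwordsA u) u = true := ext_range (a := 11088) (len := 22) h504 m2_504
  have h506 : ∀ u < 11132, (fun u => chkFix tab mwordsA u) u = true := ext_range (a := 11110) (len := 22) h505 m2_505
  have h507 : ∀ u < 11154, (fun u => chkFix tab mwordsA u) u = true := ext_range (a := 11132) (len := 22) h506 m2_506
  have h508 : ∀ u < 11176, (fun u => chkFix tab mwordsA u) u = true := ext_range (a := 11154) (len := 22) h507 m2_507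
  have h509 : ∀ u < 11198, (fun u => chkFix tab mwordsA u) u = true := ext_range (a := 11176) (len := 22) h508 m2_508
  have h510 : ∀ u < 11220, (fun u => chkFix tab mwordsA u) u = true := ext_range (a := 11198) (len := 22) h509 m2_509
  have h511 : ∀ u < 11242, (fun u => chkFix tab mwordsA u) u = true := ext_range (a := 11220) (len := 22) h510 m2_510
  have h512 : ∀ u < 11264, (fun u => chkFix tab mwordsA u) u = true := ext_range (a := 11242) (len := 22) h511 m2_511
  have h513 : ∀ u < 11286, (fun u => chkFix tab mwordsA u) u = true := ext_range (a := 11264) (len := 22) h512 m2_512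
  have h514 : ∀ u < 11308, (fun u => chkFix tab mwordsA u) u = true := ext_range (a := 11286) (len := 22) h513 m2_513
  have h515 : ∀ u < 11330, (fun u => chkFix tab mwordsA u) u = true := ext_range (a := 11308) (len := 22) h514 m2_514
  have h516 : ∀ u < 11352, (fun u => chkFix tab mwordsA u) u = true := ext_range (a := 11330) (len := 22) h515 m2_515
  have h517 : ∀ u < 11374, (fun u => chkFix tab mwordsA u) u = true := ext_range (a := 11352) (len := 22) h516 m2_516
  have h518 : ∀ u < 11396, (fun u => chkFix tab mwordsA u) u = true := ext_range (a := 11374) (len := 22) h517 m2_517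
  have h519 : ∀ u < 11418, (fun u => chkFix tab mwordsA u) u = true := ext_range (a := 11396) (len := 22) h518 m2_518
  have h520 : ∀ u < 11440, (fun u => chkFix tab mwordsA u) u = true := ext_range (a := 11418) (len := 22) h519 m2_519
  have h521 : ∀ u < 11462, (fun u => chkFix tab mwordsA u) u = true := ext_range (a := 11440) (len := 22) h520 m2_520
  have h522 : ∀ u < 11484, (fun u => chkFix tab mwordsA u) u = true := ext_range (a := 11462) (len := 22) h521 m2_521
  have h523 : ∀ u < 11506, (fun u => chkFix tab mwordsA u) u = true := ext_range (a := 11484) (len := 22) h522 m2_522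
  have h524 : ∀ u < 11528, (fun u => chkFix tab mwordsA u) u = true := ext_range (a := 11506) (len := 22) h523 m2_523
  have h525 : ∀ u < 11550, (fun u => chkFix tab mwordsA u) u = true := ext_range (a := 11528) (len := 22) h524 m2_524
  have h526 : ∀ u < 11572, (fun u => chkFix tab mwordsA u) u = true := ext_range (a := 11550) (len := 22) h525 m2_525
  have h527 : ∀ u < 11594, (fun u => chkFix tab mwordsA u) u = true := ext_range (a := 11572) (len := 22) h526 m2_526
  have h528 : ∀ u < 11616, (fun u => chkFix tab mwordsA u) u = true := ext_range (a := 11594) (len := 22) h527 m2_527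
  have h529 : ∀ u < 11638, (fun u => chkFix tab mwordsA u) u = true := ext_range (a := 11616) (len := 22) h528 m2_528
  have h530 : ∀ u < 11660, (fun u => chkFix tab mwordsA u) u = true := ext_range (a := 11638) (len := 22) h529 m2_529
  have h531 : ∀ u < 11682, (fun u => chkFix tab mwordsA u) u = true := ext_range (a := 11660) (len := 22) h530 m2_530
  have h532 : ∀ u < 11704, (fun u => chkFix tab mwordsA u) u = true := ext_range (a := 11682) (len := 22) h531 m2_531
  have h533 : ∀ u < 11726, (fun u => chkFix tab mwordsA u) u = true := ext_range (a := 11704) (len := 22) h532 m2_532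
  have h534 : ∀ u < 11748, (fun u => chkFix tab mwordsA u) u = true := ext_range (a := 11726) (len := 22) h533 m2_533
  have h535 : ∀ u < 11770, (fun u => chkFix tab mwordsA u) u = true := ext_range (a := 11748) (len := 22) h534 m2_534
  have h536 : ∀ u < 11792, (fun u => chkFix tab mwordsA u) u = true := ext_range (a := 11770) (len := 22) h535 m2_535
  have h537 : ∀ u < 11814, (fun u => chkFix tab mwordsA u) u = true := ext_range (a := 11792) (len := 22) h536 m2_536
  have h538 : ∀ u < 11836, (fun u => chkFix tab mwordsA u) u = true := ext_range (a := 11814) (len := 22) h537 m2_537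
  have h539 : ∀ u < 11858, (fun u => chkFix tab mwordsA u) u = true := ext_range (a := 11836) (len := 22) h538 m2_538
  have h540 : ∀ u < 11880, (fun u => chkFix tab mwordsA u) u = true := ext_range (a := 11858) (len := 22) h539 m2_539
  have h541 : ∀ u < 11902, (fun u => chkFix tab mwordsA u) u = true := ext_range (a := 11880) (len := 22) h540 m2_540
  have h542 : ∀ u < 11924, (fun u => chkFix tab mwordsA u) u = true := ext_range (a := 11902) (len := 22) h541 m2_541
  have h543 : ∀ u < 11946, (fun u => chkFix tab mwordsA u) u = true := ext_range (a := 11924) (len := 22) h542 m2_542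
  have h544 : ∀ u < 11968, (fun u => chkFix tab mwordsA u) u = true := ext_range (a := 11946) (len := 22) h543 m2_543
  have h545 : ∀ u < 11990, (fun u => chkFix tab mwordsA u) u = true := ext_range (a := 11968) (len := 22) h544 m2_544
  have h546 : ∀ u < 12012, (fun u => chkFix tab mwordsA u) u = true := ext_range (a := 11990) (len := 22) h545 m2_545
  have h547 : ∀ u < 12034, (fun u => chkFix tab mwordsA u) u = true := ext_range (a := 12012) (len := 22) h546 m2_546
  have h548 : ∀ u < 12056, (fun u => chkFix tab mwordsA u) u = true := ext_range (a := 12034) (len := 22) h547 m2_547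
  have h549 : ∀ u < 12078, (fun u => chkFix tab mwordsA u) u = true := ext_range (a := 12056) (len := 22) h548 m2_548
  have h550 : ∀ u < 12100, (fun u => chkFix tab mwordsA u) u = true := ext_range (a := 12078) (len := 22) h549 m2_549
  have h551 : ∀ u < 12122, (fun u => chkFix tab mwordsA u) u = true := ext_range (a := 12100) (len := 22) h550 m2_550
  have h552 : ∀ u < 12144, (fun u => chkFix tab mwordsA u) u = true := ext_range (a := 12122) (len := 22) h551 m2_551
  have h553 : ∀ u < 12166, (fun u => chkFix tab mwordsA u) u = true := ext_range (a := 12144) (len := 22) h552 m2_552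
  have h554 : ∀ u < 12188, (fun u => chkFix tab mwordsA u) u = true := ext_range (a := 12166) (len := 22) h553 m2_553
  have h555 : ∀ u < 12210, (fun u => chkFix tab mwordsA u) u = true := ext_range (a := 12188) (len := 22) h554 m2_554
  have h556 : ∀ u < 12232, (fun u => chkFix tab mwordsA u) u = true := ext_range (a := 12210) (len := 22) h555 m2_555
  have h557 : ∀ u < 12254, (fun u => chkFix tab mwordsA u) u = true := ext_range (a := 12232) (len := 22) h556 m2_556
  have h558 : ∀ u < 12276, (fun u => chkFix tab mwordsA u) u = true := ext_range (a := 12254) (len := 22) h557 m2_557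
  have h559 : ∀ u < 12298, (fun u => chkFix tab mwordsA u) u = true := ext_range (a := 12276) (len := 22) h558 m2_558
  have h560 : ∀ u < 12320, (fun u => chkFix tab mwordsA u) u = true := ext_range (a := 12298) (len := 22) h559 m2_559
  have h561 : ∀ u < 12342, (fun u => chkFix tab mwordsA u) u = true := ext_range (a := 12320) (len := 22) h560 m2_560
  have h562 : ∀ u < 12364, (fun u => chkFix tab mwordsA u) u = true := ext_range (a := 12342) (len := 22) h561 m2_561
  have h563 : ∀ u < 12386, (fun u => chkFix tab mwordsA u) u = true := ext_range (a := 12364) (len := 22) h562 m2_562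
  have h564 : ∀ u < 12408, (fun u => chkFix tab mwordsA u) u = true := ext_range (a := 12386) (len := 22) h563 m2_563
  have h565 : ∀ u < 12430, (fun u => chkFix tab mwordsA u) u = true := ext_range (a := 12408) (len := 22) h564 m2_564
  have h566 : ∀ u < 12452, (fun u => chkFix tab mwordsA u) u = true := ext_range (a := 12430) (len := 22) h565 m2_565
  have h567 : ∀ u < 12474, (fun u => chkFix tab mwordsA u) u = true := ext_range (a := 12452) (len := 22) h566 m2_566
  have h568 : ∀ u < 12496, (fun u => chkFix tab mwordsA u) u = true := ext_range (a := 12474) (len := 22) h567 m2_567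
  have h569 : ∀ u < 12518, (fun u => chkFix tab mwordsA u) u = true := ext_range (a := 12496) (len := 22) h568 m2_568
  have h570 : ∀ u < 12540, (fun u => chkFix tab mwordsA u) u = true := ext_range (a := 12518) (len := 22) h569 m2_569
  have h571 : ∀ u < 12562, (fun u => chkFix tab mwordsA u) u = true := ext_range (a := 12540) (len := 22) h570 m2_570
  have h572 : ∀ u < 12584, (fun u => chkFix tab mwordsA u) u = true := ext_range (a := 12562) (len := 22) h571 m2_571
  have h573 : ∀ u < 12606, (fun u => chkFix tab mwordsA u) u = true := ext_range (a := 12584) (len := 22) h572 m2_572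
  have h574 : ∀ u < 12628, (fun u => chkFix tab mwordsA u) u = true := ext_range (a := 12606) (len := 22) h573 m2_573
  have h575 : ∀ u < 12650, (fun u => chkFix tab mwordsA u) u = true := ext_range (a := 12628) (len := 22) h574 m2_574
  have h576 : ∀ u < 12672, (fun u => chkFix tab mwordsA u) u = true := ext_range (a := 12650) (len := 22) h575 m2_575
  have h577 : ∀ u < 12694, (fun u => chkFix tab mwordsA u) u = true := ext_range (a := 12672) (len := 22) h576 m2_576
  have h578 : ∀ u < 12716, (fun u => chkFix tab mwordsA u) u = true := ext_range (a := 12694) (len := 22) h577 m2_577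
  have h579 : ∀ u < 12738, (fun u => chkFix tab mwordsA u) u = true := ext_range (a := 12716) (len := 22) h578 m2_578
  have h580 : ∀ u < 12760, (fun u => chkFix tab mwordsA u) u = true := ext_range (a := 12738) (len := 22) h579 m2_579
  have h581 : ∀ u < 12782, (fun u => chkFix tab mwordsA u) u = true := ext_range (a := 12760) (len := 22) h580 m2_580
  have h582 : ∀ u < 12804, (fun u => chkFix tab mwordsA u) u = true := ext_range (a := 12782) (len := 22) h581 m2_581
  have h583 : ∀ u < 12826, (fun u => chkFix tab mwordsA u) u = true := ext_range (a := 12804) (len := 22) h582 m2_582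
  have h584 : ∀ u < 12848, (fun u => chkFix tab mwordsA u) u = true := ext_range (a := 12826) (len := 22) h583 m2_583
  have h585 : ∀ u < 12870, (fun u => chkFix tab mwordsA u) u = true := ext_range (a := 12848) (len := 22) h584 m2_584
  have h586 : ∀ u < 12892, (fun u => chkFix tab mwordsA u) u = true := ext_range (a := 12870) (len := 22) h585 m2_585
  have h587 : ∀ u < 12914, (fun u => chkFix tab mwordsA u) u = true := ext_range (a := 12892) (len := 22) h586 m2_586
  have h588 : ∀ u < 12936, (fun u => chkFix tab mwordsA u) u = true := ext_range (a := 12914) (len := 22) h587 m2_587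
  have h589 : ∀ u < 12958, (fun u => chkFix tab mwordsA u) u = true := ext_range (a := 12936) (len := 22) h588 m2_588
  have h590 : ∀ u < 12980, (fun u => chkFix tab mwordsA u) u = true := ext_range (a := 12958) (len := 22) h589 m2_589
  have h591 : ∀ u < 13002, (fun u => chkFix tab mwordsA u) u = true := ext_range (a := 12980) (len := 22) h590 m2_590
  have h592 : ∀ u < 13024, (fun u => chkFix tab mwordsA u) u = true := ext_range (a := 13002) (len := 22) h591 m2_591
  have h593 : ∀ u < 13046, (fun u => chkFix tab mwordsA u) u = true := ext_range (a := 13024) (len := 22) h592 m2_592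
  have h594 : ∀ u < 13068, (fun u => chkFix tab mwordsA u) u = true := ext_range (a := 13046) (len := 22) h593 m2_593
  have h595 : ∀ u < 13090, (fun u => chkFix tab mwordsA u) u = true := ext_range (a := 13068) (len := 22) h594 m2_594
  have h596 : ∀ u < 13112, (fun u => chkFix tab mwordsA u) u = true := ext_range (a := 13090) (len := 22) h595 m2_595
  have h597 : ∀ u < 13134, (fun u => chkFix tab mwordsA u) u = true := ext_range (a := 13112) (len := 22) h596 m2_596
  have h598 : ∀ u < 13156, (fun u => chkFix tab mwordsA u) u = true := ext_range (a := 13134) (len := 22) h597 m2_597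
  have h599 : ∀ u < 13178, (fun u => chkFix tab mwordsA u) u = true := ext_range (a := 13156) (len := 22) h598 m2_598
  have h600 : ∀ u < 13200, (fun u => chkFix tab mwordsA u) u = true := ext_range (a := 13178) (len := 22) h599 m2_599
  have h601 : ∀ u < 13222, (fun u => chkFix tab mwordsA u) u = true := ext_range (a := 13200) (len := 22) h600 m2_600
  have h602 : ∀ u < 13244, (fun u => chkFix tab mwordsA u) u = true := ext_range (a := 13222) (len := 22) h601 m2_601
  have h603 : ∀ u < 13266, (fun u => chkFix tab mwordsA u) u = true := ext_range (a := 13244) (len := 22) h602 m2_602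
  have h604 : ∀ u < 13288, (fun u => chkFix tab mwordsA u) u = true := ext_range (a := 13266) (len := 22) h603 m2_603
  have h605 : ∀ u < 13310, (fun u => chkFix tab mwordsA u) u = true := ext_range (a := 13288) (len := 22) h604 m2_604
  have h606 : ∀ u < 13332, (fun u => chkFix tab mwordsA u) u = true := ext_range (a := 13310) (len := 22) h605 m2_605
  have h607 : ∀ u < 13354, (fun u => chkFix tab mwordsA u) u = true := ext_range (a := 13332) (len := 22) h606 m2_606
  have h608 : ∀ u < 13376, (fun u => chkFix tab mwordsA u) u = true := ext_range (a := 13354) (len := 22) h607 m2_607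
  have h609 : ∀ u < 13398, (fun u => chkFix tab mwordsA u) u = true := ext_range (a := 13376) (len := 22) h608 m2_608
  have h610 : ∀ u < 13420, (fun u => chkFix tab mwordsA u) u = true := ext_range (a := 13398) (len := 22) h609 m2_609
  have h611 : ∀ u < 13442, (fun u => chkFix tab mwordsA u) u = true := ext_range (a := 13420) (len := 22) h610 m2_610
  have h612 : ∀ u < 13464, (fun u => chkFix tab mwordsA u) u = true := ext_range (a := 13442) (len := 22) h611 m2_611
  have h613 : ∀ u < 13486, (fun u => chkFix tab mwordsA u) u = true := ext_range (a := 13464) (len := 22) h612 m2_612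
  have h614 : ∀ u < 13508, (fun u => chkFix tab mwordsA u) u = true := ext_range (a := 13486) (len := 22) h613 m2_613
  have h615 : ∀ u < 13530, (fun u => chkFix tab mwordsA u) u = true := ext_range (a := 13508) (len := 22) h614 m2_614
  have h616 : ∀ u < 13552, (fun u => chkFix tab mwordsA u) u = true := ext_range (a := 13530) (len := 22) h615 m2_615
  have h617 : ∀ u < 13574, (fun u => chkFix tab mwordsA u) u = true := ext_range (a := 13552) (len := 22) h616 m2_616
  have h618 : ∀ u < 13596, (fun u => chkFix tab mwordsA u) u = true := ext_range (a := 13574) (len := 22) h617 m2_617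
  have h619 : ∀ u < 13618, (fun u => chkFix tab mwordsA u) u = true := ext_range (a := 13596) (len := 22) h618 m2_618
  have h620 : ∀ u < 13640, (fun u => chkFix tab mwordsA u) u = true := ext_range (a := 13618) (len := 22) h619 m2_619
  have h621 : ∀ u < 13662, (fun u => chkFix tab mwordsA u) u = true := ext_range (a := 13640) (len := 22) h620 m2_620
  have h622 : ∀ u < 13684, (fun u => chkFix tab mwordsA u) u = true := ext_range (a := 13662) (len := 22) h621 m2_621
  have h623 : ∀ u < 13706, (fun u => chkFix tab mwordsA u) u = true := ext_range (a := 13684) (len := 22) h622 m2_622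
  have h624 : ∀ u < 13728, (fun u => chkFix tab mwordsA u) u = true := ext_range (a := 13706) (len := 22) h623 m2_623
  have h625 : ∀ u < 13750, (fun u => chkFix tab mwordsA u) u = true := ext_range (a := 13728) (len := 22) h624 m2_624
  have h626 : ∀ u < 13772, (fun u => chkFix tab mwordsA u) u = true := ext_range (a := 13750) (len := 22) h625 m2_625
  have h627 : ∀ u < 13794, (fun u => chkFix tab mwordsA u) u = true := ext_range (a := 13772) (len := 22) h626 m2_626
  have h628 : ∀ u < 13816, (fun u => chkFix tab mwordsA u) u = true := ext_range (a := 13794) (len := 22) h627 m2_627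
  have h629 : ∀ u < 13838, (fun u => chkFix tab mwordsA u) u = true := ext_range (a := 13816) (len := 22) h628 m2_628
  have h630 : ∀ u < 13860, (fun u => chkFix tab mwordsA u) u = true := ext_range (a := 13838) (len := 22) h629 m2_629
  have h631 : ∀ u < 13882, (fun u => chkFix tab mwordsA u) u = true := ext_range (a := 13860) (len := 22) h630 m2_630
  have h632 : ∀ u < 13904, (fun u => chkFix tab mwordsA u) u = true := ext_range (a := 13882) (len := 22) h631 m2_631
  have h633 : ∀ u < 13926, (fun u => chkFix tab mwordsA u) u = true := ext_range (a := 13904) (len := 22) h632 m2_632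
  have h634 : ∀ u < 13948, (fun u => chkFix tab mwordsA u) u = true := ext_range (a := 13926) (len := 22) h633 m2_633
  have h635 : ∀ u < 13970, (fun u => chkFix tab mwordsA u) u = true := ext_range (a := 13948) (len := 22) h634 m2_634
  have h636 : ∀ u < 13992, (fun u => chkFix tab mwordsA u) u = true := ext_range (a := 13970) (len := 22) h635 m2_635
  have h637 : ∀ u < 14014, (fun u => chkFix tab mwordsA u) u = true := ext_range (a := 13992) (len := 22) h636 m2_636
  have h638 : ∀ u < 14036, (fun u => chkFix tab mwordsA u) u = true := ext_range (a := 14014) (len := 22) h637 m2_637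
  have h639 : ∀ u < 14058, (fun u => chkFix tab mwordsA u) u = true := ext_range (a := 14036) (len := 22) h638 m2_638
  have h640 : ∀ u < 14080, (fun u => chkFix tab mwordsA u) u = true := ext_range (a := 14058) (len := 22) h639 m2_639
  have h641 : ∀ u < 14102, (fun u => chkFix tab mwordsA u) u = true := ext_range (a := 14080) (len := 22) h640 m2_640
  have h642 : ∀ u < 14124, (fun u => chkFix tab mwordsA u) u = true := ext_range (a := 14102) (len := 22) h641 m2_641
  have h643 : ∀ u < 14146, (fun u => chkFix tab mwordsA u) u = true := ext_range (a := 14124) (len := 22) h642 m2_642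
  have h644 : ∀ u < 14168, (fun u => chkFix tab mwordsA u) u = true := ext_range (a := 14146) (len := 22) h643 m2_643
  have h645 : ∀ u < 14190, (fun u => chkFix tab mwordsA u) u = true := ext_range (a := 14168) (len := 22) h644 m2_644
  have h646 : ∀ u < 14212, (fun u => chkFix tab mwordsA u) u = true := ext_range (a := 14190) (len := 22) h645 m2_645
  have h647 : ∀ u < 14234, (fun u => chkFix tab mwordsA u) u = true := ext_range (a := 14212) (len := 22) h646 m2_646
  have h648 : ∀ u < 14256, (fun u => chkFix tab mwordsA u) u = true := ext_range (a := 14234) (len := 22) h647 m2_647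
  have h649 : ∀ u < 14278, (fun u => chkFix tab mwordsA u) u = true := ext_range (a := 14256) (len := 22) h648 m2_648
  have h650 : ∀ u < 14300, (fun u => chkFix tab mwordsA u) u = true := ext_range (a := 14278) (len := 22) h649 m2_649
  have h651 : ∀ u < 14322, (fun u => chkFix tab mwordsA u) u = true := ext_range (a := 14300) (len := 22) h650 m2_650
  have h652 : ∀ u < 14344, (fun u => chkFix tab mwordsA u) u = true := ext_range (a := 14322) (len := 22) h651 m2_651
  have h653 : ∀ u < 14366, (fun u => chkFix tab mwordsA u) u = true := ext_range (a := 14344) (len := 22) h652 m2_652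
  have h654 : ∀ u < 14388, (fun u => chkFix tab mwordsA u) u = true := ext_range (a := 14366) (len := 22) h653 m2_653
  have h655 : ∀ u < 14410, (fun u => chkFix tab mwordsA u) u = true := ext_range (a := 14388) (len := 22) h654 m2_654
  have h656 : ∀ u < 14432, (fun u => chkFix tab mwordsA u) u = true := ext_range (a := 14410) (len := 22) h655 m2_655
  have h657 : ∀ u < 14454, (fun u => chkFix tab mwordsA u) u = true := ext_range (a := 14432) (len := 22) h656 m2_656
  have h658 : ∀ u < 14476, (fun u => chkFix tab mwordsA u) u = true := ext_range (a := 14454) (len := 22) h657 m2_657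
  have h659 : ∀ u < 14498, (fun u => chkFix tab mwordsA u) u = true := ext_range (a := 14476) (len := 22) h658 m2_658
  have h660 : ∀ u < 14520, (fun u => chkFix tab mwordsA u) u = true := ext_range (a := 14498) (len := 22) h659 m2_659
  have h661 : ∀ u < 14542, (fun u => chkFix tab mwordsA u) u = true := ext_range (a := 14520) (len := 22) h660 m2_660
  have h662 : ∀ u < 14564, (fun u => chkFix tab mwordsA u) u = true := ext_range (a := 14542) (len := 22) h661 m2_661
  have h663 : ∀ u < 14586, (fun u => chkFix tab mwordsA u) u = true := ext_range (a := 14564) (len := 22) h662 m2_662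
  have h664 : ∀ u < 14608, (fun u => chkFix tab mwordsA u) u = true := ext_range (a := 14586) (len := 22) h663 m2_663
  have h665 : ∀ u < 14630, (fun u => chkFix tab mwordsA u) u = true := ext_range (a := 14608) (len := 22) h664 m2_664
  have h666 : ∀ u < 14652, (fun u => chkFix tab mwordsA u) u = true := ext_range (a := 14630) (len := 22) h665 m2_665
  have h667 : ∀ u < 14674, (fun u => chkFix tab mwordsA u) u = true := ext_range (a := 14652) (len := 22) h666 m2_666
  have h668 : ∀ u < 14696, (fun u => chkFix tab mwordsA u) u = true := ext_range (a := 14674) (len := 22) h667 m2_667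
  have h669 : ∀ u < 14718, (fun u => chkFix tab mwordsA u) u = true := ext_range (a := 14696) (len := 22) h668 m2_668
  have h670 : ∀ u < 14740, (fun u => chkFix tab mwordsA u) u = true := ext_range (a := 14718) (len := 22) h669 m2_669
  have h671 : ∀ u < 14762, (fun u => chkFix tab mwordsA u) u = true := ext_range (a := 14740) (len := 22) h670 m2_670
  have h672 : ∀ u < 14784, (fun u => chkFix tab mwordsA u) u = true := ext_range (a := 14762) (len := 22) h671 m2_671
  have h673 : ∀ u < 14806, (fun u => chkFix tab mwordsA u) u = true := ext_range (a := 14784) (len := 22) h672 m2_672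
  have h674 : ∀ u < 14828, (fun u => chkFix tab mwordsA u) u = true := ext_range (a := 14806) (len := 22) h673 m2_673
  have h675 : ∀ u < 14850, (fun u => chkFix tab mwordsA u) u = true := ext_range (a := 14828) (len := 22) h674 m2_674
  have h676 : ∀ u < 14872, (fun u => chkFix tab mwordsA u) u = true := ext_range (a := 14850) (len := 22) h675 m2_675
  have h677 : ∀ u < 14894, (fun u => chkFix tab mwordsA u) u = true := ext_range (a := 14872) (len := 22) h676 m2_676
  have h678 : ∀ u < 14916, (fun u => chkFix tab mwordsA u) u = true := ext_range (a := 14894) (len := 22) h677 m2_677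
  have h679 : ∀ u < 14938, (fun u => chkFix tab mwordsA u) u = true := ext_range (a := 14916) (len := 22) h678 m2_678
  have h680 : ∀ u < 14960, (fun u => chkFix tab mwordsA u) u = true := ext_range (a := 14938) (len := 22) h679 m2_679
  have h681 : ∀ u < 14982, (fun u => chkFix tab mwordsA u) u = true := ext_range (a := 14960) (len := 22) h680 m2_680
  have h682 : ∀ u < 15004, (fun u => chkFix tab mwordsA u) u = true := ext_range (a := 14982) (len := 22) h681 m2_681
  have h683 : ∀ u < 15026, (fun u => chkFix tab mwordsA u) u = true := ext_range (a := 15004) (len := 22) h682 m2_682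
  have h684 : ∀ u < 15048, (fun u => chkFix tab mwordsA u) u = true := ext_range (a := 15026) (len := 22) h683 m2_683
  have h685 : ∀ u < 15070, (fun u => chkFix tab mwordsA u) u = true := ext_range (a := 15048) (len := 22) h684 m2_684
  have h686 : ∀ u < 15092, (fun u => chkFix tab mwordsA u) u = true := ext_range (a := 15070) (len := 22) h685 m2_685
  have h687 : ∀ u < 15114, (fun u => chkFix tab mwordsA u) u = true := ext_range (a := 15092) (len := 22) h686 m2_686
  have h688 : ∀ u < 15136, (fun u => chkFix tab mwordsA u) u = true := ext_range (a := 15114) (len := 22) h687 m2_687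
  have h689 : ∀ u < 15158, (fun u => chkFix tab mwordsA u) u = true := ext_range (a := 15136) (len := 22) h688 m2_688
  have h690 : ∀ u < 15180, (fun u => chkFix tab mwordsA u) u = true := ext_range (a := 15158) (len := 22) h689 m2_689
  have h691 : ∀ u < 15202, (fun u => chkFix tab mwordsA u) u = true := ext_range (a := 15180) (len := 22) h690 m2_690
  have h692 : ∀ u < 15224, (fun u => chkFix tab mwordsA u) u = true := ext_range (a := 15202) (len := 22) h691 m2_691
  have h693 : ∀ u < 15246, (fun u => chkFix tab mwordsA u) u = true := ext_range (a := 15224) (len := 22) h692 m2_692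
  have h694 : ∀ u < 15268, (fun u => chkFix tab mwordsA u) u = true := ext_range (a := 15246) (len := 22) h693 m2_693
  have h695 : ∀ u < 15290, (fun u => chkFix tab mwordsA u) u = true := ext_range (a := 15268) (len := 22) h694 m2_694
  have h696 : ∀ u < 15312, (fun u => chkFix tab mwordsA u) u = true := ext_range (a := 15290) (len := 22) h695 m2_695
  have h697 : ∀ u < 15334, (fun u => chkFix tab mwordsA u) u = true := ext_range (a := 15312) (len := 22) h696 m2_696
  have h698 : ∀ u < 15356, (fun u => chkFix tab mwordsA u) u = true := ext_range (a := 15334) (len := 22) h697 m2_697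
  have h699 : ∀ u < 15378, (fun u => chkFix tab mwordsA u) u = true := ext_range (a := 15356) (len := 22) h698 m2_698
  have h700 : ∀ u < 15400, (fun u => chkFix tab mwordsA u) u = true := ext_range (a := 15378) (len := 22) h699 m2_699
  have h701 : ∀ u < 15422, (fun u => chkFix tab mwordsA u) u = true := ext_range (a := 15400) (len := 22) h700 m2_700
  have h702 : ∀ u < 15444, (fun u => chkFix tab mwordsA u) u = true := ext_range (a := 15422) (len := 22) h701 m2_701
  have h703 : ∀ u < 15466, (fun u => chkFix tab mwordsA u) u = true := ext_range (a := 15444) (len := 22) h702 m2_702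
  have h704 : ∀ u < 15488, (fun u => chkFix tab mwordsA u) u = true := ext_range (a := 15466) (len := 22) h703 m2_703
  have h705 : ∀ u < 15510, (fun u => chkFix tab mwordsA u) u = true := ext_range (a := 15488) (len := 22) h704 m2_704
  have h706 : ∀ u < 15532, (fun u => chkFix tab mwordsA u) u = true := ext_range (a := 15510) (len := 22) h705 m2_705
  have h707 : ∀ u < 15554, (fun u => chkFix tab mwordsA u) u = true := ext_range (a := 15532) (len := 22) h706 m2_706
  have h708 : ∀ u < 15576, (fun u => chkFix tab mwordsA u) u = true := ext_range (a := 15554) (len := 22) h707 m2_707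
  have h709 : ∀ u < 15598, (fun u => chkFix tab mwordsA u) u = true := ext_range (a := 15576) (len := 22) h708 m2_708
  have h710 : ∀ u < 15620, (fun u => chkFix tab mwordsA u) u = true := ext_range (a := 15598) (len := 22) h709 m2_709
  have h711 : ∀ u < 15642, (fun u => chkFix tab mwordsA u) u = true := ext_range (a := 15620) (len := 22) h710 m2_710
  have h712 : ∀ u < 15664, (fun u => chkFix tab mwordsA u) u = true := ext_range (a := 15642) (len := 22) h711 m2_711
  have h713 : ∀ u < 15686, (fun u => chkFix tab mwordsA u) u = true := ext_range (a := 15664) (len := 22) h712 m2_712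
  have h714 : ∀ u < 15708, (fun u => chkFix tab mwordsA u) u = true := ext_range (a := 15686) (len := 22) h713 m2_713
  have h715 : ∀ u < 15730, (fun u => chkFix tab mwordsA u) u = true := ext_range (a := 15708) (len := 22) h714 m2_714
  have h716 : ∀ u < 15752, (fun u => chkFix tab mwordsA u) u = true := ext_range (a := 15730) (len := 22) h715 m2_715
  have h717 : ∀ u < 15774, (fun u => chkFix tab mwordsA u) u = true := ext_range (a := 15752) (len := 22) h716 m2_716
  have h718 : ∀ u < 15796, (fun u => chkFix tab mwordsA u) u = true := ext_range (a := 15774) (len := 22) h717 m2_717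
  have h719 : ∀ u < 15818, (fun u => chkFix tab mwordsA u) u = true := ext_range (a := 15796) (len := 22) h718 m2_718
  have h720 : ∀ u < 15840, (fun u => chkFix tab mwordsA u) u = true := ext_range (a := 15818) (len := 22) h719 m2_719
  have h721 : ∀ u < 15862, (fun u => chkFix tab mwordsA u) u = true := ext_range (a := 15840) (len := 22) h720 m2_720
  have h722 : ∀ u < 15884, (fun u => chkFix tab mwordsA u) u = true := ext_range (a := 15862) (len := 22) h721 m2_721
  have h723 : ∀ u < 15906, (fun u => chkFix tab mwordsA u) u = true := ext_range (a := 15884) (len := 22) h722 m2_722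
  have h724 : ∀ u < 15928, (fun u => chkFix tab mwordsA u) u = true := ext_range (a := 15906) (len := 22) h723 m2_723
  have h725 : ∀ u < 15950, (fun u => chkFix tab mwordsA u) u = true := ext_range (a := 15928) (len := 22) h724 m2_724
  have h726 : ∀ u < 15972, (fun u => chkFix tab mwordsA u) u = true := ext_range (a := 15950) (len := 22) h725 m2_725
  have h727 : ∀ u < 15994, (fun u => chkFix tab mwordsA u) u = true := ext_range (a := 15972) (len := 22) h726 m2_726
  have h728 : ∀ u < 16016, (fun u => chkFix tab mwordsA u) u = true := ext_range (a := 15994) (len := 22) h727 m2_727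
  have h729 : ∀ u < 16038, (fun u => chkFix tab mwordsA u) u = true := ext_range (a := 16016) (len := 22) h728 m2_728
  have h730 : ∀ u < 16060, (fun u => chkFix tab mwordsA u) u = true := ext_range (a := 16038) (len := 22) h729 m2_729
  have h731 : ∀ u < 16082, (fun u => chkFix tab mwordsA u) u = true := ext_range (a := 16060) (len := 22) h730 m2_730
  have h732 : ∀ u < 16104, (fun u => chkFix tab mwordsA u) u = true := ext_range (a := 16082) (len := 22) h731 m2_731
  have h733 : ∀ u < 16126, (fun u => chkFix tab mwordsA u) u = true := ext_range (a := 16104) (len := 22) h732 m2_732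
  have h734 : ∀ u < 16148, (fun u => chkFix tab mwordsA u) u = true := ext_range (a := 16126) (len := 22) h733 m2_733
  have h735 : ∀ u < 16170, (fun u => chkFix tab mwordsA u) u = true := ext_range (a := 16148) (len := 22) h734 m2_734
  have h736 : ∀ u < 16192, (fun u => chkFix tab mwordsA u) u = true := ext_range (a := 16170) (len := 22) h735 m2_735
  have h737 : ∀ u < 16214, (fun u => chkFix tab mwordsA u) u = true := ext_range (a := 16192) (len := 22) h736 m2_736
  have h738 : ∀ u < 16236, (fun u => chkFix tab mwordsA u) u = true := ext_range (a := 16214) (len := 22) h737 m2_737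
  have h739 : ∀ u < 16258, (fun u => chkFix tab mwordsA u) u = true := ext_range (a := 16236) (len := 22) h738 m2_738
  have h740 : ∀ u < 16280, (fun u => chkFix tab mwordsA u) u = true := ext_range (a := 16258) (len := 22) h739 m2_739
  have h741 : ∀ u < 16302, (fun u => chkFix tab mwordsA u) u = true := ext_range (a := 16280) (len := 22) h740 m2_740
  have h742 : ∀ u < 16324, (fun u => chkFix tab mwordsA u) u = true := ext_range (a := 16302) (len := 22) h741 m2_741
  have h743 : ∀ u < 16346, (fun u => chkFix tab mwordsA u) u = true := ext_range (a := 16324) (len := 22) h742 m2_742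
  have h744 : ∀ u < 16368, (fun u => chkFix tab mwordsA u) u = true := ext_range (a := 16346) (len := 22) h743 m2_743
  have h745 : ∀ u < 16390, (fun u => chkFix tab mwordsA u) u = true := ext_range (a := 16368) (len := 22) h744 m2_744
  have h746 : ∀ u < 16412, (fun u => chkFix tab mwordsA u) u = true := ext_range (a := 16390) (len := 22) h745 m2_745
  have h747 : ∀ u < 16434, (fun u => chkFix tab mwordsA u) u = true := ext_range (a := 16412) (len := 22) h746 m2_746
  have h748 : ∀ u < 16456, (fun u => chkFix tab mwordsA u) u = true := ext_range (a := 16434) (len := 22) h747 m2_747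
  have h749 : ∀ u < 16478, (fun u => chkFix tab mwordsA u) u = true := ext_range (a := 16456) (len := 22) h748 m2_748
  have h750 : ∀ u < 16500, (fun u => chkFix tab mwordsA u) u = true := ext_range (a := 16478) (len := 22) h749 m2_749
  have h751 : ∀ u < 16522, (fun u => chkFix tab mwordsA u) u = true := ext_range (a := 16500) (len := 22) h750 m2_750
  have h752 : ∀ u < 16544, (fun u => chkFix tab mwordsA u) u = true := ext_range (a := 16522) (len := 22) h751 m2_751
  have h753 : ∀ u < 16566, (fun u => chkFix tab mwordsA u) u = true := ext_range (a := 16544) (len := 22) h752 m2_752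
  have h754 : ∀ u < 16588, (fun u => chkFix tab mwordsA u) u = true := ext_range (a := 16566) (len := 22) h753 m2_753
  have h755 : ∀ u < 16610, (fun u => chkFix tab mwordsA u) u = true := ext_range (a := 16588) (len := 22) h754 m2_754
  have h756 : ∀ u < 16632, (fun u => chkFix tab mwordsA u) u = true := ext_range (a := 16610) (len := 22) h755 m2_755
  have h757 : ∀ u < 16640, (fun u => chkFix tab mwordsA u) u = true := ext_range (a := 16632) (len := 8) h756 m2_756
  exact h757

theorem hE : ∀ c < 4, ∀ u < 73421, chkE tab c u = true := by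
  intro c hc
  interval_cases c
  · exact hE0
  · exact hE1
  · exact hE2
  · exact hE3

end Cfsg.Agent.Helper9.TCData.Sz8C0
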