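import Cfsg.Agent.Lib.Helper9.TC2Cox
import Cfsg.Agent.Lib.Helper9.TC2Aux
import Cfsg.Agent.Lib.Helper9.TC2BSGS
import Cfsg.Agent.Lib.Helper9.TC2Pack
import Cfsg.Agent.Lib.Helper9.TCData.Sz8C0.P0
import Cfsg.Agent.Lib.Helper9.TCData.Sz8C0.P1

set_option autoImplicit false
set_option maxRecDepth 100000

namespace Cfsg.Agent.Helper9.TCData.Sz8C0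
open Cfsg.Agent.Helper9.TC2
/-- The rotated relators. -/
noncomputable def rotT : WT := (WT.node 166 (WT.node 83 (WT.node 41 (WT.node 20 (WT.node 10 (WT.node 5 (WT.node 2 (WT.node 1 (WT.leaf [0, 0, 0, 0, 0]) (WT.leaf [0, 3, 0, 3, 1, 2, 1, 2, 1, 2, 1, 2, 0, 3, 0, 3])) (WT.node 3 (WT.leaf [0, 2, 1, 1, 2, 1, 1, 0, 3, 0, 0, 3]) (WT.node 4 (WT.leaf [0, 3, 0, 3, 0, 0, 2, 0, 3, 0, 3, 0, 0, 2, 0, 3, 0, 3, 0, 0, 2, 0, 3, 0, 3, 0, 0, 2, 0, 3, 0, 3, 0, 0, 2, 0, 3, 0, 3, 0, 0, 2, 0, 3, 0, 3, 0, 2, 1, 2, 1, 3, 1, 1, 2, 1, 2, 1, 3, 1, 1, 2, 1, 2, 1, 3, 1, 1, 2, 1, 2, 1, 3, 1, 1, 2, 1, 2, 1, 3, 1, 1, 2, 1, 2, 1, 3, 1, 1, 2, 1, 2, 1, 3, 1,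 1, 0, 2]) (WT.leaf [0, 0, 3, 0, 2, 1, 1, 2, 1, 1, 0, 3])))) (WT.node 7 (WT.node 6 (WT.leaf [0, 2, 1, 2, 0, 3, 1, 3, 0, 2, 1, 2, 0, 3, 1, 3, 0, 2, 1, 2, 0, 3, 1, 3, 0, 2, 1, 2, 0, 3, 1, 3, 0, 2, 1, 2, 0, 3, 1, 3, 0, 2, 1, 2, 0, 3, 1, 3, 0, 2, 1, 2, 0, 3, 1, 3, 0, 2, 1, 2, 0, 3, 1, 3, 0, 2, 1, 2, 0, 3, 1, 3, 0, 2, 1, 2, 0, 3, 1, 3, 0, 2, 1, 2, 0, 3, 1, 3, 0, 2, 1, 2, 0, 3, 1, 3, 0, 2, 1, 2, 0, 3, 1, 3, 0, 2, 1, 2, 0, 3, 1, 3, 0, 2, 1, 2, 0, 3, 1, 3, 0, 2, 1, 2, 0, 3, 1, 1, 3]) (WT.leaf [0, 0, 3, 0, 2, 1, 2, 1, 1, 2, 1, 3, 0, 3])) (WT.node 8 (WT.leaf [0, 3, 0, 2, 1, 1, 2, 1, 1, 0, 3, 0]) (WT.node 9 (WT.leaf [0, 3, 1, 2, 1, 2,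 1, 2, 1, 2, 0, 3, 0, 3, 0, 3]) (WT.leaf [0, 3, 1, 3, 0, 2, 1, 2, 0, 3, 1, 3, 0, 2, 1, 2, 0, 3, 1, 3, 0, 2, 1, 2, 0, 3, 1, 3, 0, 2, 1, 2, 0, 3, 1, 3, 0, 2, 1, 2, 0, 3, 1, 3, 0, 2, 1, 2, 0, 3, 1, 3, 0, 2, 1, 2, 0, 3, 1, 3, 0, 2, 1, 2, 0, 3, 1, 3, 0, 2, 1, 2, 0, 3, 1, 3, 0, 2, 1, 2, 0, 3, 1, 3, 0, 2, 1, 2, 0, 3, 1, 3, 0, 2, 1, 2, 0, 3, 1, 3, 0, 2, 1, 2, 0, 3, 1, 3, 0, 2, 1, 2, 0, 3, 1, 3, 0, 2, 1, 2, 0, 3, 1, 1, 3, 0, 2, 1, 2]))))) (WT.node 15 (WT.node 12 (WT.node 11 (WT.leaf [0, 3, 0, 2, 1, 2, 1, 1, 2, 1, 3, 0, 3, 0]) (WT.leaf [0, 2, 1, 2, 1, 1, 2, 1, 3, 0, 3, 0, 0, 3])) (WT.node 13 (WT.leaf [0, 3, 0, 3, 1, 2, 1, 2, 0, 3, 0,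 3, 1, 2, 1, 2, 0, 3, 0, 3, 1, 2, 1, 2, 0, 3, 0, 3, 1, 2, 1, 2, 0, 3, 0, 3, 1, 2, 1, 2, 0, 3, 0, 3, 1, 2, 1, 2, 0, 3, 0, 3, 1, 2, 1, 2, 0, 3, 0, 3, 3, 3, 3, 3, 3, 1, 2, 1, 2]) (WT.node 14 (WT.leaf [0, 3, 0, 3, 0, 3, 0, 3, 1, 2, 1, 2, 1, 2, 1, 2]) (WT.leaf [0, 0, 2, 0, 3, 0, 3, 0, 0, 2, 0, 3, 0, 3, 0, 0, 2, 0, 3, 0, 3, 0, 0, 2, 0, 3, 0, 3, 0, 0, 2, 0, 3, 0, 3, 0, 0, 2, 0, 3, 0, 3, 0, 2, 1, 2, 1, 3, 1, 1, 2, 1, 2, 1, 3, 1, 1, 2, 1, 2, 1, 3, 1, 1, 2, 1, 2, 1, 3, 1, 1, 2, 1, 2, 1, 3, 1, 1, 2, 1, 2, 1, 3, 1, 1, 2, 1, 2, 1, 3, 1, 1, 0, 2, 0, 3, 0, 3])))) (WT.node 17 (WT.node 16 (WT.leaf [0, 2, 2, 0, 0, 3, 0, 3, 0, 2, 2, 0, 0, 3,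 0, 3, 0, 2, 2, 0, 0, 3, 0, 3, 0, 2, 2, 0, 0, 3, 0, 3, 0, 2, 2, 0, 3, 3, 1, 2, 1, 2, 1, 1, 3, 3, 1, 2, 1, 2, 1, 1, 3, 3, 1, 2, 1, 2, 1, 1, 3, 3, 1, 2, 1, 2, 1, 1, 3, 3, 1, 2, 1, 2, 1, 1, 1, 0, 0, 3, 0, 3]) (WT.leaf [0, 3, 0, 0, 3, 0, 2, 1, 2, 1, 1, 2, 1, 3])) (WT.node 18 (WT.leaf [0, 2, 1, 2, 0, 3, 1, 1, 3, 0, 2, 1, 2, 0, 3, 1, 3, 0, 2, 1, 2, 0, 3, 1, 3, 0, 2, 1, 2, 0, 3, 1, 3, 0, 2, 1, 2, 0, 3, 1, 3, 0, 2, 1, 2, 0, 3, 1, 3, 0, 2, 1, 2, 0, 3, 1, 3, 0, 2, 1, 2, 0, 3, 1, 3, 0, 2, 1, 2, 0, 3, 1, 3, 0, 2, 1, 2, 0, 3, 1, 3, 0, 2, 1, 2, 0, 3, 1, 3, 0, 2, 1, 2, 0, 3, 1, 3, 0, 2, 1, 2, 0, 3, 1, 3, 0, 2, 1, 2, 0, 3, 1, 3, 0, 2, 1, 2,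 0, 3, 1, 3, 0, 2, 1, 2, 0, 3, 1, 3]) (WT.node 19 (WT.leaf [0, 3, 0, 3, 0, 3, 1, 2, 1, 2, 1, 2, 1, 2, 0, 3]) (WT.leaf [0, 2, 1, 2, 0, 3, 1, 3, 0, 2, 1, 2, 0, 3, 1, 3, 0, 2, 1, 2, 0, 3, 1, 3, 0, 2, 1, 2, 0, 3, 1, 3, 0, 2, 1, 2, 0, 3, 1, 3, 0, 2, 1, 2, 0, 3, 1, 3, 0, 2, 1, 2, 0, 3, 1, 3, 0, 2, 1, 2, 0, 3, 1, 3, 0, 2, 1, 2, 0, 3, 1, 3, 0, 2, 1, 2, 0, 3, 1, 3, 0, 2, 1, 2, 0, 3, 1, 3, 0, 2, 1, 2, 0, 3, 1, 3, 0, 2, 1, 2, 0, 3, 1, 3, 0, 2, 1, 2, 0, 3, 1, 3, 0, 2, 1, 2, 0, 3, 1, 1, 3, 0, 2, 1, 2, 0, 3, 1, 3])))))) (WT.node 30 (WT.node 25 (WT.node 22 (WT.node 21 (WT.leaf [0, 2, 2, 0, 0, 3, 0, 3, 0, 2, 2, 0, 3, 3, 1, 2, 1, 2, 1, 1, 3,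 3, 1, 2, 1, 2, 1, 1, 3, 3, 1, 2, 1, 2, 1, 1, 3, 3, 1, 2, 1, 2, 1, 1, 3, 3, 1, 2, 1, 2, 1, 1, 1, 0, 0, 3, 0, 3, 0, 2, 2, 0, 0, 3, 0, 3, 0, 2, 2, 0, 0, 3, 0, 3, 0, 2, 2, 0, 0, 3, 0, 3]) (WT.leaf [0, 2, 0, 3, 0, 3, 0, 0, 2, 0, 3, 0, 3, 0, 0, 2, 0, 3, 0, 3, 0, 0, 2, 0, 3, 0, 3, 0, 0, 2, 0, 3, 0, 3, 0, 0, 2, 0, 3, 0, 3, 0, 2, 1, 2, 1, 3, 1, 1, 2, 1, 2, 1, 3, 1, 1, 2, 1, 2, 1, 3, 1, 1, 2, 1, 2, 1, 3, 1, 1, 2, 1, 2, 1, 3, 1, 1, 2, 1, 2, 1, 3, 1, 1, 2, 1, 2, 1, 3, 1, 1, 0, 2, 0, 3, 0, 3, 0])) (WT.node 23 (WT.leaf [0, 0, 3, 0, 3, 0, 2, 2, 0, 0, 3, 0, 3, 0, 2, 2, 0, 0, 3, 0, 3, 0, 2, 2, 0, 0, 3, 0, 3, 0, 2, 2, 0, 0, 3, 0, 3, 0, 2, 1,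 2, 1, 2, 1, 1, 3, 3, 1, 2, 1, 2, 1, 1, 3, 3, 1, 2, 1, 2, 1, 1, 3, 3, 1, 2, 1, 2, 1, 1, 3, 3, 1, 2, 1, 2, 1, 1, 3]) (WT.node 24 (WT.leaf [0, 3, 0, 3, 0, 0, 2, 0, 3, 0, 3, 0, 0, 2, 0, 3, 0, 3, 0, 2, 1, 2, 1, 2, 1, 3, 1, 1, 2, 1, 2, 1, 3, 1, 1, 2, 1, 2, 1, 3, 1, 1, 2, 1, 2, 1, 3, 1, 1, 2, 1, 2, 1, 3, 1, 1, 2, 1, 2, 1, 3, 1, 1, 2, 1, 2, 1, 3, 1, 3, 0, 2, 0, 3, 0, 3, 0, 0, 2, 0, 3, 0, 3, 0, 0, 2, 0, 3, 0, 3, 0, 0, 2, 0, 3, 0, 3, 0, 0, 2]) (WT.leaf [0, 2, 2, 0, 0, 3, 0, 3, 0, 2, 2, 0, 0, 3, 0, 3, 0, 2, 2, 0, 3, 3, 1, 2, 1, 2, 1, 1, 3, 3, 1, 2, 1, 2, 1, 1, 3, 3, 1, 2, 1, 2, 1, 1, 3, 3, 1, 2, 1, 2, 1, 1, 3, 3, 1, 2, 1, 2, 1, 1, 1,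 0, 0, 3, 0, 3, 0, 2, 2, 0, 0, 3, 0, 3, 0, 2, 2, 0, 0, 3, 0, 3])))) (WT.node 27 (WT.node 26 (WT.leaf [0, 2, 0, 3, 0, 3, 0, 0, 2, 0, 3, 0, 3, 0, 0, 2, 0, 3, 0, 3, 0, 0, 2, 0, 3, 0, 3, 0, 0, 2, 0, 3, 0, 3, 0, 2, 1, 2, 1, 2, 1, 3, 1, 1, 2, 1, 2, 1, 3, 1, 1, 2, 1, 2, 1, 3, 1, 1, 2, 1, 2, 1, 3, 1, 1, 2, 1, 2, 1, 3, 1, 1, 2, 1, 2, 1, 3, 1, 1, 2, 1, 2, 1, 3, 1, 3, 0, 2, 0, 3, 0, 3, 0, 0, 2, 0, 3, 0, 3, 0]) (WT.leaf [0, 0, 3, 0, 3, 0, 2, 2, 0, 0, 3, 0, 3, 0, 2, 2, 0, 3, 3, 1, 2, 1, 2, 1, 1, 3, 3, 1, 2, 1, 2, 1, 1, 3, 3, 1, 2, 1, 2, 1, 1, 3, 3, 1, 2, 1, 2, 1, 1, 3, 3, 1, 2, 1, 2, 1, 1, 1, 0, 0, 3, 0, 3, 0, 2, 2, 0, 0, 3, 0, 3, 0, 2,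 2, 0, 0, 3, 0, 3, 0, 2, 2])) (WT.node 28 (WT.leaf [0, 3, 0, 3, 0, 0, 2, 0, 3, 0, 3, 0, 2, 1, 2, 1, 2, 1, 3, 1, 1, 2, 1, 2, 1, 3, 1, 1, 2, 1, 2, 1, 3, 1, 1, 2, 1, 2, 1, 3, 1, 1, 2, 1, 2, 1, 3, 1, 1, 2, 1, 2, 1, 3, 1, 1, 2, 1, 2, 1, 3, 1, 3, 0, 2, 0, 3, 0, 3, 0, 0, 2, 0, 3, 0, 3, 0, 0, 2, 0, 3, 0, 3, 0, 0, 2, 0, 3, 0, 3, 0, 0, 2, 0, 3, 0, 3, 0, 0, 2]) (WT.node 29 (WT.leaf [0, 0, 3, 0, 3, 0, 2, 2, 0, 3, 3, 1, 2, 1, 2, 1, 1, 3, 3, 1, 2, 1, 2, 1, 1, 3, 3, 1, 2, 1, 2, 1, 1, 3, 3, 1, 2, 1, 2, 1, 1, 3, 3, 1, 2, 1, 2, 1, 1, 1, 0, 0, 3, 0, 3, 0, 2, 2, 0, 0, 3, 0, 3, 0, 2, 2, 0, 0, 3, 0, 3, 0, 2, 2, 0, 0, 3, 0, 3, 0, 2, 2]) (WT.leaf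 [0, 3, 0, 3, 0, 2, 2, 0, 0, 3, 0, 3, 0, 2, 2, 0, 0, 3, 0, 3, 0, 2, 1, 2, 1, 2, 1, 1, 3, 3, 1, 2, 1, 2, 1, 1, 3, 3, 1, 2, 1, 2, 1, 1, 3, 3, 1, 2, 1, 2, 1, 1, 3, 3, 1, 2, 1, 2, 1, 1, 3, 0, 0, 3, 0, 3, 0, 2, 2, 0, 0, 3, 0, 3, 0, 2, 2, 0]))))) (WT.node 35 (WT.node 32 (WT.node 31 (WT.leaf [0, 2, 0, 3, 0, 3, 0, 0, 2, 0, 3, 0, 3, 0, 0, 2, 0, 3, 0, 3, 0, 0, 2, 0, 3, 0, 3, 0, 0, 2, 0, 3, 0, 3, 0, 0, 2, 0, 3, 0, 3, 0, 0, 2, 0, 3, 0, 3, 0, 2, 1, 2, 1, 2, 1, 3, 1, 1, 2, 1, 2, 1, 3, 1, 1, 2, 1, 2, 1, 3, 1, 1, 2, 1, 2, 1, 3, 1, 1, 2, 1, 2, 1, 3, 1, 1, 2, 1, 2, 1, 3, 1, 1, 2, 1, 2, 1, 3, 1, 3]) (WT.leaf [0, 0, 3, 0, 3, 0, 2, 2, 0, 0, 3,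 0, 3, 0, 2, 2, 0, 0, 3, 0, 3, 0, 2, 2, 0, 3, 3, 1, 2, 1, 2, 1, 1, 3, 3, 1, 2, 1, 2, 1, 1, 3, 3, 1, 2, 1, 2, 1, 1, 3, 3, 1, 2, 1, 2, 1, 1, 3, 3, 1, 2, 1, 2, 1, 1, 1, 0, 0, 3, 0, 3, 0, 2, 2, 0, 0, 3, 0, 3, 0, 2, 2])) (WT.node 33 (WT.leaf [0, 3, 0, 3, 0, 0, 2, 0, 3, 0, 3, 0, 0, 2, 0, 3, 0, 3, 0, 0, 2, 0, 3, 0, 3, 0, 0, 2, 0, 3, 0, 3, 0, 2, 1, 2, 1, 3, 1, 1, 2, 1, 2, 1, 3, 1, 1, 2, 1, 2, 1, 3, 1, 1, 2, 1, 2, 1, 3, 1, 1, 2, 1, 2, 1, 3, 1, 1, 2, 1, 2, 1, 3, 1, 1, 2, 1, 2, 1, 3, 1, 1, 0, 2, 0, 3, 0, 3, 0, 0, 2, 0, 3, 0, 3, 0, 0, 2]) (WT.node 34 (WT.leaf [0, 3, 3, 1, 2, 1, 2, 1, 1, 3, 3, 1, 2, 1, 2, 1, 1, 3, 3, 1, 2, 1, 2, 1, 1, 3,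 3, 1, 2, 1, 2, 1, 1, 3, 3, 1, 2, 1, 2, 1, 1, 1, 0, 0, 3, 0, 3, 0, 2, 2, 0, 0, 3, 0, 3, 0, 2, 2, 0, 0, 3, 0, 3, 0, 2, 2, 0, 0, 3, 0, 3, 0, 2, 2, 0, 0, 3, 0, 3, 0, 2, 2]) (WT.leaf [0, 0, 3, 0, 3, 0, 2, 2, 0, 0, 3, 0, 3, 0, 2, 2, 0, 0, 3, 0, 3, 0, 2, 2, 0, 0, 3, 0, 3, 0, 2, 2, 0, 3, 3, 1, 2, 1, 2, 1, 1, 3, 3, 1, 2, 1, 2, 1, 1, 3, 3, 1, 2, 1, 2, 1, 1, 3, 3, 1, 2, 1, 2, 1, 1, 3, 3, 1, 2, 1, 2, 1, 1, 1, 0, 0, 3, 0, 3, 0, 2, 2])))) (WT.node 38 (WT.node 36 (WT.leaf [0, 0, 3, 0, 3, 0, 2, 2, 0, 0, 3, 0, 3, 0, 2, 2, 0, 0, 3, 0, 3, 0, 2, 1, 2, 1, 2, 1, 1, 3, 3, 1, 2, 1, 2, 1, 1, 3, 3, 1, 2, 1, 2, 1, 1, 3, 3, 1, 2, 1, 2, 1, 1, 3, 3, 1,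 2, 1, 2, 1, 1, 3, 0, 0, 3, 0, 3, 0, 2, 2, 0, 0, 3, 0, 3, 0, 2, 2]) (WT.node 37 (WT.leaf [0, 0, 3, 0, 3, 0, 2, 2, 0, 0, 3, 0, 3, 0, 2, 1, 2, 1, 2, 1, 1, 3, 3, 1, 2, 1, 2, 1, 1, 3, 3, 1, 2, 1, 2, 1, 1, 3, 3, 1, 2, 1, 2, 1, 1, 3, 3, 1, 2, 1, 2, 1, 1, 3, 0, 0, 3, 0, 3, 0, 2, 2, 0, 0, 3, 0, 3, 0, 2, 2, 0, 0, 3, 0, 3, 0, 2, 2]) (WT.leaf [0, 3, 0, 0, 2, 0, 3, 0, 3, 0, 0, 2, 0, 3, 0, 3, 0, 0, 2, 0, 3, 0, 3, 0, 2, 1, 2, 1, 2, 1, 3, 1, 1, 2, 1, 2, 1, 3, 1, 1, 2, 1, 2, 1, 3, 1, 1, 2, 1, 2, 1, 3, 1, 1, 2, 1, 2, 1, 3, 1, 1, 2, 1, 2, 1, 3, 1, 1, 2, 1, 2, 1, 3, 1, 3, 0, 2, 0, 3, 0, 3, 0, 0, 2, 0, 3, 0, 3, 0, 0, 2, 0, 3, 0, 3, 0, 0, 2, 0,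 3]))) (WT.node 39 (WT.leaf [0, 0, 3, 0, 3, 0, 2, 1, 2, 1, 2, 1, 1, 3, 3, 1, 2, 1, 2, 1, 1, 3, 3, 1, 2, 1, 2, 1, 1, 3, 3, 1, 2, 1, 2, 1, 1, 3, 3, 1, 2, 1, 2, 1, 1, 3, 0, 0, 3, 0, 3, 0, 2, 2, 0, 0, 3, 0, 3, 0, 2, 2, 0, 0, 3, 0, 3, 0, 2, 2, 0, 0, 3, 0, 3, 0, 2, 2]) (WT.node 40 (WT.leaf [0, 3, 0, 3, 0, 2, 1, 2, 1, 2, 1, 3, 1, 1, 2, 1, 2, 1, 3, 1, 1, 2, 1, 2, 1, 3, 1, 1, 2, 1, 2, 1, 3, 1, 1, 2, 1, 2, 1, 3, 1, 1, 2, 1, 2, 1, 3, 1, 1, 2, 1, 2, 1, 3, 1, 3, 0, 2, 0, 3, 0, 3, 0, 0, 2, 0, 3, 0, 3, 0, 0, 2, 0, 3, 0, 3, 0, 0, 2, 0, 3, 0, 3, 0, 0, 2, 0, 3, 0, 3, 0, 0, 2, 0, 3, 0, 3, 0, 0, 2]) (WT.leaf [0, 2, 0, 3, 0, 3, 0, 0, 2, 0, 3, 0,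 3, 0, 0, 2, 0, 3, 0, 3, 0, 0, 2, 0, 3, 0, 3, 0, 0, 2, 0, 3, 0, 3, 0, 2, 1, 2, 1, 3, 1, 1, 2, 1, 2, 1, 3, 1, 1, 2, 1, 2, 1, 3, 1, 1, 2, 1, 2, 1, 3, 1, 1, 2, 1, 2, 1, 3, 1, 1, 2, 1, 2, 1, 3, 1, 1, 2, 1, 2, 1, 3, 1, 1, 0, 2, 0, 3, 0, 3, 0, 0, 2, 0, 3, 0, 3, 0]))))))) (WT.node 62 (WT.node 51 (WT.node 46 (WT.node 43 (WT.node 42 (WT.leaf [0, 3, 0, 3, 0, 0, 2, 0, 3, 0, 3, 0, 0, 2, 0, 3, 0, 3, 0, 0, 2, 0, 3, 0, 3, 0, 0, 2, 0, 3, 0, 3, 0, 0, 2, 0, 3, 0, 3, 0, 0, 2, 0, 3, 0, 3, 0, 2, 1, 2, 1, 2, 1, 3, 1, 1, 2, 1, 2, 1, 3, 1, 1, 2, 1, 2, 1, 3, 1, 1, 2, 1, 2, 1, 3, 1, 1, 2, 1, 2, 1, 3, 1, 1, 2, 1, 2, 1, 3, 1, 1, 2, 1, 2, 1, 3, 1, 3, 0,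 2]) (WT.leaf [0, 3, 0, 3, 0, 2, 1, 2, 1, 2, 1, 1, 3, 3, 1, 2, 1, 2, 1, 1, 3, 3, 1, 2, 1, 2, 1, 1, 3, 3, 1, 2, 1, 2, 1, 1, 3, 3, 1, 2, 1, 2, 1, 1, 3, 0, 0, 3, 0, 3, 0, 2, 2, 0, 0, 3, 0, 3, 0, 2, 2, 0, 0, 3, 0, 3, 0, 2, 2, 0, 0, 3, 0, 3, 0, 2, 2, 0])) (WT.node 44 (WT.leaf [0, 2, 1, 2, 1, 2, 1, 1, 3, 3, 1, 2, 1, 2, 1, 1, 3, 3, 1, 2, 1, 2, 1, 1, 3, 3, 1, 2, 1, 2, 1, 1, 3, 3, 1, 2, 1, 2, 1, 1, 3, 0, 0, 3, 0, 3, 0, 2, 2, 0, 0, 3, 0, 3, 0, 2, 2, 0, 0, 3, 0, 3, 0, 2, 2, 0, 0, 3, 0, 3, 0, 2, 2, 0, 0, 3, 0, 3]) (WT.node 45 (WT.leaf [0, 3, 0, 3, 0, 2, 2, 0, 0, 3, 0, 3, 0, 2, 2, 0, 0, 3, 0, 3, 0, 2, 2, 0, 0, 3, 0, 3, 0, 2, 2, 0, 3, 3,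 1, 2, 1, 2, 1, 1, 3, 3, 1, 2, 1, 2, 1, 1, 3, 3, 1, 2, 1, 2, 1, 1, 3, 3, 1, 2, 1, 2, 1, 1, 3, 3, 1, 2, 1, 2, 1, 1, 1, 0, 0, 3, 0, 3, 0, 2, 2, 0]) (WT.leaf [0, 2, 2, 0, 0, 3, 0, 3, 0, 2, 2, 0, 0, 3, 0, 3, 0, 2, 2, 0, 0, 3, 0, 3, 0, 2, 1, 2, 1, 2, 1, 1, 3, 3, 1, 2, 1, 2, 1, 1, 3, 3, 1, 2, 1, 2, 1, 1, 3, 3, 1, 2, 1, 2, 1, 1, 3, 3, 1, 2, 1, 2, 1, 1, 3, 0, 0, 3, 0, 3, 0, 2, 2, 0, 0, 3, 0, 3])))) (WT.node 48 (WT.node 47 (WT.leaf [0, 2, 1, 2, 0, 3, 1, 3, 0, 2, 1, 2, 0, 3, 1, 3, 0, 2, 1, 2, 0, 3, 1, 3, 0, 2, 1, 2, 0, 3, 1, 3, 0, 2, 1, 2, 0, 3, 1, 3, 0, 2, 1, 2, 0, 3, 1, 3, 0, 2, 1, 2, 0, 3, 1, 3, 0, 2, 1, 2, 0, 3, 1, 3, 0, 2, 1, 2,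 0, 3, 1, 3, 0, 2, 1, 2, 0, 3, 1, 1, 3, 0, 2, 1, 2, 0, 3, 1, 3, 0, 2, 1, 2, 0, 3, 1, 3, 0, 2, 1, 2, 0, 3, 1, 3, 0, 2, 1, 2, 0, 3, 1, 3, 0, 2, 1, 2, 0, 3, 1, 3, 0, 2, 1, 2, 0, 3, 1, 3]) (WT.leaf [0, 3, 0, 3, 0, 0, 2, 0, 3, 0, 3, 0, 0, 2, 0, 3, 0, 3, 0, 2, 1, 2, 1, 3, 1, 1, 2, 1, 2, 1, 3, 1, 1, 2, 1, 2, 1, 3, 1, 1, 2, 1, 2, 1, 3, 1, 1, 2, 1, 2, 1, 3, 1, 1, 2, 1, 2, 1, 3, 1, 1, 2, 1, 2, 1, 3, 1, 1, 0, 2, 0, 3, 0, 3, 0, 0, 2, 0, 3, 0, 3, 0, 0, 2, 0, 3, 0, 3, 0, 0, 2, 0, 3, 0, 3, 0, 0, 2])) (WT.node 49 (WT.leaf [0, 3, 0, 3, 0, 2, 2, 0, 3, 3, 1, 2, 1, 2, 1, 1, 3, 3, 1, 2, 1, 2, 1, 1, 3, 3, 1, 2, 1, 2, 1, 1, 3, 3, 1, 2, 1, 2, 1, 1,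 3, 3, 1, 2, 1, 2, 1, 1, 1, 0, 0, 3, 0, 3, 0, 2, 2, 0, 0, 3, 0, 3, 0, 2, 2, 0, 0, 3, 0, 3, 0, 2, 2, 0, 0, 3, 0, 3, 0, 2, 2, 0]) (WT.node 50 (WT.leaf [0, 2, 2, 0, 0, 3, 0, 3, 0, 2, 2, 0, 0, 3, 0, 3, 0, 2, 1, 2, 1, 2, 1, 1, 3, 3, 1, 2, 1, 2, 1, 1, 3, 3, 1, 2, 1, 2, 1, 1, 3, 3, 1, 2, 1, 2, 1, 1, 3, 3, 1, 2, 1, 2, 1, 1, 3, 0, 0, 3, 0, 3, 0, 2, 2, 0, 0, 3, 0, 3, 0, 2, 2, 0, 0, 3, 0, 3]) (WT.leaf [0, 2, 2, 0, 0, 3, 0, 3, 0, 2, 1, 2, 1, 2, 1, 1, 3, 3, 1, 2, 1, 2, 1, 1, 3, 3, 1, 2, 1, 2, 1, 1, 3, 3, 1, 2, 1, 2, 1, 1, 3, 3, 1, 2, 1, 2, 1, 1, 3, 0, 0, 3, 0, 3, 0, 2, 2, 0, 0, 3, 0, 3, 0, 2, 2, 0, 0, 3, 0, 3, 0, 2, 2, 0, 0, 3, 0, 3])))))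 (WT.node 56 (WT.node 53 (WT.node 52 (WT.leaf [0, 2, 0, 3, 0, 3, 0, 0, 2, 0, 3, 0, 3, 0, 2, 1, 2, 1, 2, 1, 3, 1, 1, 2, 1, 2, 1, 3, 1, 1, 2, 1, 2, 1, 3, 1, 1, 2, 1, 2, 1, 3, 1, 1, 2, 1, 2, 1, 3, 1, 1, 2, 1, 2, 1, 3, 1, 1, 2, 1, 2, 1, 3, 1, 3, 0, 2, 0, 3, 0, 3, 0, 0, 2, 0, 3, 0, 3, 0, 0, 2, 0, 3, 0, 3, 0, 0, 2, 0, 3, 0, 3, 0, 0, 2, 0, 3, 0, 3, 0]) (WT.leaf [0, 3, 0, 3, 0, 2, 2, 0, 0, 3, 0, 3, 0, 2, 1, 2, 1, 2, 1, 1, 3, 3, 1, 2, 1, 2, 1, 1, 3, 3, 1, 2, 1, 2, 1, 1, 3, 3, 1, 2, 1, 2, 1, 1, 3, 3, 1, 2, 1, 2, 1, 1, 3, 0, 0, 3, 0, 3, 0, 2, 2, 0, 0, 3, 0, 3, 0, 2, 2, 0, 0, 3, 0, 3, 0, 2, 2, 0])) (WT.node 54 (WT.leaf [0, 2, 0, 3, 0,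 3, 0, 0, 2, 0, 3, 0, 3, 0, 2, 1, 2, 1, 3, 1, 1, 2, 1, 2, 1, 3, 1, 1, 2, 1, 2, 1, 3, 1, 1, 2, 1, 2, 1, 3, 1, 1, 2, 1, 2, 1, 3, 1, 1, 2, 1, 2, 1, 3, 1, 1, 2, 1, 2, 1, 3, 1, 1, 0, 2, 0, 3, 0, 3, 0, 0, 2, 0, 3, 0, 3, 0, 0, 2, 0, 3, 0, 3, 0, 0, 2, 0, 3, 0, 3, 0, 0, 2, 0, 3, 0, 3, 0]) (WT.node 55 (WT.leaf [0, 3, 0, 3, 0, 0, 2, 0, 3, 0, 3, 0, 0, 2, 0, 3, 0, 3, 0, 0, 2, 0, 3, 0, 3, 0, 0, 2, 0, 3, 0, 3, 0, 0, 2, 0, 3, 0, 3, 0, 2, 1, 2, 1, 3, 1, 1, 2, 1, 2, 1, 3, 1, 1, 2, 1, 2, 1, 3, 1, 1, 2, 1, 2, 1, 3, 1, 1, 2, 1, 2, 1, 3, 1, 1, 2, 1, 2, 1, 3, 1, 1, 2, 1, 2, 1, 3, 1, 1, 0, 2, 0, 3, 0, 3, 0, 0, 2]) (WT.leaf [0, 3, 0, 3, 0, 2, 1, 2,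 1, 3, 1, 1, 2, 1, 2, 1, 3, 1, 1, 2, 1, 2, 1, 3, 1, 1, 2, 1, 2, 1, 3, 1, 1, 2, 1, 2, 1, 3, 1, 1, 2, 1, 2, 1, 3, 1, 1, 2, 1, 2, 1, 3, 1, 1, 0, 2, 0, 3, 0, 3, 0, 0, 2, 0, 3, 0, 3, 0, 0, 2, 0, 3, 0, 3, 0, 0, 2, 0, 3, 0, 3, 0, 0, 2, 0, 3, 0, 3, 0, 0, 2, 0, 3, 0, 3, 0, 0, 2])))) (WT.node 59 (WT.node 57 (WT.leaf [0, 3, 0, 3, 0, 0, 2, 0, 3, 0, 3, 0, 0, 2, 0, 3, 0, 3, 0, 0, 2, 0, 3, 0, 3, 0, 2, 1, 2, 1, 3, 1, 1, 2, 1, 2, 1, 3, 1, 1, 2, 1, 2, 1, 3, 1, 1, 2, 1, 2, 1, 3, 1, 1, 2, 1, 2, 1, 3, 1, 1, 2, 1, 2, 1, 3, 1, 1, 2, 1, 2, 1, 3, 1, 1, 0, 2, 0, 3, 0, 3, 0, 0, 2, 0, 3, 0, 3, 0, 0, 2, 0, 3, 0, 3, 0, 0, 2]) (WT.node 58 (WT.leaf [0, 2,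 2, 0, 0, 3, 0, 3, 0, 2, 2, 0, 0, 3, 0, 3, 0, 2, 2, 0, 0, 3, 0, 3, 0, 2, 2, 0, 3, 3, 1, 2, 1, 2, 1, 1, 3, 3, 1, 2, 1, 2, 1, 1, 3, 3, 1, 2, 1, 2, 1, 1, 3, 3, 1, 2, 1, 2, 1, 1, 3, 3, 1, 2, 1, 2, 1, 1, 1, 0, 0, 3, 0, 3, 0, 2, 2, 0, 0, 3, 0, 3]) (WT.leaf [0, 3, 0, 3, 0, 0, 2, 0, 3, 0, 3, 0, 2, 1, 2, 1, 3, 1, 1, 2, 1, 2, 1, 3, 1, 1, 2, 1, 2, 1, 3, 1, 1, 2, 1, 2, 1, 3, 1, 1, 2, 1, 2, 1, 3, 1, 1, 2, 1, 2, 1, 3, 1, 1, 2, 1, 2, 1, 3, 1, 1, 0, 2, 0, 3, 0, 3, 0, 0, 2, 0, 3, 0, 3, 0, 0, 2, 0, 3, 0, 3, 0, 0, 2, 0, 3, 0, 3, 0, 0, 2, 0, 3, 0, 3, 0, 0, 2]))) (WT.node 60 (WT.leaf [0, 0, 2, 0, 3, 0, 3, 0, 0, 2, 0, 3, 0, 3, 0, 0, 2, 0, 3, 0,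 3, 0, 2, 1, 2, 1, 3, 1, 1, 2, 1, 2, 1, 3, 1, 1, 2, 1, 2, 1, 3, 1, 1, 2, 1, 2, 1, 3, 1, 1, 2, 1, 2, 1, 3, 1, 1, 2, 1, 2, 1, 3, 1, 1, 2, 1, 2, 1, 3, 1, 1, 0, 2, 0, 3, 0, 3, 0, 0, 2, 0, 3, 0, 3, 0, 0, 2, 0, 3, 0, 3, 0, 0, 2, 0, 3, 0, 3]) (WT.node 61 (WT.leaf [0, 3, 0, 0, 2, 0, 3, 0, 3, 0, 0, 2, 0, 3, 0, 3, 0, 0, 2, 0, 3, 0, 3, 0, 0, 2, 0, 3, 0, 3, 0, 0, 2, 0, 3, 0, 3, 0, 2, 1, 2, 1, 2, 1, 3, 1, 1, 2, 1, 2, 1, 3, 1, 1, 2, 1, 2, 1, 3, 1, 1, 2, 1, 2, 1, 3, 1, 1, 2, 1, 2, 1, 3, 1, 1, 2, 1, 2, 1, 3, 1, 1, 2, 1, 2, 1, 3, 1, 3, 0, 2, 0, 3, 0, 3, 0, 0, 2, 0, 3]) (WT.leaf [0, 2, 0, 3, 0, 3, 0, 0, 2, 0, 3, 0, 3, 0, 0, 2, 0, 3, 0, 3, 0,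 0, 2, 0, 3, 0, 3, 0, 2, 1, 2, 1, 3, 1, 1, 2, 1, 2, 1, 3, 1, 1, 2, 1, 2, 1, 3, 1, 1, 2, 1, 2, 1, 3, 1, 1, 2, 1, 2, 1, 3, 1, 1, 2, 1, 2, 1, 3, 1, 1, 2, 1, 2, 1, 3, 1, 1, 0, 2, 0, 3, 0, 3, 0, 0, 2, 0, 3, 0, 3, 0, 0, 2, 0, 3, 0, 3, 0])))))) (WT.node 72 (WT.node 67 (WT.node 64 (WT.node 63 (WT.leaf [0, 3, 0, 3, 0, 2, 2, 0, 0, 3, 0, 3, 0, 2, 2, 0, 0, 3, 0, 3, 0, 2, 2, 0, 0, 3, 0, 3, 0, 2, 2, 0, 0, 3, 0, 3, 0, 2, 1, 2, 1, 2, 1, 1, 3, 3, 1, 2, 1, 2, 1, 1, 3, 3, 1, 2, 1, 2, 1, 1, 3, 3, 1, 2, 1, 2, 1, 1, 3, 3, 1, 2, 1, 2, 1, 1, 3, 0]) (WT.leaf [0, 3, 0, 0, 2, 0, 3, 0, 3, 0, 0, 2, 0, 3, 0, 3, 0, 0, 2, 0, 3, 0, 3, 0, 0, 2, 0, 3, 0, 3,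 0, 0, 2, 0, 3, 0, 3, 0, 2, 1, 2, 1, 3, 1, 1, 2, 1, 2, 1, 3, 1, 1, 2, 1, 2, 1, 3, 1, 1, 2, 1, 2, 1, 3, 1, 1, 2, 1, 2, 1, 3, 1, 1, 2, 1, 2, 1, 3, 1, 1, 2, 1, 2, 1, 3, 1, 1, 0, 2, 0, 3, 0, 3, 0, 0, 2, 0, 3])) (WT.node 65 (WT.leaf [0, 2, 2, 0, 0, 3, 0, 3, 0, 2, 2, 0, 0, 3, 0, 3, 0, 2, 2, 0, 0, 3, 0, 3, 0, 2, 2, 0, 0, 3, 0, 3, 0, 2, 1, 2, 1, 2, 1, 1, 3, 3, 1, 2, 1, 2, 1, 1, 3, 3, 1, 2, 1, 2, 1, 1, 3, 3, 1, 2, 1, 2, 1, 1, 3, 3, 1, 2, 1, 2, 1, 1, 3, 0, 0, 3, 0, 3]) (WT.node 66 (WT.leaf [0, 0, 3, 0, 3, 0, 2, 2, 0, 0, 3, 0, 3, 0, 2, 2, 0, 0, 3, 0, 3, 0, 2, 2, 0, 0, 3, 0, 3, 0, 2, 1, 2, 1, 2, 1, 1, 3, 3, 1, 2, 1, 2, 1, 1, 3, 3, 1, 2,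 1, 2, 1, 1, 3, 3, 1, 2, 1, 2, 1, 1, 3, 3, 1, 2, 1, 2, 1, 1, 3, 0, 0, 3, 0, 3, 0, 2, 2]) (WT.leaf [0, 0, 2, 0, 3, 0, 3, 0, 2, 1, 2, 1, 2, 1, 3, 1, 1, 2, 1, 2, 1, 3, 1, 1, 2, 1, 2, 1, 3, 1, 1, 2, 1, 2, 1, 3, 1, 1, 2, 1, 2, 1, 3, 1, 1, 2, 1, 2, 1, 3, 1, 1, 2, 1, 2, 1, 3, 1, 3, 0, 2, 0, 3, 0, 3, 0, 0, 2, 0, 3, 0, 3, 0, 0, 2, 0, 3, 0, 3, 0, 0, 2, 0, 3, 0, 3, 0, 0, 2, 0, 3, 0, 3, 0, 0, 2, 0, 3, 0, 3])))) (WT.node 69 (WT.node 68 (WT.leaf [0, 2, 1, 2, 1, 3, 1, 1, 2, 1, 2, 1, 3, 1, 1, 2, 1, 2, 1, 3, 1, 1, 2, 1, 2, 1, 3, 1, 1, 2, 1, 2, 1, 3, 1, 1, 2, 1, 2, 1, 3, 1, 1, 2, 1, 2, 1, 3, 1, 1, 0, 2, 0, 3, 0, 3, 0, 0, 2, 0, 3, 0, 3, 0, 0,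 2, 0, 3, 0, 3, 0, 0, 2, 0, 3, 0, 3, 0, 0, 2, 0, 3, 0, 3, 0, 0, 2, 0, 3, 0, 3, 0, 0, 2, 0, 3, 0, 3]) (WT.leaf [0, 3, 0, 3, 0, 2, 2, 0, 0, 3, 0, 3, 0, 2, 2, 0, 0, 3, 0, 3, 0, 2, 2, 0, 3, 3, 1, 2, 1, 2, 1, 1, 3, 3, 1, 2, 1, 2, 1, 1, 3, 3, 1, 2, 1, 2, 1, 1, 3, 3, 1, 2, 1, 2, 1, 1, 3, 3, 1, 2, 1, 2, 1, 1, 1, 0, 0, 3, 0, 3, 0, 2, 2, 0, 0, 3, 0, 3, 0, 2, 2, 0])) (WT.node 70 (WT.leaf [0, 2, 0, 3, 0, 3, 0, 0, 2, 0, 3, 0, 3, 0, 0, 2, 0, 3, 0, 3, 0, 2, 1, 2, 1, 3, 1, 1, 2, 1, 2, 1, 3, 1, 1, 2, 1, 2, 1, 3, 1, 1, 2, 1, 2, 1, 3, 1, 1, 2, 1, 2, 1, 3, 1, 1, 2, 1, 2, 1, 3, 1, 1, 2, 1, 2, 1, 3, 1, 1, 0, 2, 0, 3, 0, 3, 0, 0, 2, 0, 3, 0, 3, 0,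 0, 2, 0, 3, 0, 3, 0, 0, 2, 0, 3, 0, 3, 0]) (WT.node 71 (WT.leaf [0, 3, 0, 0, 2, 0, 3, 0, 3, 0, 0, 2, 0, 3, 0, 3, 0, 0, 2, 0, 3, 0, 3, 0, 0, 2, 0, 3, 0, 3, 0, 2, 1, 2, 1, 3, 1, 1, 2, 1, 2, 1, 3, 1, 1, 2, 1, 2, 1, 3, 1, 1, 2, 1, 2, 1, 3, 1, 1, 2, 1, 2, 1, 3, 1, 1, 2, 1, 2, 1, 3, 1, 1, 2, 1, 2, 1, 3, 1, 1, 0, 2, 0, 3, 0, 3, 0, 0, 2, 0, 3, 0, 3, 0, 0, 2, 0, 3]) (WT.leaf [0, 2, 0, 3, 0, 3, 0, 0, 2, 0, 3, 0, 3, 0, 0, 2, 0, 3, 0, 3, 0, 0, 2, 0, 3, 0, 3, 0, 2, 1, 2, 1, 2, 1, 3, 1, 1, 2, 1, 2, 1, 3, 1, 1, 2, 1, 2, 1, 3, 1, 1, 2, 1, 2, 1, 3, 1, 1, 2, 1, 2, 1, 3, 1, 1, 2, 1, 2, 1, 3, 1, 1, 2, 1, 2, 1, 3, 1, 3, 0, 2, 0, 3, 0, 3, 0, 0,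 2, 0, 3, 0, 3, 0, 0, 2, 0, 3, 0, 3, 0]))))) (WT.node 77 (WT.node 74 (WT.node 73 (WT.leaf [0, 2, 2, 0, 3, 3, 1, 2, 1, 2, 1, 1, 3, 3, 1, 2, 1, 2, 1, 1, 3, 3, 1, 2, 1, 2, 1, 1, 3, 3, 1, 2, 1, 2, 1, 1, 3, 3, 1, 2, 1, 2, 1, 1, 1, 0, 0, 3, 0, 3, 0, 2, 2, 0, 0, 3, 0, 3, 0, 2, 2, 0, 0, 3, 0, 3, 0, 2, 2, 0, 0, 3, 0, 3, 0, 2, 2, 0, 0, 3, 0, 3]) (WT.leaf [0, 2, 0, 3, 0, 3, 0, 0, 2, 0, 3, 0, 3, 0, 0, 2, 0, 3, 0, 3, 0, 2, 1, 2, 1, 2, 1, 3, 1, 1, 2, 1, 2, 1, 3, 1, 1, 2, 1, 2, 1, 3, 1, 1, 2, 1, 2, 1, 3, 1, 1, 2, 1, 2, 1, 3, 1, 1, 2, 1, 2, 1, 3, 1, 1, 2, 1, 2, 1, 3, 1, 3, 0, 2, 0, 3, 0, 3, 0, 0, 2, 0, 3, 0, 3, 0, 0, 2, 0, 3, 0, 3, 0, 0, 2,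 0, 3, 0, 3, 0])) (WT.node 75 (WT.leaf [0, 2, 0, 3, 0, 3, 0, 2, 1, 2, 1, 3, 1, 1, 2, 1, 2, 1, 3, 1, 1, 2, 1, 2, 1, 3, 1, 1, 2, 1, 2, 1, 3, 1, 1, 2, 1, 2, 1, 3, 1, 1, 2, 1, 2, 1, 3, 1, 1, 2, 1, 2, 1, 3, 1, 1, 0, 2, 0, 3, 0, 3, 0, 0, 2, 0, 3, 0, 3, 0, 0, 2, 0, 3, 0, 3, 0, 0, 2, 0, 3, 0, 3, 0, 0, 2, 0, 3, 0, 3, 0, 0, 2, 0, 3, 0, 3, 0]) (WT.node 76 (WT.leaf [0, 2, 1, 2, 1, 2, 1, 3, 1, 1, 2, 1, 2, 1, 3, 1, 1, 2, 1, 2, 1, 3, 1, 1, 2, 1, 2, 1, 3, 1, 1, 2, 1, 2, 1, 3, 1, 1, 2, 1, 2, 1, 3, 1, 1, 2, 1, 2, 1, 3, 1, 3, 0, 2, 0, 3, 0, 3, 0, 0, 2, 0, 3, 0, 3, 0, 0, 2, 0, 3, 0, 3, 0, 0, 2, 0, 3, 0, 3, 0, 0, 2, 0, 3, 0, 3, 0, 0, 2, 0, 3, 0,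 3, 0, 0, 2, 0, 3, 0, 3]) (WT.leaf [0, 3, 0, 2, 2, 0, 0, 3, 0, 3, 0, 2, 2, 0, 0, 3, 0, 3, 0, 2, 2, 0, 0, 3, 0, 3, 0, 2, 2, 0, 0, 3, 0, 3, 0, 2, 2, 0, 3, 3, 1, 2, 1, 2, 1, 1, 3, 3, 1, 2, 1, 2, 1, 1, 3, 3, 1, 2, 1, 2, 1, 1, 3, 3, 1, 2, 1, 2, 1, 1, 3, 3, 1, 2, 1, 2, 1, 1, 1, 0, 0, 3])))) (WT.node 80 (WT.node 78 (WT.leaf [0, 2, 0, 3, 0, 3, 0, 2, 1, 2, 1, 2, 1, 3, 1, 1, 2, 1, 2, 1, 3, 1, 1, 2, 1, 2, 1, 3, 1, 1, 2, 1, 2, 1, 3, 1, 1, 2, 1, 2, 1, 3, 1, 1, 2, 1, 2, 1, 3, 1, 1, 2, 1, 2, 1, 3, 1, 3, 0, 2, 0, 3, 0, 3, 0, 0, 2, 0, 3, 0, 3, 0, 0, 2, 0, 3, 0, 3, 0, 0, 2, 0, 3, 0, 3, 0, 0, 2, 0, 3, 0, 3, 0, 0, 2, 0, 3, 0, 3, 0]) (WT.node 79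 (WT.leaf [1, 2, 1, 2, 1, 2, 1, 2, 0, 3, 0, 3, 0, 3, 0, 3]) (WT.leaf [1, 2, 1, 1, 0, 3, 0, 0, 3, 0, 2, 1]))) (WT.node 81 (WT.leaf [1, 1, 2, 1, 1, 0, 3, 0, 0, 3, 0, 2]) (WT.node 82 (WT.leaf [1, 3, 0, 2, 1, 2, 0, 3, 1, 3, 0, 2, 1, 2, 0, 3, 1, 3, 0, 2, 1, 2, 0, 3, 1, 3, 0, 2, 1, 2, 0, 3, 1, 3, 0, 2, 1, 2, 0, 3, 1, 3, 0, 2, 1, 2, 0, 3, 1, 3, 0, 2, 1, 2, 0, 3, 1, 3, 0, 2, 1, 2, 0, 3, 1, 3, 0, 2, 1, 2, 0, 3, 1, 3, 0, 2, 1, 2, 0, 3, 1, 3, 0, 2, 1, 2, 0, 3, 1, 3, 0, 2, 1, 2, 0, 3, 1, 3, 0, 2, 1, 2, 0, 3, 1, 3, 0, 2, 1, 2, 0, 3, 1, 3, 0, 2, 1, 2, 0, 3, 1, 3, 0, 2, 1, 2, 0, 3, 1]) (WT.leaf [1, 2, 1, 2, 0, 3, 0, 3, 1, 2, 1, 2, 0, 3, 0,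 3, 1, 2, 1, 2, 0, 3, 0, 3, 1, 2, 1, 2, 0, 3, 0, 3, 1, 2, 1, 2, 0, 3, 0, 3, 1, 2, 1, 2, 0, 3, 0, 3, 1, 2, 1, 2, 0, 3, 0, 3, 1, 2, 1, 2, 0, 3, 0, 3, 3, 3, 3, 3, 3])))))))) (WT.node 124 (WT.node 103 (WT.node 93 (WT.node 88 (WT.node 85 (WT.node 84 (WT.leaf [1, 1, 2, 1, 3, 0, 3, 0, 0, 3, 0, 2, 1, 2]) (WT.leaf [1, 2, 1, 2, 1, 1, 3, 3, 1, 2, 1, 2, 1, 1, 3, 3, 1, 2, 1, 2, 1, 1, 3, 3, 1, 2, 1, 2, 1, 1, 3, 3, 1, 2, 1, 2, 1, 1, 3, 0, 0, 3, 0, 3, 0, 2, 2, 0, 0, 3, 0, 3, 0, 2, 2, 0, 0, 3, 0, 3, 0, 2, 2, 0, 0, 3, 0, 3, 0, 2, 2, 0, 0, 3, 0, 3, 0, 2])) (WT.node 86 (WT.leaf [1, 1, 0, 3, 0, 0, 3, 0, 2, 1, 1, 2]) (WT.node 87 (WT.leaf [1, 2,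 1, 2, 0, 3, 0, 3, 1, 2, 1, 2, 0, 3, 0, 3, 1, 2, 1, 2, 0, 3, 0, 3, 1, 2, 1, 2, 0, 3, 0, 3, 1, 2, 1, 2, 0, 3, 0, 3, 1, 2, 1, 2, 0, 3, 0, 3, 1, 2, 1, 2, 0, 3, 0, 3, 3, 3, 3, 3, 3, 1, 2, 1, 2, 0, 3, 0, 3]) (WT.leaf [1, 3, 1, 1, 2, 1, 2, 1, 3, 1, 1, 2, 1, 2, 1, 3, 1, 1, 2, 1, 2, 1, 3, 1, 1, 2, 1, 2, 1, 3, 1, 1, 2, 1, 2, 1, 3, 1, 1, 2, 1, 2, 1, 3, 1, 3, 0, 2, 0, 3, 0, 3, 0, 0, 2, 0, 3, 0, 3, 0, 0, 2, 0, 3, 0, 3, 0, 0, 2, 0, 3, 0, 3, 0, 0, 2, 0, 3, 0, 3, 0, 0, 2, 0, 3, 0, 3, 0, 0, 2, 0, 3, 0, 3, 0, 2, 1, 2, 1, 2])))) (WT.node 90 (WT.node 89 (WT.leaf [1, 2, 1, 2, 0, 3, 0, 3, 0, 3, 0, 3, 1, 2, 1, 2]) (WT.leaf [1, 2, 0, 3, 0, 3, 0,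 3, 0, 3, 1, 2, 1, 2, 1, 2])) (WT.node 91 (WT.leaf [1, 3, 0, 3, 0, 0, 3, 0, 2, 1, 2, 1, 1, 2]) (WT.node 92 (WT.leaf [1, 2, 0, 3, 1, 3, 0, 2, 1, 2, 0, 3, 1, 3, 0, 2, 1, 2, 0, 3, 1, 3, 0, 2, 1, 2, 0, 3, 1, 3, 0, 2, 1, 2, 0, 3, 1, 3, 0, 2, 1, 2, 0, 3, 1, 3, 0, 2, 1, 2, 0, 3, 1, 3, 0, 2, 1, 2, 0, 3, 1, 3, 0, 2, 1, 2, 0, 3, 1, 3, 0, 2, 1, 2, 0, 3, 1, 3, 0, 2, 1, 2, 0, 3, 1, 3, 0, 2, 1, 2, 0, 3, 1, 3, 0, 2, 1, 2, 0, 3, 1, 3, 0, 2, 1, 2, 0, 3, 1, 3, 0, 2, 1, 2, 0, 3, 1, 3, 0, 2, 1, 2, 0, 3, 1, 1, 3, 0, 2]) (WT.leaf [1, 2, 1, 1, 2, 1, 3, 0, 3, 0, 0, 3, 0, 2]))))) (WT.node 98 (WT.node 95 (WT.node 94 (WT.leaf [1, 2, 0, 3, 1, 3, 0, 2,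 1, 2, 0, 3, 1, 3, 0, 2, 1, 2, 0, 3, 1, 3, 0, 2, 1, 2, 0, 3, 1, 3, 0, 2, 1, 2, 0, 3, 1, 1, 3, 0, 2, 1, 2, 0, 3, 1, 3, 0, 2, 1, 2, 0, 3, 1, 3, 0, 2, 1, 2, 0, 3, 1, 3, 0, 2, 1, 2, 0, 3, 1, 3, 0, 2, 1, 2, 0, 3, 1, 3, 0, 2, 1, 2, 0, 3, 1, 3, 0, 2, 1, 2, 0, 3, 1, 3, 0, 2, 1, 2, 0, 3, 1, 3, 0, 2, 1, 2, 0, 3, 1, 3, 0, 2, 1, 2, 0, 3, 1, 3, 0, 2, 1, 2, 0, 3, 1, 3, 0, 2]) (WT.leaf [1, 2, 1, 3, 0, 3, 0, 0, 3, 0, 2, 1, 2, 1])) (WT.node 96 (WT.leaf [1, 2, 1, 2, 1, 2, 0, 3, 0, 3, 0, 3, 0, 3, 1, 2]) (WT.node 97 (WT.leaf [1, 2, 0, 3, 1, 3, 0, 2, 1, 2, 0, 3, 1, 3, 0, 2, 1, 2, 0, 3, 1, 3, 0, 2, 1, 2, 0, 3, 1, 3, 0, 2, 1, 2, 0, 3, 1, 3, 0, 2,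 1, 2, 0, 3, 1, 3, 0, 2, 1, 2, 0, 3, 1, 3, 0, 2, 1, 2, 0, 3, 1, 3, 0, 2, 1, 2, 0, 3, 1, 3, 0, 2, 1, 2, 0, 3, 1, 3, 0, 2, 1, 2, 0, 3, 1, 3, 0, 2, 1, 2, 0, 3, 1, 3, 0, 2, 1, 2, 0, 3, 1, 3, 0, 2, 1, 2, 0, 3, 1, 3, 0, 2, 1, 2, 0, 3, 1, 1, 3, 0, 2, 1, 2, 0, 3, 1, 3, 0, 2]) (WT.leaf [1, 2, 0, 3, 1, 3, 0, 2, 1, 2, 0, 3, 1, 3, 0, 2, 1, 2, 0, 3, 1, 3, 0, 2, 1, 2, 0, 3, 1, 1, 3, 0, 2, 1, 2, 0, 3, 1, 3, 0, 2, 1, 2, 0, 3, 1, 3, 0, 2, 1, 2, 0, 3, 1, 3, 0, 2, 1, 2, 0, 3, 1, 3, 0, 2, 1, 2, 0, 3, 1, 3, 0, 2, 1, 2, 0, 3, 1, 3, 0, 2, 1, 2, 0, 3, 1, 3, 0, 2, 1, 2, 0, 3, 1, 3, 0, 2, 1, 2, 0, 3, 1, 3, 0, 2, 1, 2, 0, 3, 1, 3, 0, 2, 1, 2, 0, 3, 1,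 3, 0, 2, 1, 2, 0, 3, 1, 3, 0, 2])))) (WT.node 100 (WT.node 99 (WT.leaf [1, 2, 0, 3, 1, 3, 0, 2, 1, 2, 0, 3, 1, 3, 0, 2, 1, 2, 0, 3, 1, 3, 0, 2, 1, 2, 0, 3, 1, 3, 0, 2, 1, 2, 0, 3, 1, 3, 0, 2, 1, 2, 0, 3, 1, 3, 0, 2, 1, 2, 0, 3, 1, 3, 0, 2, 1, 2, 0, 3, 1, 3, 0, 2, 1, 2, 0, 3, 1, 3, 0, 2, 1, 2, 0, 3, 1, 3, 0, 2, 1, 2, 0, 3, 1, 3, 0, 2, 1, 2, 0, 3, 1, 3, 0, 2, 1, 2, 0, 3, 1, 3, 0, 2, 1, 2, 0, 3, 1, 1, 3, 0, 2, 1, 2, 0, 3, 1, 3, 0, 2, 1, 2, 0, 3, 1, 3, 0, 2]) (WT.leaf [1, 2, 0, 3, 1, 1, 3, 0, 2, 1, 2, 0, 3, 1, 3, 0, 2, 1, 2, 0, 3, 1, 3, 0, 2, 1, 2, 0, 3, 1, 3, 0, 2, 1, 2, 0, 3, 1, 3, 0, 2, 1, 2, 0, 3, 1, 3, 0, 2, 1, 2, 0, 3, 1,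 3, 0, 2, 1, 2, 0, 3, 1, 3, 0, 2, 1, 2, 0, 3, 1, 3, 0, 2, 1, 2, 0, 3, 1, 3, 0, 2, 1, 2, 0, 3, 1, 3, 0, 2, 1, 2, 0, 3, 1, 3, 0, 2, 1, 2, 0, 3, 1, 3, 0, 2, 1, 2, 0, 3, 1, 3, 0, 2, 1, 2, 0, 3, 1, 3, 0, 2, 1, 2, 0, 3, 1, 3, 0, 2])) (WT.node 101 (WT.leaf [1, 3, 0, 2, 0, 3, 0, 3, 0, 0, 2, 0, 3, 0, 3, 0, 0, 2, 0, 3, 0, 3, 0, 0, 2, 0, 3, 0, 3, 0, 0, 2, 0, 3, 0, 3, 0, 0, 2, 0, 3, 0, 3, 0, 0, 2, 0, 3, 0, 3, 0, 2, 1, 2, 1, 2, 1, 3, 1, 1, 2, 1, 2, 1, 3, 1, 1, 2, 1, 2, 1, 3, 1, 1, 2, 1, 2, 1, 3, 1, 1, 2, 1, 2, 1, 3, 1, 1, 2, 1, 2, 1, 3, 1, 1, 2, 1, 2, 1, 3]) (WT.node 102 (WT.leaf [1, 1, 3, 3, 1, 2, 1, 2, 1, 1, 3, 3, 1, 2, 1, 2, 1, 1, 3,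 3, 1, 2, 1, 2, 1, 1, 1, 0, 0, 3, 0, 3, 0, 2, 2, 0, 0, 3, 0, 3, 0, 2, 2, 0, 0, 3, 0, 3, 0, 2, 2, 0, 0, 3, 0, 3, 0, 2, 2, 0, 0, 3, 0, 3, 0, 2, 2, 0, 3, 3, 1, 2, 1, 2, 1, 1, 3, 3, 1, 2, 1, 2]) (WT.leaf [1, 3, 0, 0, 3, 0, 3, 0, 2, 2, 0, 0, 3, 0, 3, 0, 2, 2, 0, 0, 3, 0, 3, 0, 2, 2, 0, 0, 3, 0, 3, 0, 2, 2, 0, 0, 3, 0, 3, 0, 2, 1, 2, 1, 2, 1, 1, 3, 3, 1, 2, 1, 2, 1, 1, 3, 3, 1, 2, 1, 2, 1, 1, 3, 3, 1, 2, 1, 2, 1, 1, 3, 3, 1, 2, 1, 2, 1])))))) (WT.node 113 (WT.node 108 (WT.node 105 (WT.node 104 (WT.leaf [1, 3, 3, 1, 2, 1, 2, 1, 1, 3, 3, 1, 2, 1, 2, 1, 1, 3, 3, 1, 2, 1, 2, 1, 1, 1, 0, 0, 3, 0, 3, 0, 2, 2, 0, 0, 3, 0, 3, 0, 2, 2, 0,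 0, 3, 0, 3, 0, 2, 2, 0, 0, 3, 0, 3, 0, 2, 2, 0, 0, 3, 0, 3, 0, 2, 2, 0, 3, 3, 1, 2, 1, 2, 1, 1, 3, 3, 1, 2, 1, 2, 1]) (WT.leaf [1, 2, 1, 3, 1, 1, 2, 1, 2, 1, 3, 1, 1, 2, 1, 2, 1, 3, 1, 1, 0, 2, 0, 3, 0, 3, 0, 0, 2, 0, 3, 0, 3, 0, 0, 2, 0, 3, 0, 3, 0, 0, 2, 0, 3, 0, 3, 0, 0, 2, 0, 3, 0, 3, 0, 0, 2, 0, 3, 0, 3, 0, 0, 2, 0, 3, 0, 3, 0, 2, 1, 2, 1, 3, 1, 1, 2, 1, 2, 1, 3, 1, 1, 2, 1, 2, 1, 3, 1, 1, 2, 1, 2, 1, 3, 1, 1, 2])) (WT.node 106 (WT.leaf [1, 2, 1, 2, 1, 1, 3, 3, 1, 2, 1, 2, 1, 1, 3, 3, 1, 2, 1, 2, 1, 1, 3, 3, 1, 2, 1, 2, 1, 1, 1, 0, 0, 3, 0, 3, 0, 2, 2, 0, 0, 3, 0, 3, 0, 2, 2, 0, 0, 3, 0, 3, 0, 2, 2, 0, 0, 3, 0, 3, 0,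 2, 2, 0, 0, 3, 0, 3, 0, 2, 2, 0, 3, 3, 1, 2, 1, 2, 1, 1, 3, 3]) (WT.node 107 (WT.leaf [1, 2, 1, 2, 1, 1, 3, 3, 1, 2, 1, 2, 1, 1, 3, 3, 1, 2, 1, 2, 1, 1, 1, 0, 0, 3, 0, 3, 0, 2, 2, 0, 0, 3, 0, 3, 0, 2, 2, 0, 0, 3, 0, 3, 0, 2, 2, 0, 0, 3, 0, 3, 0, 2, 2, 0, 0, 3, 0, 3, 0, 2, 2, 0, 3, 3, 1, 2, 1, 2, 1, 1, 3, 3, 1, 2, 1, 2, 1, 1, 3, 3]) (WT.leaf [1, 3, 1, 1, 2, 1, 2, 1, 3, 1, 1, 0, 2, 0, 3, 0, 3, 0, 0, 2, 0, 3, 0, 3, 0, 0, 2, 0, 3, 0, 3, 0, 0, 2, 0, 3, 0, 3, 0, 0, 2, 0, 3, 0, 3, 0, 0, 2, 0, 3, 0, 3, 0, 0, 2, 0, 3, 0, 3, 0, 2, 1, 2, 1, 3, 1, 1, 2, 1, 2, 1, 3, 1, 1, 2, 1, 2, 1, 3, 1, 1, 2, 1, 2, 1, 3, 1, 1, 2, 1, 2, 1, 3, 1, 1, 2,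 1, 2])))) (WT.node 110 (WT.node 109 (WT.leaf [1, 1, 2, 1, 2, 1, 3, 1, 1, 2, 1, 2, 1, 3, 1, 1, 0, 2, 0, 3, 0, 3, 0, 0, 2, 0, 3, 0, 3, 0, 0, 2, 0, 3, 0, 3, 0, 0, 2, 0, 3, 0, 3, 0, 0, 2, 0, 3, 0, 3, 0, 0, 2, 0, 3, 0, 3, 0, 0, 2, 0, 3, 0, 3, 0, 2, 1, 2, 1, 3, 1, 1, 2, 1, 2, 1, 3, 1, 1, 2, 1, 2, 1, 3, 1, 1, 2, 1, 2, 1, 3, 1, 1, 2, 1, 2, 1, 3]) (WT.leaf [1, 1, 3, 3, 1, 2, 1, 2, 1, 1, 3, 3, 1, 2, 1, 2, 1, 1, 1, 0, 0, 3, 0, 3, 0, 2, 2, 0, 0, 3, 0, 3, 0, 2, 2, 0, 0, 3, 0, 3, 0, 2, 2, 0, 0, 3, 0, 3, 0, 2, 2, 0, 0, 3, 0, 3, 0, 2, 2, 0, 3, 3, 1, 2, 1, 2, 1, 1, 3, 3, 1, 2, 1, 2, 1, 1, 3, 3, 1, 2, 1, 2])) (WT.node 111 (WT.leaf [1, 3, 1,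 1, 2, 1, 2, 1, 3, 1, 1, 2, 1, 2, 1, 3, 1, 1, 2, 1, 2, 1, 3, 1, 1, 2, 1, 2, 1, 3, 1, 3, 0, 2, 0, 3, 0, 3, 0, 0, 2, 0, 3, 0, 3, 0, 0, 2, 0, 3, 0, 3, 0, 0, 2, 0, 3, 0, 3, 0, 0, 2, 0, 3, 0, 3, 0, 0, 2, 0, 3, 0, 3, 0, 0, 2, 0, 3, 0, 3, 0, 2, 1, 2, 1, 2, 1, 3, 1, 1, 2, 1, 2, 1, 3, 1, 1, 2, 1, 2]) (WT.node 112 (WT.leaf [1, 3, 1, 1, 2, 1, 2, 1, 3, 1, 1, 2, 1, 2, 1, 3, 1, 1, 2, 1, 2, 1, 3, 1, 1, 2, 1, 2, 1, 3, 1, 1, 0, 2, 0, 3, 0, 3, 0, 0, 2, 0, 3, 0, 3, 0, 0, 2, 0, 3, 0, 3, 0, 0, 2, 0, 3, 0, 3, 0, 0, 2, 0, 3, 0, 3, 0, 0, 2, 0, 3, 0, 3, 0, 0, 2, 0, 3, 0, 3, 0, 2, 1, 2, 1, 3, 1, 1, 2, 1, 2, 1, 3, 1, 1, 2, 1, 2]) (WT.leaf [1, 2, 1, 2,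 1, 3, 1, 1, 2, 1, 2, 1, 3, 1, 1, 2, 1, 2, 1, 3, 1, 1, 2, 1, 2, 1, 3, 1, 3, 0, 2, 0, 3, 0, 3, 0, 0, 2, 0, 3, 0, 3, 0, 0, 2, 0, 3, 0, 3, 0, 0, 2, 0, 3, 0, 3, 0, 0, 2, 0, 3, 0, 3, 0, 0, 2, 0, 3, 0, 3, 0, 0, 2, 0, 3, 0, 3, 0, 2, 1, 2, 1, 2, 1, 3, 1, 1, 2, 1, 2, 1, 3, 1, 1, 2, 1, 2, 1, 3, 1]))))) (WT.node 118 (WT.node 115 (WT.node 114 (WT.leaf [1, 2, 1, 2, 1, 1, 3, 3, 1, 2, 1, 2, 1, 1, 3, 0, 0, 3, 0, 3, 0, 2, 2, 0, 0, 3, 0, 3, 0, 2, 2, 0, 0, 3, 0, 3, 0, 2, 2, 0, 0, 3, 0, 3, 0, 2, 2, 0, 0, 3, 0, 3, 0, 2, 1, 2, 1, 2, 1, 1, 3, 3, 1, 2, 1, 2, 1, 1, 3, 3, 1, 2, 1, 2, 1, 1, 3, 3]) (WT.leaf [1, 3, 3, 1, 2, 1, 2, 1, 1, 3, 3, 1, 2, 1, 2,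 1, 1, 3, 3, 1, 2, 1, 2, 1, 1, 3, 3, 1, 2, 1, 2, 1, 1, 1, 0, 0, 3, 0, 3, 0, 2, 2, 0, 0, 3, 0, 3, 0, 2, 2, 0, 0, 3, 0, 3, 0, 2, 2, 0, 0, 3, 0, 3, 0, 2, 2, 0, 0, 3, 0, 3, 0, 2, 2, 0, 3, 3, 1, 2, 1, 2, 1])) (WT.node 116 (WT.leaf [1, 1, 3, 3, 1, 2, 1, 2, 1, 1, 3, 3, 1, 2, 1, 2, 1, 1, 3, 3, 1, 2, 1, 2, 1, 1, 3, 0, 0, 3, 0, 3, 0, 2, 2, 0, 0, 3, 0, 3, 0, 2, 2, 0, 0, 3, 0, 3, 0, 2, 2, 0, 0, 3, 0, 3, 0, 2, 2, 0, 0, 3, 0, 3, 0, 2, 1, 2, 1, 2, 1, 1, 3, 3, 1, 2, 1, 2]) (WT.node 117 (WT.leaf [1, 1, 2, 1, 2, 1, 3, 1, 1, 2, 1, 2, 1, 3, 1, 1, 2, 1, 2, 1, 3, 1, 1, 2, 1, 2, 1, 3, 1, 1, 2, 1, 2, 1, 3, 1, 1, 0, 2, 0, 3, 0, 3, 0, 0, 2, 0, 3, 0,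 3, 0, 0, 2, 0, 3, 0, 3, 0, 0, 2, 0, 3, 0, 3, 0, 0, 2, 0, 3, 0, 3, 0, 0, 2, 0, 3, 0, 3, 0, 0, 2, 0, 3, 0, 3, 0, 2, 1, 2, 1, 3, 1, 1, 2, 1, 2, 1, 3]) (WT.leaf [1, 2, 1, 2, 1, 1, 3, 3, 1, 2, 1, 2, 1, 1, 1, 0, 0, 3, 0, 3, 0, 2, 2, 0, 0, 3, 0, 3, 0, 2, 2, 0, 0, 3, 0, 3, 0, 2, 2, 0, 0, 3, 0, 3, 0, 2, 2, 0, 0, 3, 0, 3, 0, 2, 2, 0, 3, 3, 1, 2, 1, 2, 1, 1, 3, 3, 1, 2, 1, 2, 1, 1, 3, 3, 1, 2, 1, 2, 1, 1, 3, 3])))) (WT.node 121 (WT.node 119 (WT.leaf [1, 3, 3, 1, 2, 1, 2, 1, 1, 1, 0, 0, 3, 0, 3, 0, 2, 2, 0, 0, 3, 0, 3, 0, 2, 2, 0, 0, 3, 0, 3, 0, 2, 2, 0, 0, 3, 0, 3, 0, 2, 2, 0, 0, 3, 0, 3, 0, 2, 2, 0, 3, 3, 1, 2, 1, 2, 1, 1, 3, 3, 1,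 2, 1, 2, 1, 1, 3, 3, 1, 2, 1, 2, 1, 1, 3, 3, 1, 2, 1, 2, 1]) (WT.node 120 (WT.leaf [1, 2, 1, 2, 1, 1, 3, 3, 1, 2, 1, 2, 1, 1, 3, 3, 1, 2, 1, 2, 1, 1, 3, 3, 1, 2, 1, 2, 1, 1, 3, 3, 1, 2, 1, 2, 1, 1, 1, 0, 0, 3, 0, 3, 0, 2, 2, 0, 0, 3, 0, 3, 0, 2, 2, 0, 0, 3, 0, 3, 0, 2, 2, 0, 0, 3, 0, 3, 0, 2, 2, 0, 0, 3, 0, 3, 0, 2, 2, 0, 3, 3]) (WT.leaf [1, 2, 0, 3, 1, 3, 0, 2, 1, 2, 0, 3, 1, 3, 0, 2, 1, 2, 0, 3, 1, 3, 0, 2, 1, 2, 0, 3, 1, 3, 0, 2, 1, 2, 0, 3, 1, 3, 0, 2, 1, 2, 0, 3, 1, 3, 0, 2, 1, 2, 0, 3, 1, 3, 0, 2, 1, 2, 0, 3, 1, 3, 0, 2, 1, 2, 0, 3, 1, 3, 0, 2, 1, 2, 0, 3, 1, 1, 3, 0, 2, 1, 2, 0, 3, 1, 3, 0, 2, 1, 2, 0, 3, 1, 3, 0, 2,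 1, 2, 0, 3, 1, 3, 0, 2, 1, 2, 0, 3, 1, 3, 0, 2, 1, 2, 0, 3, 1, 3, 0, 2, 1, 2, 0, 3, 1, 3, 0, 2]))) (WT.node 122 (WT.leaf [1, 1, 3, 3, 1, 2, 1, 2, 1, 1, 3, 0, 0, 3, 0, 3, 0, 2, 2, 0, 0, 3, 0, 3, 0, 2, 2, 0, 0, 3, 0, 3, 0, 2, 2, 0, 0, 3, 0, 3, 0, 2, 2, 0, 0, 3, 0, 3, 0, 2, 1, 2, 1, 2, 1, 1, 3, 3, 1, 2, 1, 2, 1, 1, 3, 3, 1, 2, 1, 2, 1, 1, 3, 3, 1, 2, 1, 2]) (WT.node 123 (WT.leaf [1, 2, 0, 3, 1, 3, 0, 2, 1, 2, 0, 3, 1, 3, 0, 2, 1, 2, 0, 3, 1, 3, 0, 2, 1, 2, 0, 3, 1, 3, 0, 2, 1, 2, 0, 3, 1, 3, 0, 2, 1, 2, 0, 3, 1, 3, 0, 2, 1, 2, 0, 3, 1, 1, 3, 0, 2, 1, 2, 0, 3, 1, 3, 0, 2, 1, 2, 0, 3, 1, 3, 0, 2, 1, 2, 0, 3, 1, 3, 0, 2, 1, 2, 0,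 3, 1, 3, 0, 2, 1, 2, 0, 3, 1, 3, 0, 2, 1, 2, 0, 3, 1, 3, 0, 2, 1, 2, 0, 3, 1, 3, 0, 2, 1, 2, 0, 3, 1, 3, 0, 2, 1, 2, 0, 3, 1, 3, 0, 2]) (WT.leaf [1, 3, 3, 1, 2, 1, 2, 1, 1, 3, 3, 1, 2, 1, 2, 1, 1, 3, 0, 0, 3, 0, 3, 0, 2, 2, 0, 0, 3, 0, 3, 0, 2, 2, 0, 0, 3, 0, 3, 0, 2, 2, 0, 0, 3, 0, 3, 0, 2, 2, 0, 0, 3, 0, 3, 0, 2, 1, 2, 1, 2, 1, 1, 3, 3, 1, 2, 1, 2, 1, 1, 3, 3, 1, 2, 1, 2, 1]))))))) (WT.node 145 (WT.node 134 (WT.node 129 (WT.node 126 (WT.node 125 (WT.leaf [1, 3, 3, 1, 2, 1, 2, 1, 1, 3, 0, 0, 3, 0, 3, 0, 2, 2, 0, 0, 3, 0, 3, 0, 2, 2, 0, 0, 3, 0, 3, 0, 2, 2, 0, 0, 3, 0, 3, 0, 2, 2, 0, 0, 3, 0, 3, 0, 2, 1, 2, 1, 2, 1, 1, 3,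 3, 1, 2, 1, 2, 1, 1, 3, 3, 1, 2, 1, 2, 1, 1, 3, 3, 1, 2, 1, 2, 1]) (WT.leaf [1, 2, 1, 2, 1, 1, 1, 0, 0, 3, 0, 3, 0, 2, 2, 0, 0, 3, 0, 3, 0, 2, 2, 0, 0, 3, 0, 3, 0, 2, 2, 0, 0, 3, 0, 3, 0, 2, 2, 0, 0, 3, 0, 3, 0, 2, 2, 0, 3, 3, 1, 2, 1, 2, 1, 1, 3, 3, 1, 2, 1, 2, 1, 1, 3, 3, 1, 2, 1, 2, 1, 1, 3, 3, 1, 2, 1, 2, 1, 1, 3, 3])) (WT.node 127 (WT.leaf [1, 1, 2, 1, 2, 1, 3, 1, 1, 2, 1, 2, 1, 3, 1, 3, 0, 2, 0, 3, 0, 3, 0, 0, 2, 0, 3, 0, 3, 0, 0, 2, 0, 3, 0, 3, 0, 0, 2, 0, 3, 0, 3, 0, 0, 2, 0, 3, 0, 3, 0, 0, 2, 0, 3, 0, 3, 0, 0, 2, 0, 3, 0, 3, 0, 2, 1, 2, 1, 2, 1, 3, 1, 1, 2, 1, 2, 1, 3, 1, 1, 2, 1, 2, 1, 3, 1, 1, 2, 1, 2, 1, 3, 1,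 1, 2, 1, 2, 1, 3]) (WT.node 128 (WT.leaf [1, 3, 1, 1, 2, 1, 2, 1, 3, 1, 1, 2, 1, 2, 1, 3, 1, 1, 2, 1, 2, 1, 3, 1, 1, 2, 1, 2, 1, 3, 1, 1, 2, 1, 2, 1, 3, 1, 1, 2, 1, 2, 1, 3, 1, 1, 0, 2, 0, 3, 0, 3, 0, 0, 2, 0, 3, 0, 3, 0, 0, 2, 0, 3, 0, 3, 0, 0, 2, 0, 3, 0, 3, 0, 0, 2, 0, 3, 0, 3, 0, 0, 2, 0, 3, 0, 3, 0, 0, 2, 0, 3, 0, 3, 0, 2, 1, 2]) (WT.leaf [1, 3, 1, 1, 0, 2, 0, 3, 0, 3, 0, 0, 2, 0, 3, 0, 3, 0, 0, 2, 0, 3, 0, 3, 0, 0, 2, 0, 3, 0, 3, 0, 0, 2, 0, 3, 0, 3, 0, 0, 2, 0, 3, 0, 3, 0, 0, 2, 0, 3, 0, 3, 0, 2, 1, 2, 1, 3, 1, 1, 2, 1, 2, 1, 3, 1, 1, 2, 1, 2, 1, 3, 1, 1, 2, 1, 2, 1, 3, 1, 1, 2, 1, 2, 1, 3, 1, 1, 2, 1, 2, 1, 3, 1, 1,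 2, 1, 2])))) (WT.node 131 (WT.node 130 (WT.leaf [1, 2, 1, 1, 1, 0, 0, 3, 0, 3, 0, 2, 2, 0, 0, 3, 0, 3, 0, 2, 2, 0, 0, 3, 0, 3, 0, 2, 2, 0, 0, 3, 0, 3, 0, 2, 2, 0, 0, 3, 0, 3, 0, 2, 2, 0, 3, 3, 1, 2, 1, 2, 1, 1, 3, 3, 1, 2, 1, 2, 1, 1, 3, 3, 1, 2, 1, 2, 1, 1, 3, 3, 1, 2, 1, 2, 1, 1, 3, 3, 1, 2]) (WT.leaf [1, 1, 2, 1, 2, 1, 3, 1, 1, 2, 1, 2, 1, 3, 1, 1, 2, 1, 2, 1, 3, 1, 1, 2, 1, 2, 1, 3, 1, 1, 2, 1, 2, 1, 3, 1, 1, 2, 1, 2, 1, 3, 1, 3, 0, 2, 0, 3, 0, 3, 0, 0, 2, 0, 3, 0, 3, 0, 0, 2, 0, 3, 0, 3, 0, 0, 2, 0, 3, 0, 3, 0, 0, 2, 0, 3, 0, 3, 0, 0, 2, 0, 3, 0, 3, 0, 0, 2, 0, 3, 0, 3, 0, 2, 1, 2, 1, 2, 1, 3])) (WT.node 132 (WT.leaf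 [1, 2, 1, 1, 3, 3, 1, 2, 1, 2, 1, 1, 3, 3, 1, 2, 1, 2, 1, 1, 1, 0, 0, 3, 0, 3, 0, 2, 2, 0, 0, 3, 0, 3, 0, 2, 2, 0, 0, 3, 0, 3, 0, 2, 2, 0, 0, 3, 0, 3, 0, 2, 2, 0, 0, 3, 0, 3, 0, 2, 2, 0, 3, 3, 1, 2, 1, 2, 1, 1, 3, 3, 1, 2, 1, 2, 1, 1, 3, 3, 1, 2]) (WT.node 133 (WT.leaf [1, 2, 1, 2, 1, 3, 1, 1, 2, 1, 2, 1, 3, 1, 1, 2, 1, 2, 1, 3, 1, 1, 2, 1, 2, 1, 3, 1, 1, 0, 2, 0, 3, 0, 3, 0, 0, 2, 0, 3, 0, 3, 0, 0, 2, 0, 3, 0, 3, 0, 0, 2, 0, 3, 0, 3, 0, 0, 2, 0, 3, 0, 3, 0, 0, 2, 0, 3, 0, 3, 0, 0, 2, 0, 3, 0, 3, 0, 2, 1, 2, 1, 3, 1, 1, 2, 1, 2, 1, 3, 1, 1, 2, 1, 2, 1, 3, 1]) (WT.leaf [1, 2, 1, 2, 1, 3, 1, 1, 2, 1, 2, 1, 3, 1, 1, 2, 1, 2,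 1, 3, 1, 1, 2, 1, 2, 1, 3, 1, 1, 2, 1, 2, 1, 3, 1, 1, 0, 2, 0, 3, 0, 3, 0, 0, 2, 0, 3, 0, 3, 0, 0, 2, 0, 3, 0, 3, 0, 0, 2, 0, 3, 0, 3, 0, 0, 2, 0, 3, 0, 3, 0, 0, 2, 0, 3, 0, 3, 0, 0, 2, 0, 3, 0, 3, 0, 2, 1, 2, 1, 3, 1, 1, 2, 1, 2, 1, 3, 1]))))) (WT.node 139 (WT.node 136 (WT.node 135 (WT.leaf [1, 2, 1, 2, 1, 1, 3, 3, 1, 2, 1, 2, 1, 1, 3, 3, 1, 2, 1, 2, 1, 1, 3, 0, 0, 3, 0, 3, 0, 2, 2, 0, 0, 3, 0, 3, 0, 2, 2, 0, 0, 3, 0, 3, 0, 2, 2, 0, 0, 3, 0, 3, 0, 2, 2, 0, 0, 3, 0, 3, 0, 2, 1, 2, 1, 2, 1, 1, 3, 3, 1, 2, 1, 2, 1, 1, 3, 3]) (WT.leaf [1, 2, 1, 1, 3, 0, 0, 3, 0, 3, 0, 2, 2, 0, 0, 3, 0, 3, 0, 2, 2, 0, 0, 3, 0, 3, 0, 2, 2, 0, 0,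 3, 0, 3, 0, 2, 2, 0, 0, 3, 0, 3, 0, 2, 1, 2, 1, 2, 1, 1, 3, 3, 1, 2, 1, 2, 1, 1, 3, 3, 1, 2, 1, 2, 1, 1, 3, 3, 1, 2, 1, 2, 1, 1, 3, 3, 1, 2])) (WT.node 137 (WT.leaf [1, 1, 2, 1, 2, 1, 3, 1, 1, 2, 1, 2, 1, 3, 1, 1, 2, 1, 2, 1, 3, 1, 1, 2, 1, 2, 1, 3, 1, 1, 2, 1, 2, 1, 3, 1, 1, 2, 1, 2, 1, 3, 1, 1, 0, 2, 0, 3, 0, 3, 0, 0, 2, 0, 3, 0, 3, 0, 0, 2, 0, 3, 0, 3, 0, 0, 2, 0, 3, 0, 3, 0, 0, 2, 0, 3, 0, 3, 0, 0, 2, 0, 3, 0, 3, 0, 0, 2, 0, 3, 0, 3, 0, 2, 1, 2, 1, 3]) (WT.node 138 (WT.leaf [1, 1, 2, 1, 2, 1, 3, 1, 1, 0, 2, 0, 3, 0, 3, 0, 0, 2, 0, 3, 0, 3, 0, 0, 2, 0, 3, 0, 3, 0, 0, 2, 0, 3, 0, 3, 0, 0, 2, 0, 3, 0, 3, 0, 0, 2, 0, 3, 0,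 3, 0, 0, 2, 0, 3, 0, 3, 0, 2, 1, 2, 1, 3, 1, 1, 2, 1, 2, 1, 3, 1, 1, 2, 1, 2, 1, 3, 1, 1, 2, 1, 2, 1, 3, 1, 1, 2, 1, 2, 1, 3, 1, 1, 2, 1, 2, 1, 3]) (WT.leaf [1, 3, 1, 1, 2, 1, 2, 1, 3, 1, 1, 2, 1, 2, 1, 3, 1, 1, 2, 1, 2, 1, 3, 1, 1, 2, 1, 2, 1, 3, 1, 1, 2, 1, 2, 1, 3, 1, 3, 0, 2, 0, 3, 0, 3, 0, 0, 2, 0, 3, 0, 3, 0, 0, 2, 0, 3, 0, 3, 0, 0, 2, 0, 3, 0, 3, 0, 0, 2, 0, 3, 0, 3, 0, 0, 2, 0, 3, 0, 3, 0, 0, 2, 0, 3, 0, 3, 0, 2, 1, 2, 1, 2, 1, 3, 1, 1, 2, 1, 2])))) (WT.node 142 (WT.node 140 (WT.leaf [1, 3, 3, 1, 2, 1, 2, 1, 1, 3, 3, 1, 2, 1, 2, 1, 1, 1, 0, 0, 3, 0, 3, 0, 2, 2, 0, 0, 3, 0, 3, 0, 2, 2, 0, 0, 3, 0, 3, 0, 2, 2, 0, 0,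 3, 0, 3, 0, 2, 2, 0, 0, 3, 0, 3, 0, 2, 2, 0, 3, 3, 1, 2, 1, 2, 1, 1, 3, 3, 1, 2, 1, 2, 1, 1, 3, 3, 1, 2, 1, 2, 1]) (WT.node 141 (WT.leaf [1, 2, 1, 1, 3, 3, 1, 2, 1, 2, 1, 1, 3, 3, 1, 2, 1, 2, 1, 1, 3, 3, 1, 2, 1, 2, 1, 1, 1, 0, 0, 3, 0, 3, 0, 2, 2, 0, 0, 3, 0, 3, 0, 2, 2, 0, 0, 3, 0, 3, 0, 2, 2, 0, 0, 3, 0, 3, 0, 2, 2, 0, 0, 3, 0, 3, 0, 2, 2, 0, 3, 3, 1, 2, 1, 2, 1, 1, 3, 3, 1, 2]) (WT.leaf [1, 2, 1, 1, 3, 3, 1, 2, 1, 2, 1, 1, 3, 3, 1, 2, 1, 2, 1, 1, 3, 3, 1, 2, 1, 2, 1, 1, 3, 3, 1, 2, 1, 2, 1, 1, 1, 0, 0, 3, 0, 3, 0, 2, 2, 0, 0, 3, 0, 3, 0, 2, 2, 0, 0, 3, 0, 3, 0, 2, 2, 0, 0, 3, 0, 3, 0, 2, 2, 0, 0, 3, 0, 3, 0, 2, 2, 0, 3,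 3, 1, 2]))) (WT.node 143 (WT.leaf [1, 2, 1, 2, 1, 3, 1, 1, 0, 2, 0, 3, 0, 3, 0, 0, 2, 0, 3, 0, 3, 0, 0, 2, 0, 3, 0, 3, 0, 0, 2, 0, 3, 0, 3, 0, 0, 2, 0, 3, 0, 3, 0, 0, 2, 0, 3, 0, 3, 0, 0, 2, 0, 3, 0, 3, 0, 2, 1, 2, 1, 3, 1, 1, 2, 1, 2, 1, 3, 1, 1, 2, 1, 2, 1, 3, 1, 1, 2, 1, 2, 1, 3, 1, 1, 2, 1, 2, 1, 3, 1, 1, 2, 1, 2, 1, 3, 1]) (WT.node 144 (WT.leaf [1, 2, 1, 2, 1, 1, 3, 0, 0, 3, 0, 3, 0, 2, 2, 0, 0, 3, 0, 3, 0, 2, 2, 0, 0, 3, 0, 3, 0, 2, 2, 0, 0, 3, 0, 3, 0, 2, 2, 0, 0, 3, 0, 3, 0, 2, 1, 2, 1, 2, 1, 1, 3, 3, 1, 2, 1, 2, 1, 1, 3, 3, 1, 2, 1, 2, 1, 1, 3, 3, 1, 2, 1, 2, 1, 1, 3, 3]) (WT.leaf [1, 1, 2, 1, 2, 1, 3, 1, 1, 2, 1,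 2, 1, 3, 1, 1, 2, 1, 2, 1, 3, 1, 1, 0, 2, 0, 3, 0, 3, 0, 0, 2, 0, 3, 0, 3, 0, 0, 2, 0, 3, 0, 3, 0, 0, 2, 0, 3, 0, 3, 0, 0, 2, 0, 3, 0, 3, 0, 0, 2, 0, 3, 0, 3, 0, 0, 2, 0, 3, 0, 3, 0, 2, 1, 2, 1, 3, 1, 1, 2, 1, 2, 1, 3, 1, 1, 2, 1, 2, 1, 3, 1, 1, 2, 1, 2, 1, 3])))))) (WT.node 155 (WT.node 150 (WT.node 147 (WT.node 146 (WT.leaf [1, 2, 1, 2, 1, 3, 1, 1, 2, 1, 2, 1, 3, 1, 1, 2, 1, 2, 1, 3, 1, 1, 2, 1, 2, 1, 3, 1, 1, 2, 1, 2, 1, 3, 1, 1, 2, 1, 2, 1, 3, 1, 3, 0, 2, 0, 3, 0, 3, 0, 0, 2, 0, 3, 0, 3, 0, 0, 2, 0, 3, 0, 3, 0, 0, 2, 0, 3, 0, 3, 0, 0, 2, 0, 3, 0, 3, 0, 0, 2, 0, 3, 0, 3, 0, 0, 2, 0, 3, 0, 3, 0, 2, 1, 2, 1, 2, 1, 3, 1])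 (WT.leaf [1, 3, 1, 1, 2, 1, 2, 1, 3, 1, 1, 2, 1, 2, 1, 3, 1, 1, 2, 1, 2, 1, 3, 1, 3, 0, 2, 0, 3, 0, 3, 0, 0, 2, 0, 3, 0, 3, 0, 0, 2, 0, 3, 0, 3, 0, 0, 2, 0, 3, 0, 3, 0, 0, 2, 0, 3, 0, 3, 0, 0, 2, 0, 3, 0, 3, 0, 0, 2, 0, 3, 0, 3, 0, 2, 1, 2, 1, 2, 1, 3, 1, 1, 2, 1, 2, 1, 3, 1, 1, 2, 1, 2, 1, 3, 1, 1, 2, 1, 2])) (WT.node 148 (WT.leaf [1, 1, 2, 1, 2, 1, 3, 1, 1, 2, 1, 2, 1, 3, 1, 1, 2, 1, 2, 1, 3, 1, 1, 2, 1, 2, 1, 3, 1, 1, 0, 2, 0, 3, 0, 3, 0, 0, 2, 0, 3, 0, 3, 0, 0, 2, 0, 3, 0, 3, 0, 0, 2, 0, 3, 0, 3, 0, 0, 2, 0, 3, 0, 3, 0, 0, 2, 0, 3, 0, 3, 0, 0, 2, 0, 3, 0, 3, 0, 2, 1, 2, 1, 3, 1, 1, 2, 1, 2, 1, 3, 1, 1, 2, 1, 2, 1, 3])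 (WT.node 149 (WT.leaf [1, 2, 1, 2, 1, 1, 3, 3, 1, 2, 1, 2, 1, 1, 3, 3, 1, 2, 1, 2, 1, 1, 3, 3, 1, 2, 1, 2, 1, 1, 3, 0, 0, 3, 0, 3, 0, 2, 2, 0, 0, 3, 0, 3, 0, 2, 2, 0, 0, 3, 0, 3, 0, 2, 2, 0, 0, 3, 0, 3, 0, 2, 2, 0, 0, 3, 0, 3, 0, 2, 1, 2, 1, 2, 1, 1, 3, 3]) (WT.leaf [1, 1, 2, 1, 2, 1, 3, 1, 1, 2, 1, 2, 1, 3, 1, 1, 2, 1, 2, 1, 3, 1, 1, 2, 1, 2, 1, 3, 1, 1, 2, 1, 2, 1, 3, 1, 3, 0, 2, 0, 3, 0, 3, 0, 0, 2, 0, 3, 0, 3, 0, 0, 2, 0, 3, 0, 3, 0, 0, 2, 0, 3, 0, 3, 0, 0, 2, 0, 3, 0, 3, 0, 0, 2, 0, 3, 0, 3, 0, 0, 2, 0, 3, 0, 3, 0, 2, 1, 2, 1, 2, 1, 3, 1, 1, 2, 1, 2, 1, 3])))) (WT.node 152 (WT.node 151 (WT.leaf [1, 2, 1, 2, 1, 3, 1, 1,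 2, 1, 2, 1, 3, 1, 1, 2, 1, 2, 1, 3, 1, 1, 2, 1, 2, 1, 3, 1, 1, 2, 1, 2, 1, 3, 1, 1, 2, 1, 2, 1, 3, 1, 1, 0, 2, 0, 3, 0, 3, 0, 0, 2, 0, 3, 0, 3, 0, 0, 2, 0, 3, 0, 3, 0, 0, 2, 0, 3, 0, 3, 0, 0, 2, 0, 3, 0, 3, 0, 0, 2, 0, 3, 0, 3, 0, 0, 2, 0, 3, 0, 3, 0, 2, 1, 2, 1, 3, 1]) (WT.leaf [1, 2, 1, 2, 1, 3, 1, 1, 2, 1, 2, 1, 3, 1, 1, 2, 1, 2, 1, 3, 1, 1, 0, 2, 0, 3, 0, 3, 0, 0, 2, 0, 3, 0, 3, 0, 0, 2, 0, 3, 0, 3, 0, 0, 2, 0, 3, 0, 3, 0, 0, 2, 0, 3, 0, 3, 0, 0, 2, 0, 3, 0, 3, 0, 0, 2, 0, 3, 0, 3, 0, 2, 1, 2, 1, 3, 1, 1, 2, 1, 2, 1, 3, 1, 1, 2, 1, 2, 1, 3, 1, 1, 2, 1, 2, 1, 3, 1])) (WT.node 153 (WT.leaf [1, 1, 2, 1, 2, 1, 3, 1, 1, 2,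 1, 2, 1, 3, 1, 1, 2, 1, 2, 1, 3, 1, 1, 2, 1, 2, 1, 3, 1, 3, 0, 2, 0, 3, 0, 3, 0, 0, 2, 0, 3, 0, 3, 0, 0, 2, 0, 3, 0, 3, 0, 0, 2, 0, 3, 0, 3, 0, 0, 2, 0, 3, 0, 3, 0, 0, 2, 0, 3, 0, 3, 0, 0, 2, 0, 3, 0, 3, 0, 2, 1, 2, 1, 2, 1, 3, 1, 1, 2, 1, 2, 1, 3, 1, 1, 2, 1, 2, 1, 3]) (WT.node 154 (WT.leaf [1, 3, 1, 1, 2, 1, 2, 1, 3, 1, 1, 2, 1, 2, 1, 3, 1, 1, 2, 1, 2, 1, 3, 1, 1, 2, 1, 2, 1, 3, 1, 1, 2, 1, 2, 1, 3, 1, 1, 0, 2, 0, 3, 0, 3, 0, 0, 2, 0, 3, 0, 3, 0, 0, 2, 0, 3, 0, 3, 0, 0, 2, 0, 3, 0, 3, 0, 0, 2, 0, 3, 0, 3, 0, 0, 2, 0, 3, 0, 3, 0, 0, 2, 0, 3, 0, 3, 0, 2, 1, 2, 1, 3, 1, 1, 2, 1, 2]) (WT.leaf [1, 3, 1, 1, 2, 1, 2, 1, 3, 1, 1,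 2, 1, 2, 1, 3, 1, 1, 0, 2, 0, 3, 0, 3, 0, 0, 2, 0, 3, 0, 3, 0, 0, 2, 0, 3, 0, 3, 0, 0, 2, 0, 3, 0, 3, 0, 0, 2, 0, 3, 0, 3, 0, 0, 2, 0, 3, 0, 3, 0, 0, 2, 0, 3, 0, 3, 0, 2, 1, 2, 1, 3, 1, 1, 2, 1, 2, 1, 3, 1, 1, 2, 1, 2, 1, 3, 1, 1, 2, 1, 2, 1, 3, 1, 1, 2, 1, 2]))))) (WT.node 160 (WT.node 157 (WT.node 156 (WT.leaf [1, 2, 1, 1, 3, 3, 1, 2, 1, 2, 1, 1, 3, 3, 1, 2, 1, 2, 1, 1, 3, 0, 0, 3, 0, 3, 0, 2, 2, 0, 0, 3, 0, 3, 0, 2, 2, 0, 0, 3, 0, 3, 0, 2, 2, 0, 0, 3, 0, 3, 0, 2, 2, 0, 0, 3, 0, 3, 0, 2, 1, 2, 1, 2, 1, 1, 3, 3, 1, 2, 1, 2, 1, 1, 3, 3, 1, 2]) (WT.leaf [1, 2, 1, 2, 1, 3, 1, 1, 2, 1, 2, 1, 3, 1, 1, 0, 2, 0, 3, 0, 3, 0, 0, 2,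 0, 3, 0, 3, 0, 0, 2, 0, 3, 0, 3, 0, 0, 2, 0, 3, 0, 3, 0, 0, 2, 0, 3, 0, 3, 0, 0, 2, 0, 3, 0, 3, 0, 0, 2, 0, 3, 0, 3, 0, 2, 1, 2, 1, 3, 1, 1, 2, 1, 2, 1, 3, 1, 1, 2, 1, 2, 1, 3, 1, 1, 2, 1, 2, 1, 3, 1, 1, 2, 1, 2, 1, 3, 1])) (WT.node 158 (WT.leaf [1, 2, 1, 3, 1, 1, 2, 1, 2, 1, 3, 1, 1, 2, 1, 2, 1, 3, 1, 1, 2, 1, 2, 1, 3, 1, 1, 2, 1, 2, 1, 3, 1, 1, 2, 1, 2, 1, 3, 1, 1, 2, 1, 2, 1, 3, 1, 1, 0, 2, 0, 3, 0, 3, 0, 0, 2, 0, 3, 0, 3, 0, 0, 2, 0, 3, 0, 3, 0, 0, 2, 0, 3, 0, 3, 0, 0, 2, 0, 3, 0, 3, 0, 0, 2, 0, 3, 0, 3, 0, 0, 2, 0, 3, 0, 3, 0, 2]) (WT.node 159 (WT.leaf [1, 2, 1, 1, 3, 3, 1, 2, 1, 2, 1, 1, 3, 3, 1, 2, 1, 2, 1, 1, 3, 3,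 1, 2, 1, 2, 1, 1, 3, 3, 1, 2, 1, 2, 1, 1, 3, 0, 0, 3, 0, 3, 0, 2, 2, 0, 0, 3, 0, 3, 0, 2, 2, 0, 0, 3, 0, 3, 0, 2, 2, 0, 0, 3, 0, 3, 0, 2, 2, 0, 0, 3, 0, 3, 0, 2, 1, 2]) (WT.leaf [1, 2, 1, 3, 1, 1, 2, 1, 2, 1, 3, 1, 1, 2, 1, 2, 1, 3, 1, 1, 2, 1, 2, 1, 3, 1, 1, 2, 1, 2, 1, 3, 1, 1, 2, 1, 2, 1, 3, 1, 1, 0, 2, 0, 3, 0, 3, 0, 0, 2, 0, 3, 0, 3, 0, 0, 2, 0, 3, 0, 3, 0, 0, 2, 0, 3, 0, 3, 0, 0, 2, 0, 3, 0, 3, 0, 0, 2, 0, 3, 0, 3, 0, 0, 2, 0, 3, 0, 3, 0, 2, 1, 2, 1, 3, 1, 1, 2])))) (WT.node 163 (WT.node 161 (WT.leaf [1, 3, 1, 1, 2, 1, 2, 1, 3, 1, 3, 0, 2, 0, 3, 0, 3, 0, 0, 2, 0, 3, 0, 3, 0, 0, 2, 0, 3, 0, 3, 0, 0, 2, 0, 3, 0, 3, 0,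 0, 2, 0, 3, 0, 3, 0, 0, 2, 0, 3, 0, 3, 0, 0, 2, 0, 3, 0, 3, 0, 2, 1, 2, 1, 2, 1, 3, 1, 1, 2, 1, 2, 1, 3, 1, 1, 2, 1, 2, 1, 3, 1, 1, 2, 1, 2, 1, 3, 1, 1, 2, 1, 2, 1, 3, 1, 1, 2, 1, 2]) (WT.node 162 (WT.leaf [1, 1, 0, 2, 0, 3, 0, 3, 0, 0, 2, 0, 3, 0, 3, 0, 0, 2, 0, 3, 0, 3, 0, 0, 2, 0, 3, 0, 3, 0, 0, 2, 0, 3, 0, 3, 0, 0, 2, 0, 3, 0, 3, 0, 0, 2, 0, 3, 0, 3, 0, 2, 1, 2, 1, 3, 1, 1, 2, 1, 2, 1, 3, 1, 1, 2, 1, 2, 1, 3, 1, 1, 2, 1, 2, 1, 3, 1, 1, 2, 1, 2, 1, 3, 1, 1, 2, 1, 2, 1, 3, 1, 1, 2, 1, 2, 1, 3]) (WT.leaf [1, 2, 1, 2, 1, 3, 1, 1, 2, 1, 2, 1, 3, 1, 1, 2, 1, 2, 1, 3, 1, 1, 2, 1, 2, 1, 3, 1, 1, 2, 1, 2, 1, 3, 1, 3, 0, 2, 0, 3,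 0, 3, 0, 0, 2, 0, 3, 0, 3, 0, 0, 2, 0, 3, 0, 3, 0, 0, 2, 0, 3, 0, 3, 0, 0, 2, 0, 3, 0, 3, 0, 0, 2, 0, 3, 0, 3, 0, 0, 2, 0, 3, 0, 3, 0, 2, 1, 2, 1, 2, 1, 3, 1, 1, 2, 1, 2, 1, 3, 1]))) (WT.node 164 (WT.leaf [1, 3, 1, 1, 2, 1, 2, 1, 3, 1, 1, 2, 1, 2, 1, 3, 1, 3, 0, 2, 0, 3, 0, 3, 0, 0, 2, 0, 3, 0, 3, 0, 0, 2, 0, 3, 0, 3, 0, 0, 2, 0, 3, 0, 3, 0, 0, 2, 0, 3, 0, 3, 0, 0, 2, 0, 3, 0, 3, 0, 0, 2, 0, 3, 0, 3, 0, 2, 1, 2, 1, 2, 1, 3, 1, 1, 2, 1, 2, 1, 3, 1, 1, 2, 1, 2, 1, 3, 1, 1, 2, 1, 2, 1, 3, 1, 1, 2, 1, 2]) (WT.node 165 (WT.leaf [1, 2, 1, 3, 1, 1, 2, 1, 2, 1, 3, 1, 1, 2, 1, 2, 1, 3, 1, 1, 2, 1, 2, 1, 3, 1, 1, 0, 2, 0, 3, 0, 3, 0,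 0, 2, 0, 3, 0, 3, 0, 0, 2, 0, 3, 0, 3, 0, 0, 2, 0, 3, 0, 3, 0, 0, 2, 0, 3, 0, 3, 0, 0, 2, 0, 3, 0, 3, 0, 0, 2, 0, 3, 0, 3, 0, 2, 1, 2, 1, 3, 1, 1, 2, 1, 2, 1, 3, 1, 1, 2, 1, 2, 1, 3, 1, 1, 2]) (WT.leaf [1, 1, 1, 0, 0, 3, 0, 3, 0, 2, 2, 0, 0, 3, 0, 3, 0, 2, 2, 0, 0, 3, 0, 3, 0, 2, 2, 0, 0, 3, 0, 3, 0, 2, 2, 0, 0, 3, 0, 3, 0, 2, 2, 0, 3, 3, 1, 2, 1, 2, 1, 1, 3, 3, 1, 2, 1, 2, 1, 1, 3, 3, 1, 2, 1, 2, 1, 1, 3, 3, 1, 2, 1, 2, 1, 1, 3, 3, 1, 2, 1, 2]))))))))) (WT.node 249 (WT.node 207 (WT.node 186 (WT.node 176 (WT.node 171 (WT.node 168 (WT.node 167 (WT.leaf [2, 1, 2, 0, 3, 1, 3, 0, 2, 1, 2, 0, 3, 1, 3, 0, 2, 1, 2, 0, 3, 1, 3, 0,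 2, 1, 2, 0, 3, 1, 3, 0, 2, 1, 2, 0, 3, 1, 3, 0, 2, 1, 2, 0, 3, 1, 3, 0, 2, 1, 2, 0, 3, 1, 3, 0, 2, 1, 2, 0, 3, 1, 3, 0, 2, 1, 2, 0, 3, 1, 3, 0, 2, 1, 2, 0, 3, 1, 3, 0, 2, 1, 2, 0, 3, 1, 3, 0, 2, 1, 2, 0, 3, 1, 3, 0, 2, 1, 2, 0, 3, 1, 3, 0, 2, 1, 2, 0, 3, 1, 3, 0, 2, 1, 2, 0, 3, 1, 3, 0, 2, 1, 2, 0, 3, 1, 1, 3, 0]) (WT.leaf [2, 0, 3, 0, 3, 1, 2, 1, 2, 0, 3, 0, 3, 1, 2, 1, 2, 0, 3, 0, 3, 1, 2, 1, 2, 0, 3, 0, 3, 1, 2, 1, 2, 0, 3, 0, 3, 1, 2, 1, 2, 0, 3, 0, 3, 1, 2, 1, 2, 0, 3, 0, 3, 1, 2, 1, 2, 0, 3, 0, 3, 3, 3, 3, 3, 3, 1, 2, 1])) (WT.node 169 (WT.leaf [2, 0, 3, 0, 3, 0, 3, 0, 3, 1, 2, 1, 2, 1, 2, 1]) (WT.node 170 (WT.leaf [2,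 2, 2, 2, 2, 2, 2]) (WT.leaf [2, 1, 1, 2, 1, 1, 0, 3, 0, 0, 3, 0])))) (WT.node 173 (WT.node 172 (WT.leaf [2, 1, 2, 1, 2, 1, 2, 0, 3, 0, 3, 0, 3, 0, 3, 1]) (WT.leaf [2, 1, 3, 1, 1, 2, 1, 2, 1, 3, 1, 1, 2, 1, 2, 1, 3, 1, 1, 2, 1, 2, 1, 3, 1, 1, 2, 1, 2, 1, 3, 1, 1, 2, 1, 2, 1, 3, 1, 1, 2, 1, 2, 1, 3, 1, 3, 0, 2, 0, 3, 0, 3, 0, 0, 2, 0, 3, 0, 3, 0, 0, 2, 0, 3, 0, 3, 0, 0, 2, 0, 3, 0, 3, 0, 0, 2, 0, 3, 0, 3, 0, 0, 2, 0, 3, 0, 3, 0, 0, 2, 0, 3, 0, 3, 0, 2, 1, 2, 1])) (WT.node 174 (WT.leaf [2, 2, 0, 0, 3, 0, 3, 0, 2, 2, 0, 0, 3, 0, 3, 0, 2, 2, 0, 0, 3, 0, 3, 0, 2, 2, 0, 0, 3, 0, 3, 0, 2, 2, 0, 3, 3, 1, 2, 1, 2, 1, 1, 3, 3, 1, 2,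 1, 2, 1, 1, 3, 3, 1, 2, 1, 2, 1, 1, 3, 3, 1, 2, 1, 2, 1, 1, 3, 3, 1, 2, 1, 2, 1, 1, 1, 0, 0, 3, 0, 3, 0]) (WT.node 175 (WT.leaf [2, 1, 2, 1, 2, 0, 3, 0, 3, 0, 3, 0, 3, 1, 2, 1]) (WT.leaf [2, 1, 2, 0, 3, 0, 3, 0, 3, 0, 3, 1, 2, 1, 2, 1]))))) (WT.node 181 (WT.node 178 (WT.node 177 (WT.leaf [2, 1, 3, 0, 3, 0, 0, 3, 0, 2, 1, 2, 1, 1]) (WT.leaf [2, 0, 0, 3, 0, 3, 0, 2, 2, 0, 0, 3, 0, 3, 0, 2, 2, 0, 0, 3, 0, 3, 0, 2, 2, 0, 0, 3, 0, 3, 0, 2, 2, 0, 3, 3, 1, 2, 1, 2, 1, 1, 3, 3, 1, 2, 1, 2, 1, 1, 3, 3, 1, 2, 1, 2, 1, 1, 3, 3, 1, 2, 1, 2, 1, 1, 3, 3, 1, 2, 1, 2, 1, 1, 1, 0, 0, 3, 0, 3, 0, 2])) (WT.node 179 (WT.leaf [2, 1, 1, 2, 1, 3,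 0, 3, 0, 0, 3, 0, 2, 1]) (WT.node 180 (WT.leaf [2, 1, 1, 0, 3, 0, 0, 3, 0, 2, 1, 1]) (WT.leaf [2, 1, 2, 1, 1, 2, 1, 3, 0, 3, 0, 0, 3, 0])))) (WT.node 183 (WT.node 182 (WT.leaf [2, 1, 2, 1, 3, 1, 1, 2, 1, 2, 1, 3, 1, 1, 2, 1, 2, 1, 3, 1, 1, 2, 1, 2, 1, 3, 1, 1, 2, 1, 2, 1, 3, 1, 1, 2, 1, 2, 1, 3, 1, 1, 2, 1, 2, 1, 3, 1, 1, 0, 2, 0, 3, 0, 3, 0, 0, 2, 0, 3, 0, 3, 0, 0, 2, 0, 3, 0, 3, 0, 0, 2, 0, 3, 0, 3, 0, 0, 2, 0, 3, 0, 3, 0, 0, 2, 0, 3, 0, 3, 0, 0, 2, 0, 3, 0, 3, 0]) (WT.leaf [2, 0, 3, 3, 1, 2, 1, 2, 1, 1, 3, 3, 1, 2, 1, 2, 1, 1, 3, 3, 1, 2, 1, 2, 1, 1, 3, 3, 1, 2, 1, 2, 1, 1, 3, 3, 1, 2, 1, 2, 1, 1, 1, 0, 0, 3, 0, 3, 0, 2,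 2, 0, 0, 3, 0, 3, 0, 2, 2, 0, 0, 3, 0, 3, 0, 2, 2, 0, 0, 3, 0, 3, 0, 2, 2, 0, 0, 3, 0, 3, 0, 2])) (WT.node 184 (WT.leaf [2, 1, 2, 1, 1, 3, 3, 1, 2, 1, 2, 1, 1, 3, 3, 1, 2, 1, 2, 1, 1, 3, 3, 1, 2, 1, 2, 1, 1, 3, 3, 1, 2, 1, 2, 1, 1, 3, 0, 0, 3, 0, 3, 0, 2, 2, 0, 0, 3, 0, 3, 0, 2, 2, 0, 0, 3, 0, 3, 0, 2, 2, 0, 0, 3, 0, 3, 0, 2, 2, 0, 0, 3, 0, 3, 0, 2, 1]) (WT.node 185 (WT.leaf [2, 0, 3, 1, 3, 0, 2, 1, 2, 0, 3, 1, 3, 0, 2, 1, 2, 0, 3, 1, 3, 0, 2, 1, 2, 0, 3, 1, 3, 0, 2, 1, 2, 0, 3, 1, 3, 0, 2, 1, 2, 0, 3, 1, 3, 0, 2, 1, 2, 0, 3, 1, 3, 0, 2, 1, 2, 0, 3, 1, 3, 0, 2, 1, 2, 0, 3, 1, 3, 0, 2, 1, 2, 0, 3, 1, 3, 0, 2, 1, 2, 0, 3, 1,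 3, 0, 2, 1, 2, 0, 3, 1, 3, 0, 2, 1, 2, 0, 3, 1, 3, 0, 2, 1, 2, 0, 3, 1, 3, 0, 2, 1, 2, 0, 3, 1, 3, 0, 2, 1, 2, 0, 3, 1, 1, 3, 0, 2, 1]) (WT.leaf [2, 0, 3, 0, 3, 1, 2, 1, 2, 0, 3, 0, 3, 1, 2, 1, 2, 0, 3, 0, 3, 1, 2, 1, 2, 0, 3, 0, 3, 3, 3, 3, 3, 3, 1, 2, 1, 2, 0, 3, 0, 3, 1, 2, 1, 2, 0, 3, 0, 3, 1, 2, 1, 2, 0, 3, 0, 3, 1, 2, 1, 2, 0, 3, 0, 3, 1, 2, 1])))))) (WT.node 196 (WT.node 191 (WT.node 188 (WT.node 187 (WT.leaf [2, 0, 3, 0, 3, 1, 2, 1, 2, 0, 3, 0, 3, 1, 2, 1, 2, 0, 3, 0, 3, 1, 2, 1, 2, 0, 3, 0, 3, 1, 2, 1, 2, 0, 3, 0, 3, 1, 2, 1, 2, 0, 3, 0, 3, 1, 2, 1, 2, 0, 3, 0, 3, 3, 3, 3, 3, 3, 1, 2, 1, 2, 0, 3, 0, 3, 1, 2, 1]) (WT.leaf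 [2, 1, 2, 0, 3, 1, 1, 3, 0, 2, 1, 2, 0, 3, 1, 3, 0, 2, 1, 2, 0, 3, 1, 3, 0, 2, 1, 2, 0, 3, 1, 3, 0, 2, 1, 2, 0, 3, 1, 3, 0, 2, 1, 2, 0, 3, 1, 3, 0, 2, 1, 2, 0, 3, 1, 3, 0, 2, 1, 2, 0, 3, 1, 3, 0, 2, 1, 2, 0, 3, 1, 3, 0, 2, 1, 2, 0, 3, 1, 3, 0, 2, 1, 2, 0, 3, 1, 3, 0, 2, 1, 2, 0, 3, 1, 3, 0, 2, 1, 2, 0, 3, 1, 3, 0, 2, 1, 2, 0, 3, 1, 3, 0, 2, 1, 2, 0, 3, 1, 3, 0, 2, 1, 2, 0, 3, 1, 3, 0])) (WT.node 189 (WT.leaf [2, 0, 3, 0, 3, 1, 2, 1, 2, 0, 3, 0, 3, 1, 2, 1, 2, 0, 3, 0, 3, 1, 2, 1, 2, 0, 3, 0, 3, 1, 2, 1, 2, 0, 3, 0, 3, 3, 3, 3, 3, 3, 1, 2, 1, 2, 0, 3, 0, 3, 1, 2, 1, 2, 0, 3, 0, 3, 1, 2, 1, 2, 0, 3, 0, 3, 1, 2, 1]) (WT.node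 190 (WT.leaf [2, 0, 3, 1, 3, 0, 2, 1, 2, 0, 3, 1, 3, 0, 2, 1, 2, 0, 3, 1, 3, 0, 2, 1, 2, 0, 3, 1, 3, 0, 2, 1, 2, 0, 3, 1, 3, 0, 2, 1, 2, 0, 3, 1, 3, 0, 2, 1, 2, 0, 3, 1, 3, 0, 2, 1, 2, 0, 3, 1, 3, 0, 2, 1, 2, 0, 3, 1, 3, 0, 2, 1, 2, 0, 3, 1, 3, 0, 2, 1, 2, 0, 3, 1, 3, 0, 2, 1, 2, 0, 3, 1, 3, 0, 2, 1, 2, 0, 3, 1, 3, 0, 2, 1, 2, 0, 3, 1, 1, 3, 0, 2, 1, 2, 0, 3, 1, 3, 0, 2, 1, 2, 0, 3, 1, 3, 0, 2, 1]) (WT.leaf [2, 1, 2, 1, 1, 3, 3, 1, 2, 1, 2, 1, 1, 3, 3, 1, 2, 1, 2, 1, 1, 3, 3, 1, 2, 1, 2, 1, 1, 1, 0, 0, 3, 0, 3, 0, 2, 2, 0, 0, 3, 0, 3, 0, 2, 2, 0, 0, 3, 0, 3, 0, 2, 2, 0, 0, 3, 0, 3, 0, 2, 2, 0, 0, 3, 0, 3, 0, 2, 2, 0, 3, 3,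 1, 2, 1, 2, 1, 1, 3, 3, 1])))) (WT.node 193 (WT.node 192 (WT.leaf [2, 0, 0, 3, 0, 3, 0, 2, 1, 2, 1, 2, 1, 1, 3, 3, 1, 2, 1, 2, 1, 1, 3, 3, 1, 2, 1, 2, 1, 1, 3, 3, 1, 2, 1, 2, 1, 1, 3, 3, 1, 2, 1, 2, 1, 1, 3, 0, 0, 3, 0, 3, 0, 2, 2, 0, 0, 3, 0, 3, 0, 2, 2, 0, 0, 3, 0, 3, 0, 2, 2, 0, 0, 3, 0, 3, 0, 2]) (WT.leaf [2, 0, 3, 0, 3, 0, 0, 2, 0, 3, 0, 3, 0, 0, 2, 0, 3, 0, 3, 0, 2, 1, 2, 1, 3, 1, 1, 2, 1, 2, 1, 3, 1, 1, 2, 1, 2, 1, 3, 1, 1, 2, 1, 2, 1, 3, 1, 1, 2, 1, 2, 1, 3, 1, 1, 2, 1, 2, 1, 3, 1, 1, 2, 1, 2, 1, 3, 1, 1, 0, 2, 0, 3, 0, 3, 0, 0, 2, 0, 3, 0, 3, 0, 0, 2, 0, 3, 0, 3, 0, 0, 2, 0, 3, 0, 3, 0, 0])) (WT.node 194 (WT.leaf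 [2, 2, 0, 0, 3, 0, 3, 0, 2, 2, 0, 0, 3, 0, 3, 0, 2, 2, 0, 0, 3, 0, 3, 0, 2, 1, 2, 1, 2, 1, 1, 3, 3, 1, 2, 1, 2, 1, 1, 3, 3, 1, 2, 1, 2, 1, 1, 3, 3, 1, 2, 1, 2, 1, 1, 3, 3, 1, 2, 1, 2, 1, 1, 3, 0, 0, 3, 0, 3, 0, 2, 2, 0, 0, 3, 0, 3, 0]) (WT.node 195 (WT.leaf [2, 0, 3, 0, 3, 0, 0, 2, 0, 3, 0, 3, 0, 0, 2, 0, 3, 0, 3, 0, 0, 2, 0, 3, 0, 3, 0, 2, 1, 2, 1, 2, 1, 3, 1, 1, 2, 1, 2, 1, 3, 1, 1, 2, 1, 2, 1, 3, 1, 1, 2, 1, 2, 1, 3, 1, 1, 2, 1, 2, 1, 3, 1, 1, 2, 1, 2, 1, 3, 1, 1, 2, 1, 2, 1, 3, 1, 3, 0, 2, 0, 3, 0, 3, 0, 0, 2, 0, 3, 0, 3, 0, 0, 2, 0, 3, 0, 3, 0, 0]) (WT.leaf [2, 2, 0, 0, 3, 0, 3, 0, 2, 2, 0, 0, 3, 0, 3, 0, 2, 2, 0, 0,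 3, 0, 3, 0, 2, 2, 0, 3, 3, 1, 2, 1, 2, 1, 1, 3, 3, 1, 2, 1, 2, 1, 1, 3, 3, 1, 2, 1, 2, 1, 1, 3, 3, 1, 2, 1, 2, 1, 1, 3, 3, 1, 2, 1, 2, 1, 1, 1, 0, 0, 3, 0, 3, 0, 2, 2, 0, 0, 3, 0, 3, 0]))))) (WT.node 201 (WT.node 198 (WT.node 197 (WT.leaf [2, 0, 0, 3, 0, 3, 0, 2, 2, 0, 0, 3, 0, 3, 0, 2, 2, 0, 0, 3, 0, 3, 0, 2, 2, 0, 0, 3, 0, 3, 0, 2, 1, 2, 1, 2, 1, 1, 3, 3, 1, 2, 1, 2, 1, 1, 3, 3, 1, 2, 1, 2, 1, 1, 3, 3, 1, 2, 1, 2, 1, 1, 3, 3, 1, 2, 1, 2, 1, 1, 3, 0, 0, 3, 0, 3, 0, 2]) (WT.leaf [2, 0, 0, 3, 0, 3, 0, 2, 2, 0, 0, 3, 0, 3, 0, 2, 1, 2, 1, 2, 1, 1, 3, 3, 1, 2, 1, 2, 1, 1, 3, 3, 1, 2, 1, 2, 1, 1, 3, 3, 1, 2, 1, 2, 1, 1, 3, 3, 1,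 2, 1, 2, 1, 1, 3, 0, 0, 3, 0, 3, 0, 2, 2, 0, 0, 3, 0, 3, 0, 2, 2, 0, 0, 3, 0, 3, 0, 2])) (WT.node 199 (WT.leaf [2, 0, 3, 1, 3, 0, 2, 1, 2, 0, 3, 1, 3, 0, 2, 1, 2, 0, 3, 1, 3, 0, 2, 1, 2, 0, 3, 1, 3, 0, 2, 1, 2, 0, 3, 1, 3, 0, 2, 1, 2, 0, 3, 1, 3, 0, 2, 1, 2, 0, 3, 1, 3, 0, 2, 1, 2, 0, 3, 1, 3, 0, 2, 1, 2, 0, 3, 1, 3, 0, 2, 1, 2, 0, 3, 1, 1, 3, 0, 2, 1, 2, 0, 3, 1, 3, 0, 2, 1, 2, 0, 3, 1, 3, 0, 2, 1, 2, 0, 3, 1, 3, 0, 2, 1, 2, 0, 3, 1, 3, 0, 2, 1, 2, 0, 3, 1, 3, 0, 2, 1, 2, 0, 3, 1, 3, 0, 2, 1]) (WT.node 200 (WT.leaf [2, 2, 0, 0, 3, 0, 3, 0, 2, 2, 0, 0, 3, 0, 3, 0, 2, 2, 0, 3, 3, 1, 2, 1, 2, 1, 1, 3, 3, 1, 2, 1, 2, 1, 1, 3,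 3, 1, 2, 1, 2, 1, 1, 3, 3, 1, 2, 1, 2, 1, 1, 3, 3, 1, 2, 1, 2, 1, 1, 1, 0, 0, 3, 0, 3, 0, 2, 2, 0, 0, 3, 0, 3, 0, 2, 2, 0, 0, 3, 0, 3, 0]) (WT.leaf [2, 0, 3, 0, 3, 0, 0, 2, 0, 3, 0, 3, 0, 0, 2, 0, 3, 0, 3, 0, 0, 2, 0, 3, 0, 3, 0, 0, 2, 0, 3, 0, 3, 0, 0, 2, 0, 3, 0, 3, 0, 2, 1, 2, 1, 3, 1, 1, 2, 1, 2, 1, 3, 1, 1, 2, 1, 2, 1, 3, 1, 1, 2, 1, 2, 1, 3, 1, 1, 2, 1, 2, 1, 3, 1, 1, 2, 1, 2, 1, 3, 1, 1, 2, 1, 2, 1, 3, 1, 1, 0, 2, 0, 3, 0, 3, 0, 0])))) (WT.node 204 (WT.node 202 (WT.leaf [2, 2, 0, 0, 3, 0, 3, 0, 2, 2, 0, 3, 3, 1, 2, 1, 2, 1, 1, 3, 3, 1, 2, 1, 2, 1, 1, 3, 3, 1, 2, 1, 2, 1, 1, 3, 3, 1, 2, 1, 2, 1, 1, 3, 3, 1, 2, 1, 2,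 1, 1, 1, 0, 0, 3, 0, 3, 0, 2, 2, 0, 0, 3, 0, 3, 0, 2, 2, 0, 0, 3, 0, 3, 0, 2, 2, 0, 0, 3, 0, 3, 0]) (WT.node 203 (WT.leaf [2, 0, 3, 0, 3, 0, 0, 2, 0, 3, 0, 3, 0, 2, 1, 2, 1, 3, 1, 1, 2, 1, 2, 1, 3, 1, 1, 2, 1, 2, 1, 3, 1, 1, 2, 1, 2, 1, 3, 1, 1, 2, 1, 2, 1, 3, 1, 1, 2, 1, 2, 1, 3, 1, 1, 2, 1, 2, 1, 3, 1, 1, 0, 2, 0, 3, 0, 3, 0, 0, 2, 0, 3, 0, 3, 0, 0, 2, 0, 3, 0, 3, 0, 0, 2, 0, 3, 0, 3, 0, 0, 2, 0, 3, 0, 3, 0, 0]) (WT.leaf [2, 2, 0, 0, 3, 0, 3, 0, 2, 2, 0, 0, 3, 0, 3, 0, 2, 2, 0, 0, 3, 0, 3, 0, 2, 2, 0, 0, 3, 0, 3, 0, 2, 1, 2, 1, 2, 1, 1, 3, 3, 1, 2, 1, 2, 1, 1, 3, 3, 1, 2, 1, 2, 1, 1, 3, 3, 1, 2, 1, 2, 1, 1, 3, 3, 1, 2, 1,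 2, 1, 1, 3, 0, 0, 3, 0, 3, 0]))) (WT.node 205 (WT.leaf [2, 1, 3, 1, 1, 2, 1, 2, 1, 3, 1, 1, 2, 1, 2, 1, 3, 1, 1, 2, 1, 2, 1, 3, 1, 1, 0, 2, 0, 3, 0, 3, 0, 0, 2, 0, 3, 0, 3, 0, 0, 2, 0, 3, 0, 3, 0, 0, 2, 0, 3, 0, 3, 0, 0, 2, 0, 3, 0, 3, 0, 0, 2, 0, 3, 0, 3, 0, 0, 2, 0, 3, 0, 3, 0, 2, 1, 2, 1, 3, 1, 1, 2, 1, 2, 1, 3, 1, 1, 2, 1, 2, 1, 3, 1, 1, 2, 1]) (WT.node 206 (WT.leaf [2, 1, 2, 1, 1, 3, 3, 1, 2, 1, 2, 1, 1, 3, 3, 1, 2, 1, 2, 1, 1, 1, 0, 0, 3, 0, 3, 0, 2, 2, 0, 0, 3, 0, 3, 0, 2, 2, 0, 0, 3, 0, 3, 0, 2, 2, 0, 0, 3, 0, 3, 0, 2, 2, 0, 0, 3, 0, 3, 0, 2, 2, 0, 3, 3, 1, 2, 1, 2, 1, 1, 3, 3, 1, 2, 1, 2, 1, 1, 3, 3, 1]) (WT.leaf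 [2, 0, 3, 0, 3, 0, 2, 1, 2, 1, 3, 1, 1, 2, 1, 2, 1, 3, 1, 1, 2, 1, 2, 1, 3, 1, 1, 2, 1, 2, 1, 3, 1, 1, 2, 1, 2, 1, 3, 1, 1, 2, 1, 2, 1, 3, 1, 1, 2, 1, 2, 1, 3, 1, 1, 0, 2, 0, 3, 0, 3, 0, 0, 2, 0, 3, 0, 3, 0, 0, 2, 0, 3, 0, 3, 0, 0, 2, 0, 3, 0, 3, 0, 0, 2, 0, 3, 0, 3, 0, 0, 2, 0, 3, 0, 3, 0, 0]))))))) (WT.node 228 (WT.node 217 (WT.node 212 (WT.node 209 (WT.node 208 (WT.leaf [2, 1, 2, 0, 3, 1, 3, 0, 2, 1, 2, 0, 3, 1, 3, 0, 2, 1, 2, 0, 3, 1, 3, 0, 2, 1, 2, 0, 3, 1, 3, 0, 2, 1, 2, 0, 3, 1, 3, 0, 2, 1, 2, 0, 3, 1, 3, 0, 2, 1, 2, 0, 3, 1, 3, 0, 2, 1, 2, 0, 3, 1, 3, 0, 2, 1, 2, 0, 3, 1, 3, 0, 2, 1, 2, 0, 3, 1, 1, 3, 0, 2, 1, 2, 0,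 3, 1, 3, 0, 2, 1, 2, 0, 3, 1, 3, 0, 2, 1, 2, 0, 3, 1, 3, 0, 2, 1, 2, 0, 3, 1, 3, 0, 2, 1, 2, 0, 3, 1, 3, 0, 2, 1, 2, 0, 3, 1, 3, 0]) (WT.leaf [2, 0, 0, 3, 0, 3, 0, 2, 2, 0, 0, 3, 0, 3, 0, 2, 2, 0, 0, 3, 0, 3, 0, 2, 1, 2, 1, 2, 1, 1, 3, 3, 1, 2, 1, 2, 1, 1, 3, 3, 1, 2, 1, 2, 1, 1, 3, 3, 1, 2, 1, 2, 1, 1, 3, 3, 1, 2, 1, 2, 1, 1, 3, 0, 0, 3, 0, 3, 0, 2, 2, 0, 0, 3, 0, 3, 0, 2])) (WT.node 210 (WT.leaf [2, 0, 0, 3, 0, 3, 0, 2, 2, 0, 0, 3, 0, 3, 0, 2, 2, 0, 3, 3, 1, 2, 1, 2, 1, 1, 3, 3, 1, 2, 1, 2, 1, 1, 3, 3, 1, 2, 1, 2, 1, 1, 3, 3, 1, 2, 1, 2, 1, 1, 3, 3, 1, 2, 1, 2, 1, 1, 1, 0, 0, 3, 0, 3, 0, 2, 2, 0, 0, 3, 0, 3, 0, 2, 2, 0,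 0, 3, 0, 3, 0, 2]) (WT.node 211 (WT.leaf [2, 0, 0, 3, 0, 3, 0, 2, 2, 0, 3, 3, 1, 2, 1, 2, 1, 1, 3, 3, 1, 2, 1, 2, 1, 1, 3, 3, 1, 2, 1, 2, 1, 1, 3, 3, 1, 2, 1, 2, 1, 1, 3, 3, 1, 2, 1, 2, 1, 1, 1, 0, 0, 3, 0, 3, 0, 2, 2, 0, 0, 3, 0, 3, 0, 2, 2, 0, 0, 3, 0, 3, 0, 2, 2, 0, 0, 3, 0, 3, 0, 2]) (WT.leaf [2, 0, 3, 0, 3, 0, 0, 2, 0, 3, 0, 3, 0, 2, 1, 2, 1, 2, 1, 3, 1, 1, 2, 1, 2, 1, 3, 1, 1, 2, 1, 2, 1, 3, 1, 1, 2, 1, 2, 1, 3, 1, 1, 2, 1, 2, 1, 3, 1, 1, 2, 1, 2, 1, 3, 1, 1, 2, 1, 2, 1, 3, 1, 3, 0, 2, 0, 3, 0, 3, 0, 0, 2, 0, 3, 0, 3, 0, 0, 2, 0, 3, 0, 3, 0, 0, 2, 0, 3, 0, 3, 0, 0, 2, 0, 3, 0, 3, 0, 0])))) (WT.node 214 (WT.node 213 (WT.leaf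 [2, 0, 0, 3, 0, 3, 0, 2, 2, 0, 0, 3, 0, 3, 0, 2, 2, 0, 0, 3, 0, 3, 0, 2, 2, 0, 3, 3, 1, 2, 1, 2, 1, 1, 3, 3, 1, 2, 1, 2, 1, 1, 3, 3, 1, 2, 1, 2, 1, 1, 3, 3, 1, 2, 1, 2, 1, 1, 3, 3, 1, 2, 1, 2, 1, 1, 1, 0, 0, 3, 0, 3, 0, 2, 2, 0, 0, 3, 0, 3, 0, 2]) (WT.leaf [2, 0, 3, 0, 3, 0, 0, 2, 0, 3, 0, 3, 0, 0, 2, 0, 3, 0, 3, 0, 0, 2, 0, 3, 0, 3, 0, 0, 2, 0, 3, 0, 3, 0, 0, 2, 0, 3, 0, 3, 0, 0, 2, 0, 3, 0, 3, 0, 2, 1, 2, 1, 3, 1, 1, 2, 1, 2, 1, 3, 1, 1, 2, 1, 2, 1, 3, 1, 1, 2, 1, 2, 1, 3, 1, 1, 2, 1, 2, 1, 3, 1, 1, 2, 1, 2, 1, 3, 1, 1, 2, 1, 2, 1, 3, 1, 1, 0])) (WT.node 215 (WT.leaf [2, 1, 2, 1, 1, 3, 3, 1, 2, 1, 2, 1, 1, 3, 3, 1, 2, 1,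 2, 1, 1, 3, 3, 1, 2, 1, 2, 1, 1, 3, 3, 1, 2, 1, 2, 1, 1, 1, 0, 0, 3, 0, 3, 0, 2, 2, 0, 0, 3, 0, 3, 0, 2, 2, 0, 0, 3, 0, 3, 0, 2, 2, 0, 0, 3, 0, 3, 0, 2, 2, 0, 0, 3, 0, 3, 0, 2, 2, 0, 3, 3, 1]) (WT.node 216 (WT.leaf [2, 1, 2, 0, 3, 1, 3, 0, 2, 1, 2, 0, 3, 1, 3, 0, 2, 1, 2, 0, 3, 1, 3, 0, 2, 1, 2, 0, 3, 1, 3, 0, 2, 1, 2, 0, 3, 1, 3, 0, 2, 1, 2, 0, 3, 1, 3, 0, 2, 1, 2, 0, 3, 1, 3, 0, 2, 1, 2, 0, 3, 1, 3, 0, 2, 1, 2, 0, 3, 1, 3, 0, 2, 1, 2, 0, 3, 1, 3, 0, 2, 1, 2, 0, 3, 1, 3, 0, 2, 1, 2, 0, 3, 1, 3, 0, 2, 1, 2, 0, 3, 1, 3, 0, 2, 1, 2, 0, 3, 1, 3, 0, 2, 1, 2, 0, 3, 1, 1, 3, 0, 2, 1, 2, 0, 3, 1, 3, 0]) (WT.leaf [2, 0, 3, 0, 3, 0,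 0, 2, 0, 3, 0, 3, 0, 0, 2, 0, 3, 0, 3, 0, 0, 2, 0, 3, 0, 3, 0, 0, 2, 0, 3, 0, 3, 0, 0, 2, 0, 3, 0, 3, 0, 2, 1, 2, 1, 2, 1, 3, 1, 1, 2, 1, 2, 1, 3, 1, 1, 2, 1, 2, 1, 3, 1, 1, 2, 1, 2, 1, 3, 1, 1, 2, 1, 2, 1, 3, 1, 1, 2, 1, 2, 1, 3, 1, 1, 2, 1, 2, 1, 3, 1, 3, 0, 2, 0, 3, 0, 3, 0, 0]))))) (WT.node 222 (WT.node 219 (WT.node 218 (WT.leaf [2, 1, 2, 1, 1, 3, 3, 1, 2, 1, 2, 1, 1, 1, 0, 0, 3, 0, 3, 0, 2, 2, 0, 0, 3, 0, 3, 0, 2, 2, 0, 0, 3, 0, 3, 0, 2, 2, 0, 0, 3, 0, 3, 0, 2, 2, 0, 0, 3, 0, 3, 0, 2, 2, 0, 3, 3, 1, 2, 1, 2, 1, 1, 3, 3, 1, 2, 1, 2, 1, 1, 3, 3, 1, 2, 1, 2, 1, 1, 3, 3, 1]) (WT.leaf [2, 1, 1, 3, 3, 1, 2, 1, 2, 1, 1, 1, 0,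 0, 3, 0, 3, 0, 2, 2, 0, 0, 3, 0, 3, 0, 2, 2, 0, 0, 3, 0, 3, 0, 2, 2, 0, 0, 3, 0, 3, 0, 2, 2, 0, 0, 3, 0, 3, 0, 2, 2, 0, 3, 3, 1, 2, 1, 2, 1, 1, 3, 3, 1, 2, 1, 2, 1, 1, 3, 3, 1, 2, 1, 2, 1, 1, 3, 3, 1, 2, 1])) (WT.node 220 (WT.leaf [2, 0, 3, 0, 3, 0, 0, 2, 0, 3, 0, 3, 0, 0, 2, 0, 3, 0, 3, 0, 0, 2, 0, 3, 0, 3, 0, 0, 2, 0, 3, 0, 3, 0, 0, 2, 0, 3, 0, 3, 0, 0, 2, 0, 3, 0, 3, 0, 2, 1, 2, 1, 2, 1, 3, 1, 1, 2, 1, 2, 1, 3, 1, 1, 2, 1, 2, 1, 3, 1, 1, 2, 1, 2, 1, 3, 1, 1, 2, 1, 2, 1, 3, 1, 1, 2, 1, 2, 1, 3, 1, 1, 2, 1, 2, 1, 3, 1, 3, 0]) (WT.node 221 (WT.leaf [2, 0, 3, 0, 3, 0, 0, 2, 0, 3, 0, 3, 0, 0, 2, 0, 3, 0, 3, 0, 0, 2, 0, 3, 0,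 3, 0, 2, 1, 2, 1, 3, 1, 1, 2, 1, 2, 1, 3, 1, 1, 2, 1, 2, 1, 3, 1, 1, 2, 1, 2, 1, 3, 1, 1, 2, 1, 2, 1, 3, 1, 1, 2, 1, 2, 1, 3, 1, 1, 2, 1, 2, 1, 3, 1, 1, 0, 2, 0, 3, 0, 3, 0, 0, 2, 0, 3, 0, 3, 0, 0, 2, 0, 3, 0, 3, 0, 0]) (WT.leaf [2, 2, 0, 3, 3, 1, 2, 1, 2, 1, 1, 3, 3, 1, 2, 1, 2, 1, 1, 3, 3, 1, 2, 1, 2, 1, 1, 3, 3, 1, 2, 1, 2, 1, 1, 3, 3, 1, 2, 1, 2, 1, 1, 1, 0, 0, 3, 0, 3, 0, 2, 2, 0, 0, 3, 0, 3, 0, 2, 2, 0, 0, 3, 0, 3, 0, 2, 2, 0, 0, 3, 0, 3, 0, 2, 2, 0, 0, 3, 0, 3, 0])))) (WT.node 225 (WT.node 223 (WT.leaf [2, 1, 2, 1, 1, 3, 3, 1, 2, 1, 2, 1, 1, 3, 3, 1, 2, 1, 2, 1, 1, 3, 0, 0, 3, 0, 3, 0, 2, 2, 0, 0, 3, 0, 3, 0, 2, 2,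 0, 0, 3, 0, 3, 0, 2, 2, 0, 0, 3, 0, 3, 0, 2, 2, 0, 0, 3, 0, 3, 0, 2, 1, 2, 1, 2, 1, 1, 3, 3, 1, 2, 1, 2, 1, 1, 3, 3, 1]) (WT.node 224 (WT.leaf [2, 2, 0, 0, 3, 0, 3, 0, 2, 2, 0, 0, 3, 0, 3, 0, 2, 1, 2, 1, 2, 1, 1, 3, 3, 1, 2, 1, 2, 1, 1, 3, 3, 1, 2, 1, 2, 1, 1, 3, 3, 1, 2, 1, 2, 1, 1, 3, 3, 1, 2, 1, 2, 1, 1, 3, 0, 0, 3, 0, 3, 0, 2, 2, 0, 0, 3, 0, 3, 0, 2, 2, 0, 0, 3, 0, 3, 0]) (WT.leaf [2, 1, 2, 1, 1, 3, 0, 0, 3, 0, 3, 0, 2, 2, 0, 0, 3, 0, 3, 0, 2, 2, 0, 0, 3, 0, 3, 0, 2, 2, 0, 0, 3, 0, 3, 0, 2, 2, 0, 0, 3, 0, 3, 0, 2, 1, 2, 1, 2, 1, 1, 3, 3, 1, 2, 1, 2, 1, 1, 3, 3, 1, 2, 1, 2, 1, 1, 3, 3, 1, 2, 1, 2, 1, 1, 3, 3, 1]))) (WT.node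 226 (WT.leaf [2, 0, 3, 0, 3, 0, 0, 2, 0, 3, 0, 3, 0, 0, 2, 0, 3, 0, 3, 0, 0, 2, 0, 3, 0, 3, 0, 0, 2, 0, 3, 0, 3, 0, 2, 1, 2, 1, 3, 1, 1, 2, 1, 2, 1, 3, 1, 1, 2, 1, 2, 1, 3, 1, 1, 2, 1, 2, 1, 3, 1, 1, 2, 1, 2, 1, 3, 1, 1, 2, 1, 2, 1, 3, 1, 1, 2, 1, 2, 1, 3, 1, 1, 0, 2, 0, 3, 0, 3, 0, 0, 2, 0, 3, 0, 3, 0, 0]) (WT.node 227 (WT.leaf [2, 1, 2, 1, 1, 3, 3, 1, 2, 1, 2, 1, 1, 3, 3, 1, 2, 1, 2, 1, 1, 3, 3, 1, 2, 1, 2, 1, 1, 3, 0, 0, 3, 0, 3, 0, 2, 2, 0, 0, 3, 0, 3, 0, 2, 2, 0, 0, 3, 0, 3, 0, 2, 2, 0, 0, 3, 0, 3, 0, 2, 2, 0, 0, 3, 0, 3, 0, 2, 1, 2, 1, 2, 1, 1, 3, 3, 1]) (WT.leaf [2, 1, 2, 1, 3, 1, 1, 2, 1, 2, 1, 3, 1, 1, 2, 1, 2, 1,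 3, 1, 1, 2, 1, 2, 1, 3, 1, 1, 2, 1, 2, 1, 3, 1, 1, 2, 1, 2, 1, 3, 1, 1, 0, 2, 0, 3, 0, 3, 0, 0, 2, 0, 3, 0, 3, 0, 0, 2, 0, 3, 0, 3, 0, 0, 2, 0, 3, 0, 3, 0, 0, 2, 0, 3, 0, 3, 0, 0, 2, 0, 3, 0, 3, 0, 0, 2, 0, 3, 0, 3, 0, 2, 1, 2, 1, 3, 1, 1])))))) (WT.node 238 (WT.node 233 (WT.node 230 (WT.node 229 (WT.leaf [2, 1, 3, 1, 1, 2, 1, 2, 1, 3, 1, 1, 2, 1, 2, 1, 3, 1, 1, 2, 1, 2, 1, 3, 1, 1, 2, 1, 2, 1, 3, 1, 1, 2, 1, 2, 1, 3, 1, 1, 2, 1, 2, 1, 3, 1, 1, 0, 2, 0, 3, 0, 3, 0, 0, 2, 0, 3, 0, 3, 0, 0, 2, 0, 3, 0, 3, 0, 0, 2, 0, 3, 0, 3, 0, 0, 2, 0, 3, 0, 3, 0, 0, 2, 0, 3, 0, 3, 0, 0, 2, 0, 3, 0, 3, 0, 2, 1]) (WT.leaf [2, 0, 3, 0, 3, 0,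 2, 1, 2, 1, 2, 1, 3, 1, 1, 2, 1, 2, 1, 3, 1, 1, 2, 1, 2, 1, 3, 1, 1, 2, 1, 2, 1, 3, 1, 1, 2, 1, 2, 1, 3, 1, 1, 2, 1, 2, 1, 3, 1, 1, 2, 1, 2, 1, 3, 1, 3, 0, 2, 0, 3, 0, 3, 0, 0, 2, 0, 3, 0, 3, 0, 0, 2, 0, 3, 0, 3, 0, 0, 2, 0, 3, 0, 3, 0, 0, 2, 0, 3, 0, 3, 0, 0, 2, 0, 3, 0, 3, 0, 0])) (WT.node 231 (WT.leaf [2, 1, 3, 1, 1, 2, 1, 2, 1, 3, 1, 1, 2, 1, 2, 1, 3, 1, 1, 2, 1, 2, 1, 3, 1, 3, 0, 2, 0, 3, 0, 3, 0, 0, 2, 0, 3, 0, 3, 0, 0, 2, 0, 3, 0, 3, 0, 0, 2, 0, 3, 0, 3, 0, 0, 2, 0, 3, 0, 3, 0, 0, 2, 0, 3, 0, 3, 0, 0, 2, 0, 3, 0, 3, 0, 2, 1, 2, 1, 2, 1, 3, 1, 1, 2, 1, 2, 1, 3, 1, 1, 2, 1, 2, 1, 3, 1, 1, 2, 1]) (WT.node 232 (WT.leaf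 [2, 1, 2, 1, 3, 1, 1, 2, 1, 2, 1, 3, 1, 1, 2, 1, 2, 1, 3, 1, 1, 2, 1, 2, 1, 3, 1, 1, 2, 1, 2, 1, 3, 1, 1, 0, 2, 0, 3, 0, 3, 0, 0, 2, 0, 3, 0, 3, 0, 0, 2, 0, 3, 0, 3, 0, 0, 2, 0, 3, 0, 3, 0, 0, 2, 0, 3, 0, 3, 0, 0, 2, 0, 3, 0, 3, 0, 0, 2, 0, 3, 0, 3, 0, 2, 1, 2, 1, 3, 1, 1, 2, 1, 2, 1, 3, 1, 1]) (WT.leaf [2, 1, 2, 1, 2, 1, 1, 3, 3, 1, 2, 1, 2, 1, 1, 3, 3, 1, 2, 1, 2, 1, 1, 3, 3, 1, 2, 1, 2, 1, 1, 3, 3, 1, 2, 1, 2, 1, 1, 3, 0, 0, 3, 0, 3, 0, 2, 2, 0, 0, 3, 0, 3, 0, 2, 2, 0, 0, 3, 0, 3, 0, 2, 2, 0, 0, 3, 0, 3, 0, 2, 2, 0, 0, 3, 0, 3, 0])))) (WT.node 235 (WT.node 234 (WT.leaf [2, 1, 3, 1, 1, 2, 1, 2, 1, 3, 1, 1, 2, 1, 2, 1, 3,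 1, 1, 0, 2, 0, 3, 0, 3, 0, 0, 2, 0, 3, 0, 3, 0, 0, 2, 0, 3, 0, 3, 0, 0, 2, 0, 3, 0, 3, 0, 0, 2, 0, 3, 0, 3, 0, 0, 2, 0, 3, 0, 3, 0, 0, 2, 0, 3, 0, 3, 0, 2, 1, 2, 1, 3, 1, 1, 2, 1, 2, 1, 3, 1, 1, 2, 1, 2, 1, 3, 1, 1, 2, 1, 2, 1, 3, 1, 1, 2, 1]) (WT.leaf [2, 2, 0, 0, 3, 0, 3, 0, 2, 1, 2, 1, 2, 1, 1, 3, 3, 1, 2, 1, 2, 1, 1, 3, 3, 1, 2, 1, 2, 1, 1, 3, 3, 1, 2, 1, 2, 1, 1, 3, 3, 1, 2, 1, 2, 1, 1, 3, 0, 0, 3, 0, 3, 0, 2, 2, 0, 0, 3, 0, 3, 0, 2, 2, 0, 0, 3, 0, 3, 0, 2, 2, 0, 0, 3, 0, 3, 0])) (WT.node 236 (WT.leaf [2, 1, 2, 1, 2, 1, 3, 1, 1, 2, 1, 2, 1, 3, 1, 1, 2, 1, 2, 1, 3, 1, 1, 2, 1, 2, 1, 3, 1, 1, 2, 1, 2, 1, 3, 1, 1, 2, 1,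 2, 1, 3, 1, 1, 2, 1, 2, 1, 3, 1, 3, 0, 2, 0, 3, 0, 3, 0, 0, 2, 0, 3, 0, 3, 0, 0, 2, 0, 3, 0, 3, 0, 0, 2, 0, 3, 0, 3, 0, 0, 2, 0, 3, 0, 3, 0, 0, 2, 0, 3, 0, 3, 0, 0, 2, 0, 3, 0, 3, 0]) (WT.node 237 (WT.leaf [2, 1, 1, 3, 3, 1, 2, 1, 2, 1, 1, 3, 3, 1, 2, 1, 2, 1, 1, 3, 3, 1, 2, 1, 2, 1, 1, 3, 3, 1, 2, 1, 2, 1, 1, 1, 0, 0, 3, 0, 3, 0, 2, 2, 0, 0, 3, 0, 3, 0, 2, 2, 0, 0, 3, 0, 3, 0, 2, 2, 0, 0, 3, 0, 3, 0, 2, 2, 0, 0, 3, 0, 3, 0, 2, 2, 0, 3, 3, 1, 2, 1]) (WT.leaf [2, 1, 1, 1, 0, 0, 3, 0, 3, 0, 2, 2, 0, 0, 3, 0, 3, 0, 2, 2, 0, 0, 3, 0, 3, 0, 2, 2, 0, 0, 3, 0, 3, 0, 2, 2, 0, 0, 3, 0, 3, 0, 2, 2, 0, 3, 3, 1, 2, 1, 2, 1, 1, 3, 3, 1,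 2, 1, 2, 1, 1, 3, 3, 1, 2, 1, 2, 1, 1, 3, 3, 1, 2, 1, 2, 1, 1, 3, 3, 1, 2, 1]))))) (WT.node 243 (WT.node 240 (WT.node 239 (WT.leaf [2, 1, 3, 1, 1, 2, 1, 2, 1, 3, 1, 1, 2, 1, 2, 1, 3, 1, 1, 2, 1, 2, 1, 3, 1, 1, 2, 1, 2, 1, 3, 1, 1, 2, 1, 2, 1, 3, 1, 1, 0, 2, 0, 3, 0, 3, 0, 0, 2, 0, 3, 0, 3, 0, 0, 2, 0, 3, 0, 3, 0, 0, 2, 0, 3, 0, 3, 0, 0, 2, 0, 3, 0, 3, 0, 0, 2, 0, 3, 0, 3, 0, 0, 2, 0, 3, 0, 3, 0, 2, 1, 2, 1, 3, 1, 1, 2, 1]) (WT.leaf [2, 1, 3, 1, 1, 2, 1, 2, 1, 3, 1, 1, 2, 1, 2, 1, 3, 1, 3, 0, 2, 0, 3, 0, 3, 0, 0, 2, 0, 3, 0, 3, 0, 0, 2, 0, 3, 0, 3, 0, 0, 2, 0, 3, 0, 3, 0, 0, 2, 0, 3, 0, 3, 0, 0, 2, 0, 3, 0, 3, 0, 0, 2, 0, 3,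 0, 3, 0, 2, 1, 2, 1, 2, 1, 3, 1, 1, 2, 1, 2, 1, 3, 1, 1, 2, 1, 2, 1, 3, 1, 1, 2, 1, 2, 1, 3, 1, 1, 2, 1])) (WT.node 241 (WT.leaf [3, 0, 0, 3, 0, 2, 1, 1, 2, 1, 1, 0]) (WT.node 242 (WT.leaf [3, 0, 2, 2, 0, 0, 3, 0, 3, 0, 2, 2, 0, 0, 3, 0, 3, 0, 2, 2, 0, 0, 3, 0, 3, 0, 2, 2, 0, 0, 3, 0, 3, 0, 2, 2, 0, 3, 3, 1, 2, 1, 2, 1, 1, 3, 3, 1, 2, 1, 2, 1, 1, 3, 3, 1, 2, 1, 2, 1, 1, 3, 3, 1, 2, 1, 2, 1, 1, 3, 3, 1, 2, 1, 2, 1, 1, 1, 0, 0, 3, 0]) (WT.leaf [3, 0, 0, 2, 0, 3, 0, 3, 0, 0, 2, 0, 3, 0, 3, 0, 0, 2, 0, 3, 0, 3, 0, 0, 2, 0, 3, 0, 3, 0, 0, 2, 0, 3, 0, 3, 0, 0, 2, 0, 3, 0, 3, 0, 2, 1, 2, 1, 3, 1, 1, 2, 1, 2, 1, 3, 1, 1, 2, 1, 2,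 1, 3, 1, 1, 2, 1, 2, 1, 3, 1, 1, 2, 1, 2, 1, 3, 1, 1, 2, 1, 2, 1, 3, 1, 1, 2, 1, 2, 1, 3, 1, 1, 0, 2, 0, 3, 0])))) (WT.node 246 (WT.node 244 (WT.leaf [3, 1, 1, 2, 1, 2, 1, 3, 1, 1, 0, 2, 0, 3, 0, 3, 0, 0, 2, 0, 3, 0, 3, 0, 0, 2, 0, 3, 0, 3, 0, 0, 2, 0, 3, 0, 3, 0, 0, 2, 0, 3, 0, 3, 0, 0, 2, 0, 3, 0, 3, 0, 0, 2, 0, 3, 0, 3, 0, 2, 1, 2, 1, 3, 1, 1, 2, 1, 2, 1, 3, 1, 1, 2, 1, 2, 1, 3, 1, 1, 2, 1, 2, 1, 3, 1, 1, 2, 1, 2, 1, 3, 1, 1, 2, 1, 2, 1]) (WT.node 245 (WT.leaf [3, 0, 3, 0, 0, 3, 0, 2, 1, 2, 1, 1, 2, 1]) (WT.leaf [3, 0, 0, 3, 0, 2, 1, 2, 1, 1, 2, 1, 3, 0]))) (WT.node 247 (WT.leaf [3, 1, 2, 1, 2, 1, 1, 1, 0, 0, 3, 0, 3, 0,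 2, 2, 0, 0, 3, 0, 3, 0, 2, 2, 0, 0, 3, 0, 3, 0, 2, 2, 0, 0, 3, 0, 3, 0, 2, 2, 0, 0, 3, 0, 3, 0, 2, 2, 0, 3, 3, 1, 2, 1, 2, 1, 1, 3, 3, 1, 2, 1, 2, 1, 1, 3, 3, 1, 2, 1, 2, 1, 1, 3, 3, 1, 2, 1, 2, 1, 1, 3]) (WT.node 248 (WT.leaf [3, 0, 2, 1, 2, 0, 3, 1, 3, 0, 2, 1, 2, 0, 3, 1, 3, 0, 2, 1, 2, 0, 3, 1, 3, 0, 2, 1, 2, 0, 3, 1, 3, 0, 2, 1, 2, 0, 3, 1, 3, 0, 2, 1, 2, 0, 3, 1, 3, 0, 2, 1, 2, 0, 3, 1, 3, 0, 2, 1, 2, 0, 3, 1, 3, 0, 2, 1, 2, 0, 3, 1, 3, 0, 2, 1, 2, 0, 3, 1, 3, 0, 2, 1, 2, 0, 3, 1, 3, 0, 2, 1, 2, 0, 3, 1, 3, 0, 2, 1, 2, 0, 3, 1, 3, 0, 2, 1, 2, 0, 3, 1, 3, 0, 2, 1, 2, 0, 3, 1, 3, 0, 2, 1, 2, 0, 3, 1, 1]) (WT.leaf [3, 0,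 2, 1, 1, 2, 1, 1, 0, 3, 0, 0])))))))) (WT.node 291 (WT.node 270 (WT.node 259 (WT.node 254 (WT.node 251 (WT.node 250 (WT.leaf [3, 0, 3, 0, 3, 0, 3, 1, 2, 1, 2, 1, 2, 1, 2, 0]) (WT.leaf [3, 1, 2, 1, 2, 1, 2, 1, 2, 0, 3, 0, 3, 0, 3, 0])) (WT.node 252 (WT.leaf [3, 0, 3, 1, 2, 1, 2, 1, 2, 1, 2, 0, 3, 0, 3, 0]) (WT.node 253 (WT.leaf [3, 0, 3, 0, 3, 1, 2, 1, 2, 1, 2, 1, 2, 0, 3, 0]) (WT.leaf [3, 3, 3, 3, 1, 2, 1, 2, 0, 3, 0, 3, 1, 2, 1, 2, 0, 3, 0, 3, 1, 2, 1, 2, 0, 3, 0, 3, 1, 2, 1, 2, 0, 3, 0, 3, 1, 2, 1, 2, 0, 3, 0, 3, 1, 2, 1, 2, 0, 3, 0, 3, 1, 2, 1, 2, 0, 3, 0, 3, 1, 2, 1, 2, 0, 3, 0, 3, 3])))) (WT.node 256 (WT.node 255 (WT.leaf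 [3, 0, 2, 1, 2, 1, 1, 2, 1, 3, 0, 3, 0, 0]) (WT.leaf [3, 1, 2, 1, 2, 0, 3, 0, 3, 1, 2, 1, 2, 0, 3, 0, 3, 1, 2, 1, 2, 0, 3, 0, 3, 1, 2, 1, 2, 0, 3, 0, 3, 3, 3, 3, 3, 3, 1, 2, 1, 2, 0, 3, 0, 3, 1, 2, 1, 2, 0, 3, 0, 3, 1, 2, 1, 2, 0, 3, 0, 3, 1, 2, 1, 2, 0, 3, 0])) (WT.node 257 (WT.leaf [3, 1, 3, 0, 2, 1, 2, 0, 3, 1, 3, 0, 2, 1, 2, 0, 3, 1, 3, 0, 2, 1, 2, 0, 3, 1, 3, 0, 2, 1, 2, 0, 3, 1, 3, 0, 2, 1, 2, 0, 3, 1, 3, 0, 2, 1, 2, 0, 3, 1, 3, 0, 2, 1, 2, 0, 3, 1, 3, 0, 2, 1, 2, 0, 3, 1, 3, 0, 2, 1, 2, 0, 3, 1, 3, 0, 2, 1, 2, 0, 3, 1, 3, 0, 2, 1, 2, 0, 3, 1, 3, 0, 2, 1, 2, 0, 3, 1, 3, 0, 2, 1, 2, 0, 3, 1, 3, 0, 2, 1, 2, 0, 3, 1, 3,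 0, 2, 1, 2, 0, 3, 1, 1, 3, 0, 2, 1, 2, 0]) (WT.node 258 (WT.leaf [3, 3, 1, 2, 1, 2, 1, 1, 3, 3, 1, 2, 1, 2, 1, 1, 3, 3, 1, 2, 1, 2, 1, 1, 1, 0, 0, 3, 0, 3, 0, 2, 2, 0, 0, 3, 0, 3, 0, 2, 2, 0, 0, 3, 0, 3, 0, 2, 2, 0, 0, 3, 0, 3, 0, 2, 2, 0, 0, 3, 0, 3, 0, 2, 2, 0, 3, 3, 1, 2, 1, 2, 1, 1, 3, 3, 1, 2, 1, 2, 1, 1]) (WT.leaf [3, 0, 2, 2, 0, 0, 3, 0, 3, 0, 2, 2, 0, 0, 3, 0, 3, 0, 2, 1, 2, 1, 2, 1, 1, 3, 3, 1, 2, 1, 2, 1, 1, 3, 3, 1, 2, 1, 2, 1, 1, 3, 3, 1, 2, 1, 2, 1, 1, 3, 3, 1, 2, 1, 2, 1, 1, 3, 0, 0, 3, 0, 3, 0, 2, 2, 0, 0, 3, 0, 3, 0, 2, 2, 0, 0, 3, 0]))))) (WT.node 264 (WT.node 261 (WT.node 260 (WT.leaf [3, 1, 2, 1, 2, 1, 1,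 3, 3, 1, 2, 1, 2, 1, 1, 3, 3, 1, 2, 1, 2, 1, 1, 1, 0, 0, 3, 0, 3, 0, 2, 2, 0, 0, 3, 0, 3, 0, 2, 2, 0, 0, 3, 0, 3, 0, 2, 2, 0, 0, 3, 0, 3, 0, 2, 2, 0, 0, 3, 0, 3, 0, 2, 2, 0, 3, 3, 1, 2, 1, 2, 1, 1, 3, 3, 1, 2, 1, 2, 1, 1, 3]) (WT.leaf [3, 3, 1, 2, 1, 2, 1, 1, 3, 0, 0, 3, 0, 3, 0, 2, 2, 0, 0, 3, 0, 3, 0, 2, 2, 0, 0, 3, 0, 3, 0, 2, 2, 0, 0, 3, 0, 3, 0, 2, 2, 0, 0, 3, 0, 3, 0, 2, 1, 2, 1, 2, 1, 1, 3, 3, 1, 2, 1, 2, 1, 1, 3, 3, 1, 2, 1, 2, 1, 1, 3, 3, 1, 2, 1, 2, 1, 1])) (WT.node 262 (WT.leaf [3, 3, 1, 2, 1, 2, 1, 1, 3, 3, 1, 2, 1, 2, 1, 1, 3, 3, 1, 2, 1, 2, 1, 1, 3, 3, 1, 2, 1, 2, 1, 1, 3, 3, 1, 2, 1, 2, 1, 1, 1, 0, 0, 3, 0,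 3, 0, 2, 2, 0, 0, 3, 0, 3, 0, 2, 2, 0, 0, 3, 0, 3, 0, 2, 2, 0, 0, 3, 0, 3, 0, 2, 2, 0, 0, 3, 0, 3, 0, 2, 2, 0]) (WT.node 263 (WT.leaf [3, 1, 1, 2, 1, 2, 1, 3, 1, 1, 2, 1, 2, 1, 3, 1, 1, 0, 2, 0, 3, 0, 3, 0, 0, 2, 0, 3, 0, 3, 0, 0, 2, 0, 3, 0, 3, 0, 0, 2, 0, 3, 0, 3, 0, 0, 2, 0, 3, 0, 3, 0, 0, 2, 0, 3, 0, 3, 0, 0, 2, 0, 3, 0, 3, 0, 2, 1, 2, 1, 3, 1, 1, 2, 1, 2, 1, 3, 1, 1, 2, 1, 2, 1, 3, 1, 1, 2, 1, 2, 1, 3, 1, 1, 2, 1, 2, 1]) (WT.leaf [3, 1, 2, 1, 2, 1, 1, 3, 3, 1, 2, 1, 2, 1, 1, 3, 3, 1, 2, 1, 2, 1, 1, 3, 0, 0, 3, 0, 3, 0, 2, 2, 0, 0, 3, 0, 3, 0, 2, 2, 0, 0, 3, 0, 3, 0, 2, 2, 0, 0, 3, 0, 3, 0, 2, 2, 0, 0, 3, 0, 3, 0, 2, 1,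 2, 1, 2, 1, 1, 3, 3, 1, 2, 1, 2, 1, 1, 3])))) (WT.node 267 (WT.node 265 (WT.leaf [3, 3, 1, 2, 1, 2, 1, 1, 3, 3, 1, 2, 1, 2, 1, 1, 3, 0, 0, 3, 0, 3, 0, 2, 2, 0, 0, 3, 0, 3, 0, 2, 2, 0, 0, 3, 0, 3, 0, 2, 2, 0, 0, 3, 0, 3, 0, 2, 2, 0, 0, 3, 0, 3, 0, 2, 1, 2, 1, 2, 1, 1, 3, 3, 1, 2, 1, 2, 1, 1, 3, 3, 1, 2, 1, 2, 1, 1]) (WT.node 266 (WT.leaf [3, 1, 2, 1, 2, 1, 1, 3, 3, 1, 2, 1, 2, 1, 1, 3, 3, 1, 2, 1, 2, 1, 1, 3, 3, 1, 2, 1, 2, 1, 1, 1, 0, 0, 3, 0, 3, 0, 2, 2, 0, 0, 3, 0, 3, 0, 2, 2, 0, 0, 3, 0, 3, 0, 2, 2, 0, 0, 3, 0, 3, 0, 2, 2, 0, 0, 3, 0, 3, 0, 2, 2, 0, 3, 3, 1, 2, 1, 2, 1, 1, 3]) (WT.leaf [3, 1, 2, 1, 2, 1, 1, 3, 0, 0, 3,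 0, 3, 0, 2, 2, 0, 0, 3, 0, 3, 0, 2, 2, 0, 0, 3, 0, 3, 0, 2, 2, 0, 0, 3, 0, 3, 0, 2, 2, 0, 0, 3, 0, 3, 0, 2, 1, 2, 1, 2, 1, 1, 3, 3, 1, 2, 1, 2, 1, 1, 3, 3, 1, 2, 1, 2, 1, 1, 3, 3, 1, 2, 1, 2, 1, 1, 3]))) (WT.node 268 (WT.leaf [3, 1, 2, 1, 2, 1, 1, 3, 3, 1, 2, 1, 2, 1, 1, 3, 3, 1, 2, 1, 2, 1, 1, 3, 3, 1, 2, 1, 2, 1, 1, 3, 0, 0, 3, 0, 3, 0, 2, 2, 0, 0, 3, 0, 3, 0, 2, 2, 0, 0, 3, 0, 3, 0, 2, 2, 0, 0, 3, 0, 3, 0, 2, 2, 0, 0, 3, 0, 3, 0, 2, 1, 2, 1, 2, 1, 1, 3]) (WT.node 269 (WT.leaf [3, 3, 1, 2, 1, 2, 1, 1, 3, 3, 1, 2, 1, 2, 1, 1, 3, 3, 1, 2, 1, 2, 1, 1, 3, 0, 0, 3, 0, 3, 0, 2, 2, 0, 0, 3, 0, 3, 0, 2, 2, 0, 0, 3, 0, 3, 0, 2, 2,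 0, 0, 3, 0, 3, 0, 2, 2, 0, 0, 3, 0, 3, 0, 2, 1, 2, 1, 2, 1, 1, 3, 3, 1, 2, 1, 2, 1, 1]) (WT.leaf [3, 1, 3, 0, 2, 1, 2, 0, 3, 1, 3, 0, 2, 1, 2, 0, 3, 1, 3, 0, 2, 1, 2, 0, 3, 1, 3, 0, 2, 1, 2, 0, 3, 1, 3, 0, 2, 1, 2, 0, 3, 1, 3, 0, 2, 1, 2, 0, 3, 1, 3, 0, 2, 1, 2, 0, 3, 1, 3, 0, 2, 1, 2, 0, 3, 1, 3, 0, 2, 1, 2, 0, 3, 1, 1, 3, 0, 2, 1, 2, 0, 3, 1, 3, 0, 2, 1, 2, 0, 3, 1, 3, 0, 2, 1, 2, 0, 3, 1, 3, 0, 2, 1, 2, 0, 3, 1, 3, 0, 2, 1, 2, 0, 3, 1, 3, 0, 2, 1, 2, 0, 3, 1, 3, 0, 2, 1, 2, 0])))))) (WT.node 280 (WT.node 275 (WT.node 272 (WT.node 271 (WT.leaf [3, 1, 2, 1, 2, 1, 1, 3, 3, 1, 2, 1, 2, 1, 1, 3, 0, 0, 3, 0, 3, 0, 2, 2, 0, 0,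 3, 0, 3, 0, 2, 2, 0, 0, 3, 0, 3, 0, 2, 2, 0, 0, 3, 0, 3, 0, 2, 2, 0, 0, 3, 0, 3, 0, 2, 1, 2, 1, 2, 1, 1, 3, 3, 1, 2, 1, 2, 1, 1, 3, 3, 1, 2, 1, 2, 1, 1, 3]) (WT.leaf [3, 1, 1, 2, 1, 2, 1, 3, 1, 1, 2, 1, 2, 1, 3, 1, 1, 2, 1, 2, 1, 3, 1, 1, 0, 2, 0, 3, 0, 3, 0, 0, 2, 0, 3, 0, 3, 0, 0, 2, 0, 3, 0, 3, 0, 0, 2, 0, 3, 0, 3, 0, 0, 2, 0, 3, 0, 3, 0, 0, 2, 0, 3, 0, 3, 0, 0, 2, 0, 3, 0, 3, 0, 2, 1, 2, 1, 3, 1, 1, 2, 1, 2, 1, 3, 1, 1, 2, 1, 2, 1, 3, 1, 1, 2, 1, 2, 1])) (WT.node 273 (WT.leaf [3, 1, 2, 1, 2, 1, 1, 3, 3, 1, 2, 1, 2, 1, 1, 1, 0, 0, 3, 0, 3, 0, 2, 2, 0, 0, 3, 0, 3, 0, 2, 2, 0, 0, 3, 0, 3, 0, 2, 2, 0, 0, 3, 0, 3, 0, 2, 2,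 0, 0, 3, 0, 3, 0, 2, 2, 0, 3, 3, 1, 2, 1, 2, 1, 1, 3, 3, 1, 2, 1, 2, 1, 1, 3, 3, 1, 2, 1, 2, 1, 1, 3]) (WT.node 274 (WT.leaf [3, 3, 1, 2, 1, 2, 1, 1, 3, 3, 1, 2, 1, 2, 1, 1, 3, 3, 1, 2, 1, 2, 1, 1, 3, 3, 1, 2, 1, 2, 1, 1, 1, 0, 0, 3, 0, 3, 0, 2, 2, 0, 0, 3, 0, 3, 0, 2, 2, 0, 0, 3, 0, 3, 0, 2, 2, 0, 0, 3, 0, 3, 0, 2, 2, 0, 0, 3, 0, 3, 0, 2, 2, 0, 3, 3, 1, 2, 1, 2, 1, 1]) (WT.leaf [3, 1, 1, 2, 1, 2, 1, 3, 1, 1, 2, 1, 2, 1, 3, 1, 1, 2, 1, 2, 1, 3, 1, 1, 2, 1, 2, 1, 3, 1, 1, 0, 2, 0, 3, 0, 3, 0, 0, 2, 0, 3, 0, 3, 0, 0, 2, 0, 3, 0, 3, 0, 0, 2, 0, 3, 0, 3, 0, 0, 2, 0, 3, 0, 3, 0, 0, 2, 0, 3, 0, 3, 0, 0, 2, 0, 3, 0, 3, 0, 2, 1, 2,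 1, 3, 1, 1, 2, 1, 2, 1, 3, 1, 1, 2, 1, 2, 1])))) (WT.node 277 (WT.node 276 (WT.leaf [3, 0, 3, 0, 0, 2, 0, 3, 0, 3, 0, 0, 2, 0, 3, 0, 3, 0, 0, 2, 0, 3, 0, 3, 0, 0, 2, 0, 3, 0, 3, 0, 2, 1, 2, 1, 3, 1, 1, 2, 1, 2, 1, 3, 1, 1, 2, 1, 2, 1, 3, 1, 1, 2, 1, 2, 1, 3, 1, 1, 2, 1, 2, 1, 3, 1, 1, 2, 1, 2, 1, 3, 1, 1, 2, 1, 2, 1, 3, 1, 1, 0, 2, 0, 3, 0, 3, 0, 0, 2, 0, 3, 0, 3, 0, 0, 2, 0]) (WT.leaf [3, 1, 2, 1, 2, 1, 1, 3, 3, 1, 2, 1, 2, 1, 1, 3, 3, 1, 2, 1, 2, 1, 1, 3, 3, 1, 2, 1, 2, 1, 1, 3, 3, 1, 2, 1, 2, 1, 1, 1, 0, 0, 3, 0, 3, 0, 2, 2, 0, 0, 3, 0, 3, 0, 2, 2, 0, 0, 3, 0, 3, 0, 2, 2, 0, 0, 3, 0, 3, 0, 2, 2, 0, 0, 3, 0, 3, 0, 2, 2,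 0, 3])) (WT.node 278 (WT.leaf [3, 1, 1, 2, 1, 2, 1, 3, 1, 1, 2, 1, 2, 1, 3, 1, 1, 2, 1, 2, 1, 3, 1, 1, 2, 1, 2, 1, 3, 1, 1, 2, 1, 2, 1, 3, 1, 1, 2, 1, 2, 1, 3, 1, 1, 0, 2, 0, 3, 0, 3, 0, 0, 2, 0, 3, 0, 3, 0, 0, 2, 0, 3, 0, 3, 0, 0, 2, 0, 3, 0, 3, 0, 0, 2, 0, 3, 0, 3, 0, 0, 2, 0, 3, 0, 3, 0, 0, 2, 0, 3, 0, 3, 0, 2, 1, 2, 1]) (WT.node 279 (WT.leaf [3, 0, 2, 0, 3, 0, 3, 0, 0, 2, 0, 3, 0, 3, 0, 0, 2, 0, 3, 0, 3, 0, 0, 2, 0, 3, 0, 3, 0, 0, 2, 0, 3, 0, 3, 0, 0, 2, 0, 3, 0, 3, 0, 0, 2, 0, 3, 0, 3, 0, 2, 1, 2, 1, 2, 1, 3, 1, 1, 2, 1, 2, 1, 3, 1, 1, 2, 1, 2, 1, 3, 1, 1, 2, 1, 2, 1, 3, 1, 1, 2, 1, 2, 1, 3, 1, 1, 2, 1, 2, 1, 3, 1, 1,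 2, 1, 2, 1, 3, 1]) (WT.leaf [3, 1, 1, 0, 2, 0, 3, 0, 3, 0, 0, 2, 0, 3, 0, 3, 0, 0, 2, 0, 3, 0, 3, 0, 0, 2, 0, 3, 0, 3, 0, 0, 2, 0, 3, 0, 3, 0, 0, 2, 0, 3, 0, 3, 0, 0, 2, 0, 3, 0, 3, 0, 2, 1, 2, 1, 3, 1, 1, 2, 1, 2, 1, 3, 1, 1, 2, 1, 2, 1, 3, 1, 1, 2, 1, 2, 1, 3, 1, 1, 2, 1, 2, 1, 3, 1, 1, 2, 1, 2, 1, 3, 1, 1, 2, 1, 2, 1]))))) (WT.node 285 (WT.node 282 (WT.node 281 (WT.leaf [3, 0, 3, 0, 2, 1, 2, 1, 2, 1, 1, 3, 3, 1, 2, 1, 2, 1, 1, 3, 3, 1, 2, 1, 2, 1, 1, 3, 3, 1, 2, 1, 2, 1, 1, 3, 3, 1, 2, 1, 2, 1, 1, 3, 0, 0, 3, 0, 3, 0, 2, 2, 0, 0, 3, 0, 3, 0, 2, 2, 0, 0, 3, 0, 3, 0, 2, 2, 0, 0, 3, 0, 3, 0, 2, 2, 0, 0]) (WT.leaf [3, 3, 1,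 2, 1, 2, 1, 1, 3, 3, 1, 2, 1, 2, 1, 1, 3, 3, 1, 2, 1, 2, 1, 1, 3, 3, 1, 2, 1, 2, 1, 1, 3, 0, 0, 3, 0, 3, 0, 2, 2, 0, 0, 3, 0, 3, 0, 2, 2, 0, 0, 3, 0, 3, 0, 2, 2, 0, 0, 3, 0, 3, 0, 2, 2, 0, 0, 3, 0, 3, 0, 2, 1, 2, 1, 2, 1, 1])) (WT.node 283 (WT.leaf [3, 0, 3, 0, 0, 2, 0, 3, 0, 3, 0, 0, 2, 0, 3, 0, 3, 0, 2, 1, 2, 1, 3, 1, 1, 2, 1, 2, 1, 3, 1, 1, 2, 1, 2, 1, 3, 1, 1, 2, 1, 2, 1, 3, 1, 1, 2, 1, 2, 1, 3, 1, 1, 2, 1, 2, 1, 3, 1, 1, 2, 1, 2, 1, 3, 1, 1, 0, 2, 0, 3, 0, 3, 0, 0, 2, 0, 3, 0, 3, 0, 0, 2, 0, 3, 0, 3, 0, 0, 2, 0, 3, 0, 3, 0, 0, 2, 0]) (WT.node 284 (WT.leaf [3, 0, 3, 0, 0, 2, 0, 3, 0, 3, 0, 0, 2, 0, 3, 0, 3, 0, 0, 2, 0,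 3, 0, 3, 0, 0, 2, 0, 3, 0, 3, 0, 0, 2, 0, 3, 0, 3, 0, 0, 2, 0, 3, 0, 3, 0, 2, 1, 2, 1, 3, 1, 1, 2, 1, 2, 1, 3, 1, 1, 2, 1, 2, 1, 3, 1, 1, 2, 1, 2, 1, 3, 1, 1, 2, 1, 2, 1, 3, 1, 1, 2, 1, 2, 1, 3, 1, 1, 2, 1, 2, 1, 3, 1, 1, 0, 2, 0]) (WT.leaf [3, 3, 1, 2, 1, 2, 1, 1, 1, 0, 0, 3, 0, 3, 0, 2, 2, 0, 0, 3, 0, 3, 0, 2, 2, 0, 0, 3, 0, 3, 0, 2, 2, 0, 0, 3, 0, 3, 0, 2, 2, 0, 0, 3, 0, 3, 0, 2, 2, 0, 3, 3, 1, 2, 1, 2, 1, 1, 3, 3, 1, 2, 1, 2, 1, 1, 3, 3, 1, 2, 1, 2, 1, 1, 3, 3, 1, 2, 1, 2, 1, 1])))) (WT.node 288 (WT.node 286 (WT.leaf [3, 1, 1, 2, 1, 2, 1, 3, 1, 3, 0, 2, 0, 3, 0, 3, 0, 0, 2, 0, 3, 0, 3, 0, 0, 2, 0, 3, 0, 3, 0, 0, 2, 0,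 3, 0, 3, 0, 0, 2, 0, 3, 0, 3, 0, 0, 2, 0, 3, 0, 3, 0, 0, 2, 0, 3, 0, 3, 0, 2, 1, 2, 1, 2, 1, 3, 1, 1, 2, 1, 2, 1, 3, 1, 1, 2, 1, 2, 1, 3, 1, 1, 2, 1, 2, 1, 3, 1, 1, 2, 1, 2, 1, 3, 1, 1, 2, 1, 2, 1]) (WT.node 287 (WT.leaf [3, 0, 2, 2, 0, 0, 3, 0, 3, 0, 2, 1, 2, 1, 2, 1, 1, 3, 3, 1, 2, 1, 2, 1, 1, 3, 3, 1, 2, 1, 2, 1, 1, 3, 3, 1, 2, 1, 2, 1, 1, 3, 3, 1, 2, 1, 2, 1, 1, 3, 0, 0, 3, 0, 3, 0, 2, 2, 0, 0, 3, 0, 3, 0, 2, 2, 0, 0, 3, 0, 3, 0, 2, 2, 0, 0, 3, 0]) (WT.leaf [3, 3, 1, 2, 1, 2, 1, 1, 3, 3, 1, 2, 1, 2, 1, 1, 1, 0, 0, 3, 0, 3, 0, 2, 2, 0, 0, 3, 0, 3, 0, 2, 2, 0, 0, 3, 0, 3, 0, 2, 2, 0, 0, 3, 0, 3, 0, 2, 2, 0, 0, 3, 0, 3, 0,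 2, 2, 0, 3, 3, 1, 2, 1, 2, 1, 1, 3, 3, 1, 2, 1, 2, 1, 1, 3, 3, 1, 2, 1, 2, 1, 1]))) (WT.node 289 (WT.leaf [3, 0, 0, 3, 0, 3, 0, 2, 2, 0, 0, 3, 0, 3, 0, 2, 2, 0, 0, 3, 0, 3, 0, 2, 2, 0, 0, 3, 0, 3, 0, 2, 2, 0, 0, 3, 0, 3, 0, 2, 1, 2, 1, 2, 1, 1, 3, 3, 1, 2, 1, 2, 1, 1, 3, 3, 1, 2, 1, 2, 1, 1, 3, 3, 1, 2, 1, 2, 1, 1, 3, 3, 1, 2, 1, 2, 1, 1]) (WT.node 290 (WT.leaf [3, 1, 1, 2, 1, 2, 1, 3, 1, 1, 2, 1, 2, 1, 3, 1, 1, 2, 1, 2, 1, 3, 1, 1, 2, 1, 2, 1, 3, 1, 1, 2, 1, 2, 1, 3, 1, 1, 2, 1, 2, 1, 3, 1, 3, 0, 2, 0, 3, 0, 3, 0, 0, 2, 0, 3, 0, 3, 0, 0, 2, 0, 3, 0, 3, 0, 0, 2, 0, 3, 0, 3, 0, 0, 2, 0, 3, 0, 3, 0, 0, 2, 0, 3, 0, 3, 0, 0, 2,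 0, 3, 0, 3, 0, 2, 1, 2, 1, 2, 1]) (WT.leaf [3, 1, 1, 2, 1, 2, 1, 3, 1, 1, 2, 1, 2, 1, 3, 1, 3, 0, 2, 0, 3, 0, 3, 0, 0, 2, 0, 3, 0, 3, 0, 0, 2, 0, 3, 0, 3, 0, 0, 2, 0, 3, 0, 3, 0, 0, 2, 0, 3, 0, 3, 0, 0, 2, 0, 3, 0, 3, 0, 0, 2, 0, 3, 0, 3, 0, 2, 1, 2, 1, 2, 1, 3, 1, 1, 2, 1, 2, 1, 3, 1, 1, 2, 1, 2, 1, 3, 1, 1, 2, 1, 2, 1, 3, 1, 1, 2, 1, 2, 1]))))))) (WT.node 312 (WT.node 301 (WT.node 296 (WT.node 293 (WT.node 292 (WT.leaf [3, 0, 0, 2, 0, 3, 0, 3, 0, 0, 2, 0, 3, 0, 3, 0, 0, 2, 0, 3, 0, 3, 0, 0, 2, 0, 3, 0, 3, 0, 2, 1, 2, 1, 2, 1, 3, 1, 1, 2, 1, 2, 1, 3, 1, 1, 2, 1, 2, 1, 3, 1, 1, 2, 1, 2, 1, 3, 1, 1, 2, 1, 2, 1, 3, 1, 1, 2,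 1, 2, 1, 3, 1, 1, 2, 1, 2, 1, 3, 1, 3, 0, 2, 0, 3, 0, 3, 0, 0, 2, 0, 3, 0, 3, 0, 0, 2, 0, 3, 0]) (WT.leaf [3, 1, 1, 2, 1, 2, 1, 3, 1, 1, 2, 1, 2, 1, 3, 1, 1, 2, 1, 2, 1, 3, 1, 1, 2, 1, 2, 1, 3, 1, 1, 2, 1, 2, 1, 3, 1, 1, 0, 2, 0, 3, 0, 3, 0, 0, 2, 0, 3, 0, 3, 0, 0, 2, 0, 3, 0, 3, 0, 0, 2, 0, 3, 0, 3, 0, 0, 2, 0, 3, 0, 3, 0, 0, 2, 0, 3, 0, 3, 0, 0, 2, 0, 3, 0, 3, 0, 2, 1, 2, 1, 3, 1, 1, 2, 1, 2, 1])) (WT.node 294 (WT.leaf [3, 1, 3, 0, 2, 0, 3, 0, 3, 0, 0, 2, 0, 3, 0, 3, 0, 0, 2, 0, 3, 0, 3, 0, 0, 2, 0, 3, 0, 3, 0, 0, 2, 0, 3, 0, 3, 0, 0, 2, 0, 3, 0, 3, 0, 0, 2, 0, 3, 0, 3, 0, 2, 1, 2, 1, 2, 1, 3, 1, 1, 2, 1, 2, 1, 3, 1, 1,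 2, 1, 2, 1, 3, 1, 1, 2, 1, 2, 1, 3, 1, 1, 2, 1, 2, 1, 3, 1, 1, 2, 1, 2, 1, 3, 1, 1, 2, 1, 2, 1]) (WT.node 295 (WT.leaf [3, 1, 1, 2, 1, 2, 1, 3, 1, 1, 2, 1, 2, 1, 3, 1, 1, 2, 1, 2, 1, 3, 1, 1, 2, 1, 2, 1, 3, 1, 3, 0, 2, 0, 3, 0, 3, 0, 0, 2, 0, 3, 0, 3, 0, 0, 2, 0, 3, 0, 3, 0, 0, 2, 0, 3, 0, 3, 0, 0, 2, 0, 3, 0, 3, 0, 0, 2, 0, 3, 0, 3, 0, 0, 2, 0, 3, 0, 3, 0, 2, 1, 2, 1, 2, 1, 3, 1, 1, 2, 1, 2, 1, 3, 1, 1, 2, 1, 2, 1]) (WT.leaf [3, 0, 3, 0, 2, 2, 0, 0, 3, 0, 3, 0, 2, 2, 0, 0, 3, 0, 3, 0, 2, 2, 0, 0, 3, 0, 3, 0, 2, 2, 0, 0, 3, 0, 3, 0, 2, 2, 0, 3, 3, 1, 2, 1, 2, 1, 1, 3, 3, 1, 2, 1, 2, 1, 1, 3, 3, 1, 2, 1, 2, 1, 1, 3, 3, 1, 2,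 1, 2, 1, 1, 3, 3, 1, 2, 1, 2, 1, 1, 1, 0, 0])))) (WT.node 298 (WT.node 297 (WT.leaf [3, 0, 3, 0, 0, 2, 0, 3, 0, 3, 0, 0, 2, 0, 3, 0, 3, 0, 0, 2, 0, 3, 0, 3, 0, 2, 1, 2, 1, 2, 1, 3, 1, 1, 2, 1, 2, 1, 3, 1, 1, 2, 1, 2, 1, 3, 1, 1, 2, 1, 2, 1, 3, 1, 1, 2, 1, 2, 1, 3, 1, 1, 2, 1, 2, 1, 3, 1, 1, 2, 1, 2, 1, 3, 1, 3, 0, 2, 0, 3, 0, 3, 0, 0, 2, 0, 3, 0, 3, 0, 0, 2, 0, 3, 0, 3, 0, 0, 2, 0]) (WT.leaf [3, 0, 0, 2, 0, 3, 0, 3, 0, 0, 2, 0, 3, 0, 3, 0, 0, 2, 0, 3, 0, 3, 0, 2, 1, 2, 1, 2, 1, 3, 1, 1, 2, 1, 2, 1, 3, 1, 1, 2, 1, 2, 1, 3, 1, 1, 2, 1, 2, 1, 3, 1, 1, 2, 1, 2, 1, 3, 1, 1, 2, 1, 2, 1, 3, 1, 1, 2, 1, 2, 1, 3, 1, 3, 0, 2, 0, 3,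 0, 3, 0, 0, 2, 0, 3, 0, 3, 0, 0, 2, 0, 3, 0, 3, 0, 0, 2, 0, 3, 0])) (WT.node 299 (WT.leaf [3, 0, 2, 2, 0, 0, 3, 0, 3, 0, 2, 2, 0, 3, 3, 1, 2, 1, 2, 1, 1, 3, 3, 1, 2, 1, 2, 1, 1, 3, 3, 1, 2, 1, 2, 1, 1, 3, 3, 1, 2, 1, 2, 1, 1, 3, 3, 1, 2, 1, 2, 1, 1, 1, 0, 0, 3, 0, 3, 0, 2, 2, 0, 0, 3, 0, 3, 0, 2, 2, 0, 0, 3, 0, 3, 0, 2, 2, 0, 0, 3, 0]) (WT.node 300 (WT.leaf [3, 0, 2, 1, 2, 1, 3, 1, 1, 2, 1, 2, 1, 3, 1, 1, 2, 1, 2, 1, 3, 1, 1, 2, 1, 2, 1, 3, 1, 1, 2, 1, 2, 1, 3, 1, 1, 2, 1, 2, 1, 3, 1, 1, 2, 1, 2, 1, 3, 1, 1, 0, 2, 0, 3, 0, 3, 0, 0, 2, 0, 3, 0, 3, 0, 0, 2, 0, 3, 0, 3, 0, 0, 2, 0, 3, 0, 3, 0, 0, 2, 0, 3, 0, 3, 0, 0, 2, 0, 3,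 0, 3, 0, 0, 2, 0, 3, 0]) (WT.leaf [3, 0, 3, 0, 2, 1, 2, 1, 2, 1, 3, 1, 1, 2, 1, 2, 1, 3, 1, 1, 2, 1, 2, 1, 3, 1, 1, 2, 1, 2, 1, 3, 1, 1, 2, 1, 2, 1, 3, 1, 1, 2, 1, 2, 1, 3, 1, 1, 2, 1, 2, 1, 3, 1, 3, 0, 2, 0, 3, 0, 3, 0, 0, 2, 0, 3, 0, 3, 0, 0, 2, 0, 3, 0, 3, 0, 0, 2, 0, 3, 0, 3, 0, 0, 2, 0, 3, 0, 3, 0, 0, 2, 0, 3, 0, 3, 0, 0, 2, 0]))))) (WT.node 306 (WT.node 303 (WT.node 302 (WT.leaf [0, 3, 0, 0, 3, 0, 2, 1, 1, 2, 1, 1]) (WT.leaf [1, 2, 1, 2, 1, 3, 1, 1, 2, 1, 2, 1, 3, 1, 1, 2, 1, 2, 1, 3, 1, 1, 2, 1, 2, 1, 3, 1, 1, 2, 1, 2, 1, 3, 1, 1, 2, 1, 2, 1, 3, 1, 1, 2, 1, 2, 1, 3, 1, 3, 0, 2, 0, 3, 0, 3, 0, 0, 2, 0, 3, 0, 3, 0, 0,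 2, 0, 3, 0, 3, 0, 0, 2, 0, 3, 0, 3, 0, 0, 2, 0, 3, 0, 3, 0, 0, 2, 0, 3, 0, 3, 0, 0, 2, 0, 3, 0, 3, 0, 2])) (WT.node 304 (WT.leaf [3, 1, 2, 1, 2, 0, 3, 0, 3, 1, 2, 1, 2, 0, 3, 0, 3, 1, 2, 1, 2, 0, 3, 0, 3, 1, 2, 1, 2, 0, 3, 0, 3, 1, 2, 1, 2, 0, 3, 0, 3, 1, 2, 1, 2, 0, 3, 0, 3, 1, 2, 1, 2, 0, 3, 0, 3, 1, 2, 1, 2, 0, 3, 0, 3, 3, 3, 3, 3]) (WT.node 305 (WT.leaf [1, 0, 3, 0, 0, 3, 0, 2, 1, 1, 2, 1]) (WT.leaf [0, 3, 0, 3, 1, 2, 1, 2, 0, 3, 0, 3, 1, 2, 1, 2, 0, 3, 0, 3, 1, 2, 1, 2, 0, 3, 0, 3, 1, 2, 1, 2, 0, 3, 0, 3, 3, 3, 3, 3, 3, 1, 2, 1, 2, 0, 3, 0, 3, 1, 2, 1, 2, 0, 3, 0, 3, 1, 2, 1, 2, 0, 3, 0, 3, 1, 2, 1, 2])))) (WT.node 309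 (WT.node 307 (WT.leaf [0, 2, 0, 3, 0, 3, 0, 0, 2, 0, 3, 0, 3, 0, 0, 2, 0, 3, 0, 3, 0, 0, 2, 0, 3, 0, 3, 0, 0, 2, 0, 3, 0, 3, 0, 0, 2, 0, 3, 0, 3, 0, 0, 2, 0, 3, 0, 3, 0, 2, 1, 2, 1, 3, 1, 1, 2, 1, 2, 1, 3, 1, 1, 2, 1, 2, 1, 3, 1, 1, 2, 1, 2, 1, 3, 1, 1, 2, 1, 2, 1, 3, 1, 1, 2, 1, 2, 1, 3, 1, 1, 2, 1, 2, 1, 3, 1, 1]) (WT.node 308 (WT.leaf [3, 0, 3, 0, 2, 2, 0, 0, 3, 0, 3, 0, 2, 2, 0, 0, 3, 0, 3, 0, 2, 1, 2, 1, 2, 1, 1, 3, 3, 1, 2, 1, 2, 1, 1, 3, 3, 1, 2, 1, 2, 1, 1, 3, 3, 1, 2, 1, 2, 1, 1, 3, 3, 1, 2, 1, 2, 1, 1, 3, 0, 0, 3, 0, 3, 0, 2, 2, 0, 0, 3, 0, 3, 0, 2, 2, 0, 0]) (WT.leaf [3, 0, 3, 0, 0, 2, 0, 3, 0, 3, 0, 2, 1, 2, 1,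 2, 1, 3, 1, 1, 2, 1, 2, 1, 3, 1, 1, 2, 1, 2, 1, 3, 1, 1, 2, 1, 2, 1, 3, 1, 1, 2, 1, 2, 1, 3, 1, 1, 2, 1, 2, 1, 3, 1, 1, 2, 1, 2, 1, 3, 1, 3, 0, 2, 0, 3, 0, 3, 0, 0, 2, 0, 3, 0, 3, 0, 0, 2, 0, 3, 0, 3, 0, 0, 2, 0, 3, 0, 3, 0, 0, 2, 0, 3, 0, 3, 0, 0, 2, 0]))) (WT.node 310 (WT.leaf [0, 3, 0, 3, 1, 2, 1, 2, 0, 3, 0, 3, 1, 2, 1, 2, 0, 3, 0, 3, 1, 2, 1, 2, 0, 3, 0, 3, 1, 2, 1, 2, 0, 3, 0, 3, 1, 2, 1, 2, 0, 3, 0, 3, 1, 2, 1, 2, 0, 3, 0, 3, 3, 3, 3, 3, 3, 1, 2, 1, 2, 0, 3, 0, 3, 1, 2, 1, 2]) (WT.node 311 (WT.leaf [2, 0, 3, 0, 3, 1, 2, 1, 2, 0, 3, 0, 3, 1, 2, 1, 2, 0, 3, 0, 3, 3, 3, 3, 3, 3, 1, 2, 1, 2, 0, 3, 0, 3, 1, 2, 1, 2, 0, 3,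 0, 3, 1, 2, 1, 2, 0, 3, 0, 3, 1, 2, 1, 2, 0, 3, 0, 3, 1, 2, 1, 2, 0, 3, 0, 3, 1, 2, 1]) (WT.leaf [0, 3, 0, 3, 1, 2, 1, 2, 0, 3, 0, 3, 1, 2, 1, 2, 0, 3, 0, 3, 3, 3, 3, 3, 3, 1, 2, 1, 2, 0, 3, 0, 3, 1, 2, 1, 2, 0, 3, 0, 3, 1, 2, 1, 2, 0, 3, 0, 3, 1, 2, 1, 2, 0, 3, 0, 3, 1, 2, 1, 2, 0, 3, 0, 3, 1, 2, 1, 2])))))) (WT.node 322 (WT.node 317 (WT.node 314 (WT.node 313 (WT.leaf [1, 2, 1, 2, 0, 3, 0, 3, 1, 2, 1, 2, 0, 3, 0, 3, 1, 2, 1, 2, 0, 3, 0, 3, 1, 2, 1, 2, 0, 3, 0, 3, 3, 3, 3, 3, 3, 1, 2, 1, 2, 0, 3, 0, 3, 1, 2, 1, 2, 0, 3, 0, 3, 1, 2, 1, 2, 0, 3, 0, 3, 1, 2, 1, 2, 0, 3, 0, 3]) (WT.leaf [2, 1, 2, 1, 3, 1, 1, 2, 1, 2, 1, 3, 1,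 1, 2, 1, 2, 1, 3, 1, 1, 2, 1, 2, 1, 3, 1, 1, 2, 1, 2, 1, 3, 1, 1, 2, 1, 2, 1, 3, 1, 1, 2, 1, 2, 1, 3, 1, 3, 0, 2, 0, 3, 0, 3, 0, 0, 2, 0, 3, 0, 3, 0, 0, 2, 0, 3, 0, 3, 0, 0, 2, 0, 3, 0, 3, 0, 0, 2, 0, 3, 0, 3, 0, 0, 2, 0, 3, 0, 3, 0, 0, 2, 0, 3, 0, 3, 0, 2, 1])) (WT.node 315 (WT.leaf [2, 0, 3, 0, 3, 1, 2, 1, 2, 0, 3, 0, 3, 1, 2, 1, 2, 0, 3, 0, 3, 1, 2, 1, 2, 0, 3, 0, 3, 1, 2, 1, 2, 0, 3, 0, 3, 1, 2, 1, 2, 0, 3, 0, 3, 3, 3, 3, 3, 3, 1, 2, 1, 2, 0, 3, 0, 3, 1, 2, 1, 2, 0, 3, 0, 3, 1, 2, 1]) (WT.node 316 (WT.leaf [3, 1, 1, 2, 1, 2, 1, 3, 1, 1, 2, 1, 2, 1, 3, 1, 1, 2, 1, 2, 1, 3, 1, 3, 0, 2, 0, 3, 0, 3, 0, 0, 2, 0, 3, 0, 3, 0,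 0, 2, 0, 3, 0, 3, 0, 0, 2, 0, 3, 0, 3, 0, 0, 2, 0, 3, 0, 3, 0, 0, 2, 0, 3, 0, 3, 0, 0, 2, 0, 3, 0, 3, 0, 2, 1, 2, 1, 2, 1, 3, 1, 1, 2, 1, 2, 1, 3, 1, 1, 2, 1, 2, 1, 3, 1, 1, 2, 1, 2, 1]) (WT.leaf [1, 3, 1, 3, 0, 2, 0, 3, 0, 3, 0, 0, 2, 0, 3, 0, 3, 0, 0, 2, 0, 3, 0, 3, 0, 0, 2, 0, 3, 0, 3, 0, 0, 2, 0, 3, 0, 3, 0, 0, 2, 0, 3, 0, 3, 0, 0, 2, 0, 3, 0, 3, 0, 2, 1, 2, 1, 2, 1, 3, 1, 1, 2, 1, 2, 1, 3, 1, 1, 2, 1, 2, 1, 3, 1, 1, 2, 1, 2, 1, 3, 1, 1, 2, 1, 2, 1, 3, 1, 1, 2, 1, 2, 1, 3, 1, 1, 2, 1, 2])))) (WT.node 319 (WT.node 318 (WT.leaf [2, 1, 1, 3, 3, 1, 2, 1, 2, 1, 1, 3, 3, 1, 2, 1, 2, 1, 1, 3, 3, 1, 2, 1, 2, 1, 1, 1, 0, 0, 3,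 0, 3, 0, 2, 2, 0, 0, 3, 0, 3, 0, 2, 2, 0, 0, 3, 0, 3, 0, 2, 2, 0, 0, 3, 0, 3, 0, 2, 2, 0, 0, 3, 0, 3, 0, 2, 2, 0, 3, 3, 1, 2, 1, 2, 1, 1, 3, 3, 1, 2, 1]) (WT.leaf [3, 0, 3, 0, 2, 2, 0, 0, 3, 0, 3, 0, 2, 2, 0, 0, 3, 0, 3, 0, 2, 2, 0, 0, 3, 0, 3, 0, 2, 1, 2, 1, 2, 1, 1, 3, 3, 1, 2, 1, 2, 1, 1, 3, 3, 1, 2, 1, 2, 1, 1, 3, 3, 1, 2, 1, 2, 1, 1, 3, 3, 1, 2, 1, 2, 1, 1, 3, 0, 0, 3, 0, 3, 0, 2, 2, 0, 0])) (WT.node 320 (WT.leaf [0, 3, 0, 3, 0, 2, 2, 0, 0, 3, 0, 3, 0, 2, 2, 0, 0, 3, 0, 3, 0, 2, 2, 0, 0, 3, 0, 3, 0, 2, 1, 2, 1, 2, 1, 1, 3, 3, 1, 2, 1, 2, 1, 1, 3, 3, 1, 2, 1, 2, 1, 1, 3, 3, 1, 2, 1, 2, 1, 1, 3, 3, 1, 2, 1, 2, 1, 1, 3,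 0, 0, 3, 0, 3, 0, 2, 2, 0]) (WT.node 321 (WT.leaf [0, 2, 0, 3, 0, 3, 0, 0, 2, 0, 3, 0, 3, 0, 0, 2, 0, 3, 0, 3, 0, 0, 2, 0, 3, 0, 3, 0, 0, 2, 0, 3, 0, 3, 0, 0, 2, 0, 3, 0, 3, 0, 2, 1, 2, 1, 2, 1, 3, 1, 1, 2, 1, 2, 1, 3, 1, 1, 2, 1, 2, 1, 3, 1, 1, 2, 1, 2, 1, 3, 1, 1, 2, 1, 2, 1, 3, 1, 1, 2, 1, 2, 1, 3, 1, 1, 2, 1, 2, 1, 3, 1, 3, 0, 2, 0, 3, 0, 3, 0]) (WT.leaf [2, 1, 2, 0, 3, 0, 3, 1, 2, 1, 2, 0, 3, 0, 3, 1, 2, 1, 2, 0, 3, 0, 3, 1, 2, 1, 2, 0, 3, 0, 3, 1, 2, 1, 2, 0, 3, 0, 3, 1, 2, 1, 2, 0, 3, 0, 3, 1, 2, 1, 2, 0, 3, 0, 3, 3, 3, 3, 3, 3, 1, 2, 1, 2, 0, 3, 0, 3, 1]))))) (WT.node 327 (WT.node 324 (WT.node 323 (WT.leaf [2, 1, 3,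 1, 1, 2, 1, 2, 1, 3, 1, 1, 0, 2, 0, 3, 0, 3, 0, 0, 2, 0, 3, 0, 3, 0, 0, 2, 0, 3, 0, 3, 0, 0, 2, 0, 3, 0, 3, 0, 0, 2, 0, 3, 0, 3, 0, 0, 2, 0, 3, 0, 3, 0, 0, 2, 0, 3, 0, 3, 0, 2, 1, 2, 1, 3, 1, 1, 2, 1, 2, 1, 3, 1, 1, 2, 1, 2, 1, 3, 1, 1, 2, 1, 2, 1, 3, 1, 1, 2, 1, 2, 1, 3, 1, 1, 2, 1]) (WT.leaf [3, 0, 3, 0, 0, 2, 0, 3, 0, 3, 0, 0, 2, 0, 3, 0, 3, 0, 2, 1, 2, 1, 2, 1, 3, 1, 1, 2, 1, 2, 1, 3, 1, 1, 2, 1, 2, 1, 3, 1, 1, 2, 1, 2, 1, 3, 1, 1, 2, 1, 2, 1, 3, 1, 1, 2, 1, 2, 1, 3, 1, 1, 2, 1, 2, 1, 3, 1, 3, 0, 2, 0, 3, 0, 3, 0, 0, 2, 0, 3, 0, 3, 0, 0, 2, 0, 3, 0, 3, 0, 0, 2, 0, 3, 0, 3, 0, 0, 2, 0])) (WT.node 325 (WT.leaf [0, 3, 0,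 3, 1, 2, 1, 2, 0, 3, 0, 3, 1, 2, 1, 2, 0, 3, 0, 3, 1, 2, 1, 2, 0, 3, 0, 3, 3, 3, 3, 3, 3, 1, 2, 1, 2, 0, 3, 0, 3, 1, 2, 1, 2, 0, 3, 0, 3, 1, 2, 1, 2, 0, 3, 0, 3, 1, 2, 1, 2, 0, 3, 0, 3, 1, 2, 1, 2]) (WT.node 326 (WT.leaf [1, 3, 3, 1, 2, 1, 2, 1, 1, 3, 3, 1, 2, 1, 2, 1, 1, 3, 3, 1, 2, 1, 2, 1, 1, 3, 0, 0, 3, 0, 3, 0, 2, 2, 0, 0, 3, 0, 3, 0, 2, 2, 0, 0, 3, 0, 3, 0, 2, 2, 0, 0, 3, 0, 3, 0, 2, 2, 0, 0, 3, 0, 3, 0, 2, 1, 2, 1, 2, 1, 1, 3, 3, 1, 2, 1, 2, 1]) (WT.leaf [2, 1, 1, 3, 3, 1, 2, 1, 2, 1, 1, 3, 3, 1, 2, 1, 2, 1, 1, 1, 0, 0, 3, 0, 3, 0, 2, 2, 0, 0, 3, 0, 3, 0, 2, 2, 0, 0, 3, 0, 3, 0, 2, 2, 0, 0, 3, 0, 3, 0, 2, 2, 0, 0, 3,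 0, 3, 0, 2, 2, 0, 3, 3, 1, 2, 1, 2, 1, 1, 3, 3, 1, 2, 1, 2, 1, 1, 3, 3, 1, 2, 1])))) (WT.node 330 (WT.node 328 (WT.leaf [2, 0, 3, 0, 3, 0, 0, 2, 0, 3, 0, 3, 0, 0, 2, 0, 3, 0, 3, 0, 0, 2, 0, 3, 0, 3, 0, 0, 2, 0, 3, 0, 3, 0, 2, 1, 2, 1, 2, 1, 3, 1, 1, 2, 1, 2, 1, 3, 1, 1, 2, 1, 2, 1, 3, 1, 1, 2, 1, 2, 1, 3, 1, 1, 2, 1, 2, 1, 3, 1, 1, 2, 1, 2, 1, 3, 1, 1, 2, 1, 2, 1, 3, 1, 3, 0, 2, 0, 3, 0, 3, 0, 0, 2, 0, 3, 0, 3, 0, 0]) (WT.node 329 (WT.leaf [3, 0, 3, 0, 2, 2, 0, 0, 3, 0, 3, 0, 2, 2, 0, 3, 3, 1, 2, 1, 2, 1, 1, 3, 3, 1, 2, 1, 2, 1, 1, 3, 3, 1, 2, 1, 2, 1, 1, 3, 3, 1, 2, 1, 2, 1, 1, 3, 3, 1, 2, 1, 2, 1, 1, 1, 0, 0, 3, 0, 3, 0,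 2, 2, 0, 0, 3, 0, 3, 0, 2, 2, 0, 0, 3, 0, 3, 0, 2, 2, 0, 0]) (WT.leaf [2, 0, 3, 0, 3, 1, 2, 1, 2, 0, 3, 0, 3, 3, 3, 3, 3, 3, 1, 2, 1, 2, 0, 3, 0, 3, 1, 2, 1, 2, 0, 3, 0, 3, 1, 2, 1, 2, 0, 3, 0, 3, 1, 2, 1, 2, 0, 3, 0, 3, 1, 2, 1, 2, 0, 3, 0, 3, 1, 2, 1, 2, 0, 3, 0, 3, 1, 2, 1]))) (WT.node 331 (WT.leaf [0, 3, 0, 2, 1, 2, 1, 2, 1, 1, 3, 3, 1, 2, 1, 2, 1, 1, 3, 3, 1, 2, 1, 2, 1, 1, 3, 3, 1, 2, 1, 2, 1, 1, 3, 3, 1, 2, 1, 2, 1, 1, 3, 0, 0, 3, 0, 3, 0, 2, 2, 0, 0, 3, 0, 3, 0, 2, 2, 0, 0, 3, 0, 3, 0, 2, 2, 0, 0, 3, 0, 3, 0, 2, 2, 0, 0, 3]) (WT.node 332 (WT.leaf [0, 3, 0, 0, 2, 0, 3, 0, 3, 0, 0, 2, 0, 3, 0, 3, 0, 0, 2, 0, 3, 0, 3,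 0, 0, 2, 0, 3, 0, 3, 0, 0, 2, 0, 3, 0, 3, 0, 0, 2, 0, 3, 0, 3, 0, 2, 1, 2, 1, 3, 1, 1, 2, 1, 2, 1, 3, 1, 1, 2, 1, 2, 1, 3, 1, 1, 2, 1, 2, 1, 3, 1, 1, 2, 1, 2, 1, 3, 1, 1, 2, 1, 2, 1, 3, 1, 1, 2, 1, 2, 1, 3, 1, 1, 0, 2, 0, 3]) (WT.leaf [1, 3, 3, 1, 2, 1, 2, 1, 1, 3, 3, 1, 2, 1, 2, 1, 1, 3, 3, 1, 2, 1, 2, 1, 1, 3, 3, 1, 2, 1, 2, 1, 1, 3, 0, 0, 3, 0, 3, 0, 2, 2, 0, 0, 3, 0, 3, 0, 2, 2, 0, 0, 3, 0, 3, 0, 2, 2, 0, 0, 3, 0, 3, 0, 2, 2, 0, 0, 3, 0, 3, 0, 2, 1, 2, 1, 2, 1]))))))))))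

/-- The sources of the rotated relators: relator and rotation. -/
def rotSrc : List (ℕ × ℕ) := [(0, 4), (6, 12), (4, 5), (8, 2), (4, 2), (2, 1), (5, 2), (4, 3), (6, 14), (2, 5), (5, 3), (5, 5), (3, 5), (6, 8), (8, 6), (10, 5), (5, 0), (2, 121), (6, 10), (2, 9), (10, 29), (8, 7), (11, 0), (9, 30), (10, 21), (9, 14), (10, 24), (9, 37), (10, 32), (11, 17), (9, 0), (10, 16), (8, 16), (10, 40), (10, 8), (11, 16), (11, 24), (9, 25), (11, 32), (9, 44), (8, 14), (9, 2), (11, 33), (11, 37), (10, 9), (11, 13), (2, 49), (8, 30), (10, 33), (11, 21), (11, 29), (9, 35), (11, 25), (8, 35), (8, 9), (8, 44), (8, 23), (10, 13), (8, 37), (8,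 27), (9, 11), (8, 21), (11, 1), (8, 11), (11, 5), (11, 8), (9, 41), (8, 48), (10, 17), (8, 28), (8, 18), (9, 21), (10, 37), (9, 28), (8, 42), (9, 48), (10, 3), (9, 42), (6, 0), (4, 8), (4, 7), (2, 128), (3, 1), (5, 9), (11, 39), (4, 10), (3, 9), (9, 54), (6, 4), (6, 6), (5, 12), (2, 3), (5, 7), (2, 91), (5, 10), (6, 2), (2, 11), (2, 99), (2, 19), (2, 123), (9, 98), (10, 55), (11, 76), (10, 56), (8, 78), (10, 51), (10, 59), (8, 87), (8, 82), (10, 63), (9, 68), (8, 66), (9, 71), (11, 63), (10, 48), (11, 51), (8, 61), (10, 67), (10, 72), (10, 43), (2, 51), (11, 67), (2, 75), (11, 60), (11, 68), (10, 75), (9, 84), (8, 52), (8,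 94), (10, 77), (9, 56), (10, 61), (8, 69), (8, 62), (11, 55), (11, 73), (8, 54), (8, 89), (9, 61), (10, 64), (10, 53), (10, 45), (8, 90), (11, 71), (8, 75), (9, 57), (9, 75), (8, 68), (11, 47), (9, 63), (8, 55), (8, 76), (9, 70), (8, 59), (8, 80), (11, 57), (8, 83), (8, 50), (11, 41), (8, 57), (9, 89), (8, 96), (9, 64), (9, 82), (8, 71), (10, 79), (2, 2), (3, 4), (6, 7), (1, 6), (4, 6), (6, 1), (9, 53), (10, 6), (6, 3), (6, 5), (5, 11), (10, 7), (5, 8), (4, 9), (5, 6), (8, 49), (10, 39), (11, 40), (2, 4), (3, 36), (3, 12), (2, 122), (3, 28), (2, 20), (10, 52), (11, 31), (8, 29), (11, 14), (9, 22), (10, 14), (11, 7), (11, 23),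 (2, 52), (10, 22), (8, 8), (10, 30), (8, 36), (11, 6), (8, 72), (10, 60), (8, 43), (2, 50), (11, 15), (10, 23), (10, 31), (9, 36), (10, 15), (8, 1), (10, 44), (2, 10), (9, 8), (10, 68), (10, 70), (9, 1), (8, 22), (10, 38), (11, 56), (11, 22), (11, 72), (8, 15), (11, 48), (8, 56), (8, 51), (9, 43), (9, 74), (8, 63), (11, 38), (8, 79), (11, 30), (9, 49), (10, 46), (10, 78), (8, 58), (9, 81), (4, 1), (10, 4), (8, 5), (8, 88), (5, 13), (5, 1), (10, 74), (2, 0), (4, 4), (6, 9), (6, 15), (6, 13), (6, 11), (3, 66), (5, 4), (3, 32), (2, 6), (10, 57), (11, 20), (10, 58), (11, 69), (10, 41), (8, 81), (11, 54), (11, 61), (10, 50), (11,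 70), (11, 46), (11, 53), (2, 54), (11, 62), (8, 74), (10, 66), (10, 49), (8, 67), (8, 17), (10, 42), (8, 53), (9, 99), (8, 95), (11, 34), (11, 45), (8, 31), (8, 3), (10, 73), (9, 90), (11, 28), (10, 65), (11, 77), (9, 55), (9, 83), (9, 19), (8, 60), (9, 97), (9, 69), (10, 2), (9, 24), (9, 26), (10, 28), (8, 47), (9, 45), (4, 0), (9, 50), (3, 0), (4, 11), (3, 29), (8, 0), (11, 18), (9, 38), (3, 13), (3, 44), (3, 45), (3, 33), (9, 51), (3, 20), (9, 76), (9, 96), (10, 54), (11, 10), (11, 9), (9, 7), (3, 10), (8, 86), (9, 31), (3, 37), (11, 52), (10, 62), (9, 15), (10, 26), (3, 52), (11, 35), (8, 4), (11, 44)]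

/-- The relators, as words of columns. -/
def relWords : List (List ℕ) := [[0, 0, 0, 0, 0], [2, 2, 2, 2, 2, 2, 2], [3, 0, 2, 1, 2, 0, 3, 1, 3, 0, 2, 1, 2, 0, 3, 1, 3, 0, 2, 1, 2, 0, 3, 1, 3, 0, 2, 1, 2, 0, 3, 1, 3, 0, 2, 1, 2, 0, 3, 1, 3, 0, 2, 1, 2, 0, 3, 1, 3, 0, 2, 1, 2, 0, 3, 1, 3, 0, 2, 1, 2, 0, 3, 1, 3, 0, 2, 1, 2, 0, 3, 1, 3, 0, 2, 1, 2, 0, 3, 1, 3, 0, 2, 1, 2, 0, 3, 1, 3, 0, 2, 1, 2, 0, 3, 1, 3, 0, 2, 1, 2, 0, 3, 1, 3, 0, 2, 1, 2, 0, 3, 1, 3, 0, 2, 1, 2, 0, 3, 1, 3, 0, 2, 1, 2, 0, 3, 1, 1], [3, 1, 2, 1, 2, 0, 3, 0, 3, 1, 2, 1, 2, 0, 3, 0, 3, 1, 2, 1, 2, 0, 3, 0, 3, 1, 2, 1, 2, 0, 3, 0, 3, 1, 2, 1, 2, 0, 3, 0, 3, 1,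 2, 1, 2, 0, 3, 0, 3, 1, 2, 1, 2, 0, 3, 0, 3, 1, 2, 1, 2, 0, 3, 0, 3, 3, 3, 3, 3], [0, 3, 0, 0, 3, 0, 2, 1, 1, 2, 1, 1], [0, 3, 0, 0, 3, 0, 2, 1, 2, 1, 1, 2, 1, 3], [1, 2, 1, 2, 1, 2, 1, 2, 0, 3, 0, 3, 0, 3, 0, 3], [1, 2, 1, 2, 1, 2, 1, 2, 0, 3, 0, 3, 0, 3, 0, 3], [0, 2, 0, 3, 0, 3, 0, 0, 2, 0, 3, 0, 3, 0, 0, 2, 0, 3, 0, 3, 0, 0, 2, 0, 3, 0, 3, 0, 0, 2, 0, 3, 0, 3, 0, 0, 2, 0, 3, 0, 3, 0, 0, 2, 0, 3, 0, 3, 0, 2, 1, 2, 1, 3, 1, 1, 2, 1, 2, 1, 3, 1, 1, 2, 1, 2, 1, 3, 1, 1, 2, 1, 2, 1, 3, 1, 1, 2, 1, 2, 1, 3, 1, 1, 2, 1, 2, 1, 3, 1, 1, 2, 1, 2, 1, 3, 1, 1], [0, 2, 0, 3, 0, 3, 0, 0, 2, 0, 3, 0, 3, 0, 0, 2, 0, 3, 0, 3, 0, 0, 2,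 0, 3, 0, 3, 0, 0, 2, 0, 3, 0, 3, 0, 0, 2, 0, 3, 0, 3, 0, 0, 2, 0, 3, 0, 3, 0, 2, 1, 2, 1, 2, 1, 3, 1, 1, 2, 1, 2, 1, 3, 1, 1, 2, 1, 2, 1, 3, 1, 1, 2, 1, 2, 1, 3, 1, 1, 2, 1, 2, 1, 3, 1, 1, 2, 1, 2, 1, 3, 1, 1, 2, 1, 2, 1, 3, 1, 3], [0, 0, 3, 0, 3, 0, 2, 2, 0, 0, 3, 0, 3, 0, 2, 2, 0, 0, 3, 0, 3, 0, 2, 2, 0, 0, 3, 0, 3, 0, 2, 2, 0, 0, 3, 0, 3, 0, 2, 2, 0, 3, 3, 1, 2, 1, 2, 1, 1, 3, 3, 1, 2, 1, 2, 1, 1, 3, 3, 1, 2, 1, 2, 1, 1, 3, 3, 1, 2, 1, 2, 1, 1, 3, 3, 1, 2, 1, 2, 1, 1, 1], [0, 0, 3, 0, 3, 0, 2, 2, 0, 0, 3, 0, 3, 0, 2, 2, 0, 0, 3, 0, 3, 0, 2, 2, 0, 0, 3, 0, 3, 0, 2, 2, 0, 0, 3, 0, 3, 0, 2, 1, 2, 1, 2, 1, 1, 3, 3, 1, 2, 1,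 2, 1, 1, 3, 3, 1, 2, 1, 2, 1, 1, 3, 3, 1, 2, 1, 2, 1, 1, 3, 3, 1, 2, 1, 2, 1, 1, 3]]

/-- The words of the auxiliary columns. -/
def aux : List (List ℕ) := []

/-- The words checked on the permutation model, with auxiliary columns. -/
def mwordsA : List (List ℕ) := [[0, 0, 0, 0, 0], [2, 2, 2, 2, 2, 2, 2], [3, 0, 2, 1, 2, 0, 3, 1, 3, 0, 2, 1, 2, 0, 3, 1, 3, 0, 2, 1, 2, 0, 3, 1, 3, 0, 2, 1, 2, 0, 3, 1, 3, 0, 2, 1, 2, 0, 3, 1, 3, 0, 2, 1, 2, 0, 3, 1, 3, 0, 2, 1, 2, 0, 3, 1, 3, 0, 2, 1, 2, 0, 3, 1, 3, 0, 2, 1, 2, 0, 3, 1, 3, 0, 2, 1, 2, 0, 3, 1, 3, 0, 2, 1, 2, 0, 3, 1, 3, 0, 2, 1, 2, 0, 3, 1, 3, 0, 2, 1, 2, 0, 3, 1, 3, 0, 2, 1,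 2, 0, 3, 1, 3, 0, 2, 1, 2, 0, 3, 1, 3, 0, 2, 1, 2, 0, 3, 1, 1], [3, 1, 2, 1, 2, 0, 3, 0, 3, 1, 2, 1, 2, 0, 3, 0, 3, 1, 2, 1, 2, 0, 3, 0, 3, 1, 2, 1, 2, 0, 3, 0, 3, 1, 2, 1, 2, 0, 3, 0, 3, 1, 2, 1, 2, 0, 3, 0, 3, 1, 2, 1, 2, 0, 3, 0, 3, 1, 2, 1, 2, 0, 3, 0, 3, 3, 3, 3, 3], [0, 3, 0, 0, 3, 0, 2, 1, 1, 2, 1, 1], [0, 3, 0, 0, 3, 0, 2, 1, 2, 1, 1, 2, 1, 3], [1, 2, 1, 2, 1, 2, 1, 2, 0, 3, 0, 3, 0, 3, 0, 3], [1, 2, 1, 2, 1, 2, 1, 2, 0, 3, 0, 3, 0, 3, 0, 3], [0, 2, 0, 3, 0, 3, 0, 0, 2, 0, 3, 0, 3, 0, 0, 2, 0, 3, 0, 3, 0, 0, 2, 0, 3, 0, 3, 0, 0, 2, 0, 3, 0, 3, 0, 0, 2, 0, 3, 0, 3, 0, 0, 2, 0, 3, 0, 3, 0, 2, 1, 2, 1, 3, 1, 1, 2, 1,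 2, 1, 3, 1, 1, 2, 1, 2, 1, 3, 1, 1, 2, 1, 2, 1, 3, 1, 1, 2, 1, 2, 1, 3, 1, 1, 2, 1, 2, 1, 3, 1, 1, 2, 1, 2, 1, 3, 1, 1], [0, 2, 0, 3, 0, 3, 0, 0, 2, 0, 3, 0, 3, 0, 0, 2, 0, 3, 0, 3, 0, 0, 2, 0, 3, 0, 3, 0, 0, 2, 0, 3, 0, 3, 0, 0, 2, 0, 3, 0, 3, 0, 0, 2, 0, 3, 0, 3, 0, 2, 1, 2, 1, 2, 1, 3, 1, 1, 2, 1, 2, 1, 3, 1, 1, 2, 1, 2, 1, 3, 1, 1, 2, 1, 2, 1, 3, 1, 1, 2, 1, 2, 1, 3, 1, 1, 2, 1, 2, 1, 3, 1, 1, 2, 1, 2, 1, 3, 1, 3], [0, 0, 3, 0, 3, 0, 2, 2, 0, 0, 3, 0, 3, 0, 2, 2, 0, 0, 3, 0, 3, 0, 2, 2, 0, 0, 3, 0, 3, 0, 2, 2, 0, 0, 3, 0, 3, 0, 2, 2, 0, 3, 3, 1, 2, 1, 2, 1, 1, 3, 3, 1, 2, 1, 2, 1, 1, 3, 3, 1, 2, 1, 2, 1, 1, 3, 3, 1, 2,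 1, 2, 1, 1, 3, 3, 1, 2, 1, 2, 1, 1, 1], [0, 0, 3, 0, 3, 0, 2, 2, 0, 0, 3, 0, 3, 0, 2, 2, 0, 0, 3, 0, 3, 0, 2, 2, 0, 0, 3, 0, 3, 0, 2, 2, 0, 0, 3, 0, 3, 0, 2, 1, 2, 1, 2, 1, 1, 3, 3, 1, 2, 1, 2, 1, 1, 3, 3, 1, 2, 1, 2, 1, 1, 3, 3, 1, 2, 1, 2, 1, 1, 3, 3, 1, 2, 1, 2, 1, 1, 3]]

/-- The table. -/
noncomputable def tab : Tab where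
  k := 4
  inv := fun c => (bif Nat.beq c 0 then 1 else (bif Nat.beq c 1 then 0 else (bif Nat.beq c 2 then 3 else (bif Nat.beq c 3 then 2 else c))))
  N := 73421
  n := 16640
  Tmax := 281028
  wn := 17
  mn := 0x1ffff
  subs := [[2]]
  rot := fun i => rotT.getF i
  ent := fun c i => bget2 (BT.node 1024 entT_0 entT_1) 9 8 36 0xfffffffff 255 c i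
  cer := fun c i => bget2 cerT_0 8 9 20 0xfffff 511 c i
  tau := fun c i => bget2 tauT_0 5 10 15 0x7fff 1023 c i
  lk := fun i => bget lkT_0 8 36 0xfffffffff 255 i
  lc := fun i => bget lcT_0 8 38 0x3fffffffff 255 i
  pn := fun i => bget pnT_0 9 19 0x7ffff 511 i
  cls := fun i => bget clsT_0 10 15 0x7fff 1023 i
  rep := fun i => bget repT_0 9 17 0x1ffff 511 i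

end Cfsg.Agent.Helper9.TCData.Sz8C0
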