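import Cfsg.Agent.Lib.Helper9.TCData.Sz8C0.Main

set_option autoImplicit false
set_option maxRecDepth 1000000

namespace Cfsg.Agent.Helper9.TCData.Sz8C0
open Cfsg.Agent.Helper9.TC2

theorem e3_11 : allRange 42994 5228 (fun u => chkE tab 3 u) = true := by decide +kernel

theorem e3_12 : allRange 48222 5777 (fun u => chkE tab 3 u) = true := by decide +kernel

theorem e3_13 : allRange 53999 4953 (fun u => chkE tab 3 u) = true := by decide +kernel

theorem e3_14 : allRange 58952 5396 (fun u => chkE tab 3 u) = true := by decide +kernel

theorem e3_15 : allRange 64348 4742 (fun u => chkE tab 3 u) = true := by decide +kernel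

theorem e3_16 : allRange 69090 1203 (fun u => chkE tab 3 u) = true := by decide +kernel

theorem e3_17 : allRange 70293 895 (fun u => chkE tab 3 u) = true := by decide +kernel

theorem e3_18 : allRange 71188 860 (fun u => chkE tab 3 u) = true := by decide +kernel


end Cfsg.Agent.Helper9.TCData.Sz8C0
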