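import Cfsg.Agent.Lib.Helper9.TCData.Sz8C0.Main

set_option autoImplicit false
set_option maxRecDepth 1000000

namespace Cfsg.Agent.Helper9.TCData.Sz8C0
open Cfsg.Agent.Helper9.TC2

theorem m2_719 : allRange 15818 22 (fun u => chkFix tab mwordsA u) = true := by decide +kernel

theorem m2_720 : allRange 15840 22 (fun u => chkFix tab mwordsA u) = true := by decide +kernel

theorem m2_721 : allRange 15862 22 (fun u => chkFix tab mwordsA u) = true := by decide +kernel

theorem m2_722 : allRange 15884 22 (fun u => chkFix tab mwordsA u) = true := by decide +kernel

theorem m2_723 : allRange 15906 22 (fun u => chkFix tab mwordsA u) = true := by decide +kernel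

theorem m2_724 : allRange 15928 22 (fun u => chkFix tab mwordsA u) = true := by decide +kernel

theorem m2_725 : allRange 15950 22 (fun u => chkFix tab mwordsA u) = true := by decide +kernel

theorem m2_726 : allRange 15972 22 (fun u => chkFix tab mwordsA u) = true := by decide +kernel


end Cfsg.Agent.Helper9.TCData.Sz8C0
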