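import Cfsg.Agent.Lib.Helper9.TCData.Sz8C0.Main

set_option autoImplicit false
set_option maxRecDepth 1000000

namespace Cfsg.Agent.Helper9.TCData.Sz8C0
open Cfsg.Agent.Helper9.TC2

theorem m2_143 : allRange 3146 22 (fun u => chkFix tab mwordsA u) = true := by decide +kernel

theorem m2_144 : allRange 3168 22 (fun u => chkFix tab mwordsA u) = true := by decide +kernel

theorem m2_145 : allRange 3190 22 (fun u => chkFix tab mwordsA u) = true := by decide +kernel

theorem m2_146 : allRange 3212 22 (fun u => chkFix tab mwordsA u) = true := by decide +kernel

theorem m2_147 : allRange 3234 22 (fun u => chkFix tab mwordsA u) = true := by decide +kernel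

theorem m2_148 : allRange 3256 22 (fun u => chkFix tab mwordsA u) = true := by decide +kernel

theorem m2_149 : allRange 3278 22 (fun u => chkFix tab mwordsA u) = true := by decide +kernel

theorem m2_150 : allRange 3300 22 (fun u => chkFix tab mwordsA u) = true := by decide +kernel


end Cfsg.Agent.Helper9.TCData.Sz8C0
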