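import Cfsg.Agent.Lib.Helper9.TCData.Sz8C0.Main

set_option autoImplicit false
set_option maxRecDepth 1000000

namespace Cfsg.Agent.Helper9.TCData.Sz8C0
open Cfsg.Agent.Helper9.TC2

theorem m2_239 : allRange 5258 22 (fun u => chkFix tab mwordsA u) = true := by decide +kernel

theorem m2_240 : allRange 5280 22 (fun u => chkFix tab mwordsA u) = true := by decide +kernel

theorem m2_241 : allRange 5302 22 (fun u => chkFix tab mwordsA u) = true := by decide +kernel

theorem m2_242 : allRange 5324 22 (fun u => chkFix tab mwordsA u) = true := by decide +kernel

theorem m2_243 : allRange 5346 22 (fun u => chkFix tab mwordsA u) = true := by decide +kernel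

theorem m2_244 : allRange 5368 22 (fun u => chkFix tab mwordsA u) = true := by decide +kernel

theorem m2_245 : allRange 5390 22 (fun u => chkFix tab mwordsA u) = true := by decide +kernel

theorem m2_246 : allRange 5412 22 (fun u => chkFix tab mwordsA u) = true := by decide +kernel


end Cfsg.Agent.Helper9.TCData.Sz8C0
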