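import Cfsg.Agent.Lib.Helper9.TCData.Sz8C0.Main

set_option autoImplicit false
set_option maxRecDepth 1000000

namespace Cfsg.Agent.Helper9.TCData.Sz8C0
open Cfsg.Agent.Helper9.TC2

theorem m2_335 : allRange 7370 22 (fun u => chkFix tab mwordsA u) = true := by decide +kernel

theorem m2_336 : allRange 7392 22 (fun u => chkFix tab mwordsA u) = true := by decide +kernel

theorem m2_337 : allRange 7414 22 (fun u => chkFix tab mwordsA u) = true := by decide +kernel

theorem m2_338 : allRange 7436 22 (fun u => chkFix tab mwordsA u) = true := by decide +kernel

theorem m2_339 : allRange 7458 22 (fun u => chkFix tab mwordsA u) = true := by decide +kernel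

theorem m2_340 : allRange 7480 22 (fun u => chkFix tab mwordsA u) = true := by decide +kernel

theorem m2_341 : allRange 7502 22 (fun u => chkFix tab mwordsA u) = true := by decide +kernel

theorem m2_342 : allRange 7524 22 (fun u => chkFix tab mwordsA u) = true := by decide +kernel


end Cfsg.Agent.Helper9.TCData.Sz8C0
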